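import Groth.Agent.Lib.Helper54.FSchSpf2

/-! helper54: pullback (`comap`) of ideal sheaves is multiplicative: `comap_mul`, `comap_pow`. -/
set_option autoImplicit false
universe u
open AlgebraicGeometry CategoryTheory CategoryTheory.Limits

namespace Groth.Agent.Lib.Helper54.FSchSpf

theorem comap_iso_inv {R S : CommRingCat.{u}} (i : R ≅ S) (K : Ideal R) :
    K.comap i.inv.hom = K.map i.hom.hom := by
  let e : R ≃+* S := i.commRingCatIsoToRingEquiv
  exact Ideal.comap_symm e

theorem comap_iso_inv_mul {R S : CommRingCat.{u}} (i : R ≅ S) (K K' : Ideal R) :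
    (K * K').comap i.inv.hom = K.comap i.inv.hom * K'.comap i.inv.hom := by
  rw [comap_iso_inv, comap_iso_inv, comap_iso_inv, Ideal.map_mul]

/-- comap along an open immersion is multiplicative -/
theorem comap_mul_of_isOpenImmersion {X Y : Scheme.{u}} (j : X ⟶ Y) [IsOpenImmersion j]
    (I J : Y.IdealSheafData) : (I * J).comap j = I.comap j * J.comap j := by
  ext U : 2
  rw [Scheme.IdealSheafData.ideal_mul]
  simp only [Pi.mul_apply]
  rw [Scheme.IdealSheafData.ideal_comap_of_isOpenImmersion,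
    Scheme.IdealSheafData.ideal_comap_of_isOpenImmersion,
    Scheme.IdealSheafData.ideal_comap_of_isOpenImmersion, Scheme.IdealSheafData.ideal_mul]
  simp only [Pi.mul_apply]
  exact comap_iso_inv_mul _ _ _

theorem exists_idl (R : CommRingCat.{u}) (I : (Spec R).IdealSheafData) : ∃ K : Ideal R, I = idl R K := by
  refine ⟨(I.ideal ⟨⊤, isAffineOpen_top (Spec R)⟩).comap (Scheme.ΓSpecIso R).inv.hom, ?_⟩
  unfold idl
  rw [Ideal.comap_comap, ← CommRingCat.hom_comp, Iso.hom_inv_id]
  simp only [CommRingCat.hom_id, Ideal.comap_id]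
  exact ((Scheme.IdealSheafData.equivOfIsAffine (X := Spec R)).symm_apply_apply I).symm

theorem ofIdealTop_mul {X : Scheme.{u}} [IsAffine X] (J J' : Ideal Γ(X, ⊤)) :
    Scheme.IdealSheafData.ofIdealTop (J * J') =
      Scheme.IdealSheafData.ofIdealTop J * Scheme.IdealSheafData.ofIdealTop J' := by
  have := map_mul (Scheme.IdealSheafData.equivOfIsAffine (X := X)).symm J J'
  simpa using this

theorem idl_mul (R : CommRingCat.{u}) (J J' : Ideal R) : idl R (J * J') = idl R J * idl R J' := by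
  unfold idl
  rw [← ofIdealTop_mul]
  congr 1
  exact comap_iso_inv_mul (Scheme.ΓSpecIso R).symm J J'

theorem comap_mul_SpecMap {A B : CommRingCat.{u}} (φ : B ⟶ A) (I J : (Spec B).IdealSheafData) :
    (I * J).comap (Spec.map φ) = I.comap (Spec.map φ) * J.comap (Spec.map φ) := by
  obtain ⟨K, rfl⟩ := exists_idl B I
  obtain ⟨K', rfl⟩ := exists_idl B J
  rw [← idl_mul, idl_comap, idl_comap, idl_comap, Ideal.map_mul, idl_mul]

theorem comap_mul_of_isAffine {X Y : Scheme.{u}} [IsAffine X] [IsAffine Y] (g : X ⟶ Y)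
    (I J : Y.IdealSheafData) : (I * J).comap g = I.comap g * J.comap g := by
  have hnat : X.isoSpec.hom ≫ Spec.map g.appTop = g ≫ Y.isoSpec.hom :=
    Scheme.isoSpec_hom_naturality g
  have key : ∀ I : Y.IdealSheafData, I.comap g =
      ((I.comap Y.isoSpec.inv).comap (Spec.map g.appTop)).comap X.isoSpec.hom := by
    intro I
    rw [← Scheme.IdealSheafData.comap_comp, ← Scheme.IdealSheafData.comap_comp, hnat,
      Category.assoc, Iso.hom_inv_id, Category.comp_id]
  rw [key, key I, key J, comap_mul_of_isOpenImmersion, comap_mul_SpecMap,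
    comap_mul_of_isOpenImmersion]

/-- An ideal sheaf is determined by its restrictions to a covering family of affine opens. -/
theorem ideal_eq_of_comap_ι_eq {X : Scheme.{u}} {I J : X.IdealSheafData} (V : X.affineOpens)
    (h : I.comap V.1.ι = J.comap V.1.ι) : I.ideal V = J.ideal V := by
  have : IsAffine V.1.toScheme := V.2
  have h1 := congrArg (fun K : V.1.toScheme.IdealSheafData =>
    K.ideal ⟨⊤, isAffineOpen_top V.1.toScheme⟩) h
  simp only [] at h1
  rw [Scheme.IdealSheafData.ideal_comap_of_isOpenImmersion,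
    Scheme.IdealSheafData.ideal_comap_of_isOpenImmersion] at h1
  have hsurj : Function.Surjective (V.1.ι.appIso ⊤).inv.hom :=
    (ConcreteCategory.bijective_of_isIso (V.1.ι.appIso ⊤).inv).2
  have h2 := Ideal.comap_injective_of_surjective _ hsurj h1
  have hV : (⟨V.1.ι ''ᵁ ⊤, (isAffineOpen_top V.1.toScheme).image_of_isOpenImmersion V.1.ι⟩ :
      X.affineOpens) = V := Subtype.ext (Scheme.Opens.ι_image_top V.1)
  have aux : ∀ W W' : X.affineOpens, W = W' → I.ideal W = J.ideal W → I.ideal W' = J.ideal W' := by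
    rintro W _ rfl h
    exact h
  exact aux _ _ hV h2

theorem eq_of_comap_ι_eq {X : Scheme.{u}} {I J : X.IdealSheafData} {ι : Type*}
    (U : ι → X.affineOpens) (hU : ⨆ i, (U i).1 = ⊤)
    (h : ∀ i, I.comap (U i).1.ι = J.comap (U i).1.ι) : I = J :=
  Scheme.IdealSheafData.ext_of_iSup_eq_top U hU (fun i => ideal_eq_of_comap_ι_eq (U i) (h i))

/-- **Pullback of ideal sheaves is multiplicative.** -/
theorem comap_mul {X Y : Scheme.{u}} (f : X ⟶ Y) (I J : Y.IdealSheafData) :
    (I * J).comap f = I.comap f * J.comap f := by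
  let ι := {p : X.affineOpens × Y.affineOpens // p.1.1 ≤ f ⁻¹ᵁ p.2.1}
  refine eq_of_comap_ι_eq (ι := ι) (fun p => p.1.1) ?_ ?_
  · rw [eq_top_iff]
    intro x _
    obtain ⟨U, hU, hxU, -⟩ := TopologicalSpace.Opens.isBasis_iff_nbhd.mp Y.isBasis_affineOpens
      (show f x ∈ (⊤ : Y.Opens) from trivial)
    obtain ⟨V, hV, hxV, hVU⟩ := TopologicalSpace.Opens.isBasis_iff_nbhd.mp X.isBasis_affineOpens
      (show x ∈ f ⁻¹ᵁ U from hxU)
    exact TopologicalSpace.Opens.mem_iSup.mpr ⟨⟨(⟨V, hV⟩, ⟨U, hU⟩), hVU⟩, hxV⟩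
  · rintro ⟨⟨V, U⟩, hVU⟩
    have : IsAffine V.1.toScheme := V.2
    have : IsAffine U.1.toScheme := U.2
    have hres : f.resLE U.1 V.1 hVU ≫ U.1.ι = V.1.ι ≫ f := Scheme.Hom.resLE_comp_ι f hVU
    have key : ∀ K : Y.IdealSheafData, (K.comap f).comap V.1.ι =
        (K.comap U.1.ι).comap (f.resLE U.1 V.1 hVU) := by
      intro K
      rw [← Scheme.IdealSheafData.comap_comp, ← Scheme.IdealSheafData.comap_comp, hres]
    show ((I * J).comap f).comap V.1.ι = (I.comap f * J.comap f).comap V.1.ι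
    rw [key, comap_mul_of_isOpenImmersion, comap_mul_of_isAffine, comap_mul_of_isOpenImmersion,
      key, key]

theorem comap_pow {X Y : Scheme.{u}} (f : X ⟶ Y) (I : Y.IdealSheafData) (n : ℕ) :
    (I ^ n).comap f = (I.comap f) ^ n := by
  induction n with
  | zero =>
    rw [pow_zero, pow_zero]
    exact Scheme.IdealSheafData.comap_top f
  | succ n ih => rw [pow_succ, pow_succ, comap_mul, ih]

end Groth.Agent.Lib.Helper54.FSchSpf
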