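import Mathlib
import Groth.Prelude.Def_DRing2

/-!
# Splitting lemmas over a local ring, for complexes of finite free modules (helper54)

* `exact_and_free_of_exact_lTensor` : `X → Y → Z` with `g ∘ f = 0`, `Y` finite, `Z` finite free over a
  local ring, exact in the middle after `κ ⊗ -`; then exact in the middle and `Z ⧸ range g` is free.
* `exact_lTensor_of_exact_extendScalars` : bridge from `ModuleCat.extendScalars (residue R)` to
  `LinearMap.lTensor κ`.
* `exactAt_and_opcycles` : for a cochain complex `E` of finite free modules over a local ring such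
  that `κ ⊗ E` is exact at `j`: `E` is exact at `j` and `E.opcycles (j+1)` is finite free.
-/

set_option autoImplicit false
universe u

open TensorProduct CategoryTheory

namespace Groth.Agent.Lib.Helper54.LocalSplit

section Local

variable {R : Type u} [CommRing R] [IsLocalRing R]
  {X Y Z : Type u} [AddCommGroup X] [AddCommGroup Y] [AddCommGroup Z]
  [Module R X] [Module R Y] [Module R Z]

local notation "κ" => IsLocalRing.ResidueField R

/-- Key local lemma: `X → Y → Z` with `g ∘ f = 0`, `Y` finite, `Z` finite free, and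
`κ ⊗ X → κ ⊗ Y → κ ⊗ Z` exact in the middle.  Then `X → Y → Z` is exact in the middle and
`Z ⧸ range g` is free. -/
theorem exact_and_free_of_exact_lTensor (f : X →ₗ[R] Y) (g : Y →ₗ[R] Z) (hgf : g ∘ₗ f = 0)
    [Module.Finite R Y] [Module.Finite R Z] [Module.Free R Z]
    (h : Function.Exact (f.lTensor κ) (g.lTensor κ)) :
    Function.Exact f g ∧ Module.Free R (Z ⧸ LinearMap.range g) := by
  have hle : LinearMap.range f ≤ LinearMap.ker g := by
    rintro _ ⟨x, rfl⟩
    exact LinearMap.congr_fun hgf x
  let C := Y ⧸ LinearMap.range f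
  let π : Y →ₗ[R] C := (LinearMap.range f).mkQ
  let u : C →ₗ[R] Z := (LinearMap.range f).liftQ g hle
  have huπ : u ∘ₗ π = g := (LinearMap.range f).liftQ_mkQ g hle
  have hπ : Function.Surjective π := Submodule.mkQ_surjective _
  have hex : Function.Exact f π := LinearMap.exact_map_mkQ_range f
  have hexκ : Function.Exact (f.lTensor κ) (π.lTensor κ) := lTensor_exact κ hex hπ
  have hπκ : Function.Surjective (π.lTensor κ) := LinearMap.lTensor_surjective κ hπ
  have huκ : Function.Injective (u.lTensor κ) := by
    rw [injective_iff_map_eq_zero]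
    intro z hz
    obtain ⟨y, rfl⟩ := hπκ z
    have : (g.lTensor κ) y = 0 := by
      rw [← huπ, LinearMap.lTensor_comp]
      exact hz
    obtain ⟨x, rfl⟩ := (h y).1 this
    exact hexκ.apply_apply_eq_zero x
  have hrange : LinearMap.range u = LinearMap.range g := by
    rw [← huπ, LinearMap.range_comp, LinearMap.range_eq_top.2 hπ, Submodule.map_top]
  obtain ⟨l', hl'⟩ := (IsLocalRing.split_injective_iff_lTensor_residueField_injective u).2 huκ
  have hu : Function.Injective u := Function.HasLeftInverse.injective ⟨l', LinearMap.congr_fun hl'⟩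
  refine ⟨?_, ?_⟩
  · intro y
    constructor
    · intro hy
      have : u (π y) = 0 := by rw [← LinearMap.comp_apply, huπ]; exact hy
      have : π y = 0 := hu (this.trans (map_zero u).symm)
      exact (hex y).1 this
    · rintro ⟨x, rfl⟩
      exact LinearMap.congr_fun hgf x
  · have := Module.free_of_lTensor_residueField_injective u (LinearMap.range u).mkQ
      (Submodule.mkQ_surjective _) u.exact_map_mkQ_range huκ
    rwa [hrange] at this

end Local

section Bridge

variable (R : Type u) [CommRing R] [IsLocalRing R]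

local notation "κ" => IsLocalRing.ResidueField R
local notation "φ" => IsLocalRing.residue R

/-- `κ` with `R` acting through `residue` (as in `extendScalars`). -/
abbrev κ' : Type u := ↑((ModuleCat.restrictScalars φ).obj (ModuleCat.of κ κ))

/-- `κ` with `R` acting through `residue` (as in `extendScalars`) versus `κ` as an `R`-algebra. -/
noncomputable def eκ : κ' R ≃ₗ[R] κ where
  toFun x := x
  invFun x := x
  map_add' := fun _ _ => rfl
  map_smul' := fun r x => by
    refine (ModuleCat.restrictScalars.smul_def φ (M := ModuleCat.of κ κ) r x).trans ?_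
    show φ r * (show κ from x) = r • (show κ from x)
    rw [Algebra.smul_def]
    rfl
  left_inv := fun _ => rfl
  right_inv := fun _ => rfl

variable {R}

/-- comparison of `κ' ⊗ M` with `κ ⊗[R] M` -/
noncomputable def eM (M : Type u) [AddCommGroup M] [Module R M] :
    (κ' R ⊗[R] M) ≃ₗ[R] (κ ⊗[R] M) :=
  TensorProduct.congr (eκ R) (LinearEquiv.refl R M)

lemma eM_naturality' {M N : Type u} [AddCommGroup M] [Module R M] [AddCommGroup N] [Module R N]
    (F : M →ₗ[R] N) :
    (eM N).toLinearMap ∘ₗ (F.lTensor (κ' R)) = (F.lTensor κ) ∘ₗ (eM M).toLinearMap :=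
  TensorProduct.ext' (fun _ _ => rfl)

/-- Bridge: exactness after `ModuleCat.extendScalars (residue R)` gives exactness after
`LinearMap.lTensor κ`. -/
lemma exact_lTensor_of_exact_extendScalars {X Y Z : ModuleCat.{u} R} (F : X ⟶ Y) (G : Y ⟶ Z)
    (h : Function.Exact ((ModuleCat.extendScalars.{u,u,u} φ).map F)
      ((ModuleCat.extendScalars.{u,u,u} φ).map G)) :
    Function.Exact (F.hom.lTensor κ) (G.hom.lTensor κ) := by
  have h' : Function.Exact (F.hom.lTensor (κ' R)) (G.hom.lTensor (κ' R)) := h
  have nF := eM_naturality' F.hom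
  have nG := eM_naturality' G.hom
  intro y
  obtain ⟨y', rfl⟩ := (eM (R := R) Y).surjective y
  have e1 : (G.hom.lTensor κ) (eM (R := R) Y y') = eM (R := R) Z ((G.hom.lTensor (κ' R)) y') :=
    (LinearMap.congr_fun nG y').symm
  rw [e1]
  constructor
  · intro hy
    have : (G.hom.lTensor (κ' R)) y' = 0 :=
      (eM (R := R) Z).injective (hy.trans (map_zero _).symm)
    obtain ⟨x, hx⟩ := (h' y').1 this
    refine ⟨eM (R := R) X x, ?_⟩
    rw [← hx]
    exact (LinearMap.congr_fun nF x).symm
  · rintro ⟨x, hx⟩
    obtain ⟨x', rfl⟩ := (eM (R := R) X).surjective x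
    have e2 : (F.hom.lTensor κ) (eM (R := R) X x') = eM (R := R) Y ((F.hom.lTensor (κ' R)) x') :=
      (LinearMap.congr_fun nF x').symm
    rw [e2] at hx
    have := (eM (R := R) Y).injective hx
    rw [← this, (h' _).2 ⟨x', rfl⟩, map_zero]

end Bridge

section Cx

variable {R : Type u} [CommRing R]

/-- opcycles of a complex of modules as a quotient module -/
noncomputable def opcyclesIso (E : DRing.Cx R) (i j k : ℤ) (hij : i + 1 = j) (hjk : j + 1 = k) :
    E.opcycles j ≅ ModuleCat.of R (E.X j ⧸ LinearMap.range (E.d i j).hom) :=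
  ShortComplex.opcyclesMapIso (E.isoSc' i j k (by simp [← hij]) (by simp [← hjk])) ≪≫
    (E.sc' i j k).moduleCatOpcyclesIso

variable [IsLocalRing R]

local notation "κ" => IsLocalRing.ResidueField R
local notation "φ" => IsLocalRing.residue R

/-- For a cochain complex `E` of finite free modules over a local ring such that `κ ⊗ E` is exact
at `j`: `E` is exact at `j` and `E.opcycles (j+1)` is finite free. -/
theorem exactAt_and_opcycles (E : DRing.Cx R)
    (hff : ∀ i, Module.Finite R (E.X i) ∧ Module.Free R (E.X i)) (j : ℤ)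
    (h : (((ModuleCat.extendScalars.{u,u,u} φ).mapHomologicalComplex
      (ComplexShape.up ℤ)).obj E).ExactAt j) :
    E.ExactAt j ∧ Module.Finite R (E.opcycles (j + 1)) ∧ Module.Free R (E.opcycles (j + 1)) := by
  have := (hff j).1
  have := (hff (j + 1)).1
  have := (hff (j + 1)).2
  rw [HomologicalComplex.exactAt_iff' _ (j - 1) j (j + 1) (by simp) (by simp),
    ShortComplex.ShortExact.moduleCat_exact_iff_function_exact] at h
  have h2 := exact_lTensor_of_exact_extendScalars (E.d (j - 1) j) (E.d j (j + 1)) h
  obtain ⟨h3, h4⟩ := exact_and_free_of_exact_lTensor (E.d (j - 1) j).hom (E.d j (j + 1)).hom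
    (by rw [← ModuleCat.hom_comp, E.d_comp_d]; rfl) h2
  refine ⟨?_, ?_, ?_⟩
  · rw [HomologicalComplex.exactAt_iff' _ (j - 1) j (j + 1) (by simp) (by simp),
      ShortComplex.ShortExact.moduleCat_exact_iff_function_exact]
    exact h3
  · exact Module.Finite.equiv (opcyclesIso E j (j + 1) (j + 1 + 1) rfl rfl).toLinearEquiv.symm
  · exact Module.Free.of_equiv (opcyclesIso E j (j + 1) (j + 1 + 1) rfl rfl).toLinearEquiv.symm

end Cx

end Groth.Agent.Lib.Helper54.LocalSplit
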