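import Mathlib
import Groth.Agent.Lib.Helper84.HomPart

/-!
# Left derived functors are computed by K-projective complexes (helper54)

Let `F : K(C₁) ⥤ D(B-Mod)` be any functor having a (total) left derived functor `LF` with respect
to quasi-isomorphisms, with counit `α : Qh ⋙ LF ⟶ F`.  Then for every K-projective cochain
complex `E` (e.g. a bounded above complex of projective objects), `α` is an isomorphism at `E`.

No existence of K-projective resolutions is used: the proof tests against the functors
`X ↦ (free B-module on Hom_K(E, X))[-i]` and uses the universal property of right Kan extensions.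

Main results:
* `bijective_map_counit_app` : abstract version (localization `L : C ⥤ D`, an object `P` such that
  `Hom(P, -)` inverts `W`, and an adjunction `T ⊣ Φ` with `Φ : H ⥤ Type w`).
* `adj B i` : the adjunction `(free B-module)[-i] ⊣ (underlying set of H^i)` on `D(B)`.
* `isIso_counit_app` / `isIso_totalLeftDerivedCounit_app` : the counit is an isomorphism on
  K-projective complexes.
-/

set_option autoImplicit false

open CategoryTheory

namespace Groth.Agent.Lib.Helper54.LDerived

universe w v₁ v₂ u₁ u₂ u₃ u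

section Abstract

variable {C : Type u₁} [Category.{w} C] {D : Type u₂} [Category.{v₁} D]
  {H : Type u₃} [Category.{v₂} H]

/-- The test functor `X ↦ T (Hom (P, X))`. -/
abbrev testFunctor (P : C) (T : Type w ⥤ H) : C ⥤ H := coyoneda.obj (Opposite.op P) ⋙ T

variable {T : Type w ⥤ H} {Φ : H ⥤ Type w} (adj : T ⊣ Φ) (P : C)

/-- Natural transformations out of the test functor are elements of `Φ (K P)`. -/
noncomputable def testEquiv (K : C ⥤ H) : (testFunctor P T ⟶ K) ≃ Φ.obj (K.obj P) :=
  ((adj.whiskerRight C).homEquiv (coyoneda.obj (Opposite.op P)) K).trans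
    (coyonedaEquiv (F := K ⋙ Φ))

lemma testEquiv_comp {K K' : C ⥤ H} (θ : testFunctor P T ⟶ K) (τ : K ⟶ K') :
    testEquiv adj P K' (θ ≫ τ) = Φ.map (τ.app P) (testEquiv adj P K θ) := by
  dsimp only [testEquiv]
  rw [Equiv.trans_apply, Equiv.trans_apply, Adjunction.homEquiv_naturality_right,
    coyonedaEquiv_comp]
  rfl

variable (L : C ⥤ D) (W : MorphismProperty C) [L.IsLocalization W]
  {F : C ⥤ H} (LF : D ⥤ H) (α : L ⋙ LF ⟶ F) [LF.IsLeftDerivedFunctor α W]

lemma testFunctor_inverts (T : Type w ⥤ H)
    (hP : ∀ ⦃X Y : C⦄ (s : X ⟶ Y), W s → Function.Bijective (fun g : P ⟶ X => g ≫ s)) :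
    W.IsInvertedBy (testFunctor P T) := by
  intro X Y s hs
  have : IsIso ((coyoneda.obj (Opposite.op P)).map s) := (isIso_iff_bijective _).2 (hP s hs)
  show IsIso (T.map ((coyoneda.obj (Opposite.op P)).map s))
  infer_instance

include adj W in
/-- **Key lemma**: the counit of a left derived functor is "`Φ`-bijective" at an object `P`
such that `Hom(P, -)` inverts `W`, for every `Φ : H ⥤ Type w` having a left adjoint. -/
theorem bijective_map_counit_app
    (hP : ∀ ⦃X Y : C⦄ (s : X ⟶ Y), W s → Function.Bijective (fun g : P ⟶ X => g ≫ s)) :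
    Function.Bijective (Φ.map (α.app P)) := by
  have hinv := testFunctor_inverts P W T hP
  let G : D ⥤ H := Localization.lift (testFunctor P T) hinv L
  let e : L ⋙ G ≅ testFunctor P T := Localization.fac (testFunctor P T) hinv L
  constructor
  · intro d₁ d₂ h
    let θ₁ : testFunctor P T ⟶ L ⋙ LF := (testEquiv adj P (L ⋙ LF)).symm d₁
    let θ₂ : testFunctor P T ⟶ L ⋙ LF := (testEquiv adj P (L ⋙ LF)).symm d₂
    have h12 : θ₁ ≫ α = θ₂ ≫ α := by
      apply (testEquiv adj P F).injective
      rw [testEquiv_comp, testEquiv_comp]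
      simpa [θ₁, θ₂] using h
    let ff := Localization.fullyFaithfulWhiskeringLeft L W H
    let γ₁ : G ⟶ LF := ff.preimage (e.hom ≫ θ₁)
    let γ₂ : G ⟶ LF := ff.preimage (e.hom ≫ θ₂)
    have hγ₁ : Functor.whiskerLeft L γ₁ = e.hom ≫ θ₁ := ff.map_preimage _
    have hγ₂ : Functor.whiskerLeft L γ₂ = e.hom ≫ θ₂ := ff.map_preimage _
    have : γ₁ = γ₂ := by
      apply Functor.leftDerived_ext LF α W
      rw [hγ₁, hγ₂, Category.assoc, Category.assoc, h12]
    have h' : e.hom ≫ θ₁ = e.hom ≫ θ₂ := by rw [← hγ₁, ← hγ₂, this]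
    have h'' : θ₁ = θ₂ := by simpa using h'
    simpa [θ₁, θ₂] using h''
  · intro c
    let β' : testFunctor P T ⟶ F := (testEquiv adj P F).symm c
    let γ : G ⟶ LF := LF.leftDerivedLift α W G (e.hom ≫ β')
    have hγ : Functor.whiskerLeft L γ ≫ α = e.hom ≫ β' := LF.leftDerived_fac α W G _
    refine ⟨testEquiv adj P (L ⋙ LF) (e.inv ≫ Functor.whiskerLeft L γ), ?_⟩
    rw [← testEquiv_comp, Category.assoc, hγ, Iso.inv_hom_id_assoc]
    simp [β']

end Abstract

section Concrete

open DerivedCategory Groth.Agent.Lib.Helper84.HomPart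

variable (B : Type u) [Ring B] [HasDerivedCategory.{v₂} (ModuleCat.{u} B)]

/-- free module on a set, placed in degree `i` -/
noncomputable abbrev freeSingle (i : ℤ) : Type u ⥤ DerivedCategory (ModuleCat.{u} B) :=
  ModuleCat.free B ⋙ DerivedCategory.singleFunctor (ModuleCat.{u} B) i

/-- underlying set of `H^i` -/
noncomputable abbrev homologySet (i : ℤ) : DerivedCategory (ModuleCat.{u} B) ⥤ Type u :=
  DerivedCategory.homologyFunctor (ModuleCat.{u} B) i ⋙ forget (ModuleCat.{u} B)

instance projective_free (S : Type u) : Projective ((ModuleCat.free B).obj S) := by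
  have : Module.Projective B (S →₀ B) := inferInstance
  exact ModuleCat.projective_of_categoryTheory_projective (R := B) (P := ModuleCat.of B (S →₀ B))

/-- `Hom_{D(B)}(B^(S)[-i], Y) ≃ (S → H^i(Y))`. -/
noncomputable def homEquiv (i : ℤ) (S : Type u) (Y : DerivedCategory (ModuleCat.{u} B)) :
    ((freeSingle B i).obj S ⟶ Y) ≃ (S ⟶ (homologySet B i).obj Y) :=
  (Equiv.ofBijective (homPart (P := (ModuleCat.free B).obj S) (j := i) (Y := Y))
    ⟨fun _ _ h => eq_of_homPart_eq _ _ h, fun g => exists_homPart_eq i Y g⟩).trans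
    ((ModuleCat.adj B).homEquiv S _)

lemma homEquiv_apply (i : ℤ) (S : Type u) (Y : DerivedCategory (ModuleCat.{u} B))
    (φ : (freeSingle B i).obj S ⟶ Y) :
    homEquiv B i S Y φ = (ModuleCat.adj B).homEquiv S _ (homPart φ) := rfl

/-- The adjunction `(free module)[-i] ⊣ (underlying set of H^i)` between `Type u` and `D(B)`. -/
noncomputable def adj (i : ℤ) : freeSingle B i ⊣ homologySet B i :=
  Adjunction.mkOfHomEquiv
    { homEquiv := homEquiv B i
      homEquiv_naturality_left_symm := by
        intro S' S Y f g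
        apply (homEquiv B i S' Y).injective
        rw [Equiv.apply_symm_apply, homEquiv_apply]
        have : (freeSingle B i).map f ≫ (homEquiv B i S Y).symm g =
          (singleFunctor (ModuleCat.{u} B) i).map ((ModuleCat.free B).map f) ≫
            (homEquiv B i S Y).symm g := rfl
        rw [this, homPart_map_comp, Adjunction.homEquiv_naturality_left, ← homEquiv_apply,
          Equiv.apply_symm_apply]
      homEquiv_naturality_right := by
        intro S Y Y' f g
        rw [homEquiv_apply, homEquiv_apply, homPart_comp, Adjunction.homEquiv_naturality_right]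
        rfl }

end Concrete

section KProj

open DerivedCategory

variable {C₁ : Type u₁} [Category.{u} C₁] [Abelian C₁] [HasDerivedCategory.{v₁} C₁]

/-- For a K-projective complex `E`, the functor `Hom_K(E, -)` inverts quasi-isomorphisms. -/
lemma bijective_comp_of_isKProjective (E : CochainComplex C₁ ℤ) [E.IsKProjective]
    ⦃X Y : HomotopyCategory C₁ (ComplexShape.up ℤ)⦄ (s : X ⟶ Y)
    (hs : HomotopyCategory.quasiIso C₁ (ComplexShape.up ℤ) s) :
    Function.Bijective (fun g : (HomotopyCategory.quotient _ _).obj E ⟶ X => g ≫ s) := by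
  have hX := CochainComplex.IsKProjective.Qh_map_bijective E X
  have hY := CochainComplex.IsKProjective.Qh_map_bijective E Y
  have : IsIso (Qh.map s) := Localization.inverts Qh (HomotopyCategory.quasiIso C₁ _) s hs
  rw [← Function.Bijective.of_comp_iff' hY]
  have h2 : Function.Bijective
      (fun g : Qh.obj ((HomotopyCategory.quotient _ _).obj E) ⟶ Qh.obj X => g ≫ Qh.map s) :=
    ⟨fun a b h => (cancel_mono (Qh.map s)).1 h, fun b => ⟨b ≫ inv (Qh.map s), by simp⟩⟩
  convert h2.comp hX using 1
  ext g
  simp

variable {B : Type u} [Ring B] [HasDerivedCategory.{v₂} (ModuleCat.{u} B)]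

/-- **The counit of a left derived functor `K(C₁) ⥤ D(B)` is an isomorphism on K-projective
complexes.** -/
theorem isIso_counit_app
    {F : HomotopyCategory C₁ (ComplexShape.up ℤ) ⥤ DerivedCategory (ModuleCat.{u} B)}
    (LF : DerivedCategory C₁ ⥤ DerivedCategory (ModuleCat.{u} B)) (α : Qh ⋙ LF ⟶ F)
    [LF.IsLeftDerivedFunctor α (HomotopyCategory.quasiIso C₁ (ComplexShape.up ℤ))]
    (E : CochainComplex C₁ ℤ) [E.IsKProjective] :
    IsIso (α.app ((HomotopyCategory.quotient _ _).obj E)) := by
  rw [DerivedCategory.isIso_iff]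
  intro n
  have h := bijective_map_counit_app (adj B n) ((HomotopyCategory.quotient _ _).obj E) Qh
    (HomotopyCategory.quasiIso C₁ (ComplexShape.up ℤ)) LF α
    (bijective_comp_of_isKProjective E)
  have h' : IsIso ((forget (ModuleCat.{u} B)).map
      ((homologyFunctor (ModuleCat.{u} B) n).map
        (α.app ((HomotopyCategory.quotient _ _).obj E)))) := (isIso_iff_bijective _).2 h
  exact isIso_of_reflects_iso _ (forget (ModuleCat.{u} B))

/-- Version for `Functor.totalLeftDerived`. -/
theorem isIso_totalLeftDerivedCounit_app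
    (F : HomotopyCategory C₁ (ComplexShape.up ℤ) ⥤ DerivedCategory (ModuleCat.{u} B))
    [F.HasLeftDerivedFunctor (HomotopyCategory.quasiIso C₁ (ComplexShape.up ℤ))]
    (E : CochainComplex C₁ ℤ) [E.IsKProjective] :
    IsIso ((F.totalLeftDerivedCounit Qh (HomotopyCategory.quasiIso C₁ (ComplexShape.up ℤ))).app
      ((HomotopyCategory.quotient _ _).obj E)) :=
  isIso_counit_app _ _ E

/-- The value of the total left derived functor on (the image of) a K-projective complex. -/
noncomputable def totalLeftDerivedObjIso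
    (F : HomotopyCategory C₁ (ComplexShape.up ℤ) ⥤ DerivedCategory (ModuleCat.{u} B))
    [F.HasLeftDerivedFunctor (HomotopyCategory.quasiIso C₁ (ComplexShape.up ℤ))]
    (E : CochainComplex C₁ ℤ) [E.IsKProjective] :
    (F.totalLeftDerived Qh (HomotopyCategory.quasiIso C₁ (ComplexShape.up ℤ))).obj (Q.obj E) ≅
      F.obj ((HomotopyCategory.quotient _ _).obj E) :=
  have := isIso_totalLeftDerivedCounit_app F E
  (F.totalLeftDerived Qh (HomotopyCategory.quasiIso C₁ (ComplexShape.up ℤ))).mapIso
      ((quotientCompQhIso C₁).symm.app E) ≪≫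
    asIso ((F.totalLeftDerivedCounit Qh (HomotopyCategory.quasiIso C₁ (ComplexShape.up ℤ))).app
      ((HomotopyCategory.quotient _ _).obj E))

end KProj

end Groth.Agent.Lib.Helper54.LDerived
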