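import Groth.Prelude.Def_DRing2
import Groth.Prelude.Def_DDual2
import Groth.Agent.Lib.Helper54.LDerivedKProj

/-!
# `DRing.LBaseChange` and `DRing.LTensor` on K-projective complexes (helper54)

For a K-projective complex `E` of `A`-modules (e.g. bounded above with projective terms):
* `lbaseChangeIso φ E : (LBaseChange φ).obj (toD E) ≅ toD (B ⊗_A E)` (termwise extension of scalars);
* `ltensorIso A M E : (LTensor A M).obj (toD E) ≅ toD (E ⊗_A M)` (termwise `tensorRight M`).
-/

set_option autoImplicit false
universe u
open CategoryTheory CategoryTheory.Limits MonoidalCategory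
attribute [local instance] HasDerivedCategory.standard

namespace Groth.Agent.Lib.Helper54.LDerived

open DerivedCategory

section

variable {A B : Type u} [CommRing A] [CommRing B] (φ : A →+* B)

/-- termwise extension of scalars of a complex -/
noncomputable abbrev extCx : DRing.Cx A ⥤ DRing.Cx B :=
  (ModuleCat.extendScalars.{u, u, u} φ).mapHomologicalComplex (ComplexShape.up ℤ)

/-- `baseChangeKh φ` on the image of a complex. -/
noncomputable def baseChangeKhObjIso (E : DRing.Cx A) :
    (DRing.baseChangeKh φ).obj ((HomotopyCategory.quotient _ _).obj E) ≅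
      DRing.toD ((extCx φ).obj E) :=
  Qh.mapIso (((ModuleCat.extendScalars.{u, u, u} φ).mapHomotopyCategoryFactors
    (ComplexShape.up ℤ)).app E) ≪≫ (quotientCompQhIso (ModuleCat.{u} B)).app _

/-- **Derived base change of a K-projective complex is computed termwise.** -/
noncomputable def lbaseChangeIso [DRing.HasLBaseChange φ] (E : DRing.Cx A) [E.IsKProjective] :
    (DRing.LBaseChange φ).obj (DRing.toD E) ≅ DRing.toD ((extCx φ).obj E) :=
  totalLeftDerivedObjIso (DRing.baseChangeKh φ) E ≪≫ baseChangeKhObjIso φ E

end

section

variable (A : Type u) [CommRing A] (M : ModuleCat.{u} A)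

/-- termwise `- ⊗_A M` of a complex -/
noncomputable abbrev tensorCx : DRing.Cx A ⥤ DRing.Cx A :=
  (tensorRight M).mapHomologicalComplex (ComplexShape.up ℤ)

/-- `tensorKh A M` on the image of a complex. -/
noncomputable def tensorKhObjIso (E : DRing.Cx A) :
    (DRing.tensorKh A M).obj ((HomotopyCategory.quotient _ _).obj E) ≅
      DRing.toD ((tensorCx A M).obj E) :=
  Qh.mapIso (((tensorRight M).mapHomotopyCategoryFactors
    (ComplexShape.up ℤ)).app E) ≪≫ (quotientCompQhIso (ModuleCat.{u} A)).app _

/-- **`K ⊗^L M` of a K-projective complex is computed termwise.** -/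
noncomputable def ltensorIso [DRing.HasLTensor A M] (E : DRing.Cx A) [E.IsKProjective] :
    (DRing.LTensor A M).obj (DRing.toD E) ≅ DRing.toD ((tensorCx A M).obj E) :=
  totalLeftDerivedObjIso (DRing.tensorKh A M) E ≪≫ tensorKhObjIso A M E

end

/-- A bounded above complex of projective modules is K-projective. -/
lemma isKProjective_of_vanishesAbove {A : Type u} [CommRing A] (E : DRing.Cx A) (b : ℤ)
    (hb : DRing.VanishesAbove E b) (hp : ∀ i : ℤ, Module.Projective A (E.X i)) :
    E.IsKProjective := by
  have : E.IsStrictlyLE b := (CochainComplex.isStrictlyLE_iff E b).2 (fun i hi => hb i hi)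
  have : ∀ n, Projective (E.X n) := fun n =>
    ModuleCat.projective_of_categoryTheory_projective (R := A) (P := E.X n)
  exact CochainComplex.isKProjective_of_projective E b

end Groth.Agent.Lib.Helper54.LDerived
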