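import Mathlib

/-!
# Affine space is smooth of relative dimension `d` (helper54)
-/

set_option autoImplicit false
universe u

open AlgebraicGeometry CategoryTheory

namespace Groth.Agent.Lib.Helper54.AffineSpaceSmoothDim

section Alg

variable (R : Type*) [CommRing R] (D : Type*)

/-- The presentation of the polynomial algebra with no relations. -/
noncomputable def presMv : Algebra.Presentation R (MvPolynomial D R) D PEmpty.{1} where
  __ := Algebra.Generators.mvPolynomial R D
  relation := PEmpty.elim
  span_range_relation_eq_ker := by
    have h1 : Set.range (PEmpty.elim : PEmpty.{1} → MvPolynomial D R) = ∅ := Set.range_eq_empty _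
    have h2 : (Algebra.Generators.mvPolynomial R D).ker = ⊥ := by
      rw [Algebra.Generators.ker_eq_ker_aeval_val]
      have : (MvPolynomial.aeval (Algebra.Generators.mvPolynomial R D).val :
          MvPolynomial D R →ₐ[R] MvPolynomial D R) = AlgHom.id R _ := by
        ext i
        simp [Algebra.Generators.mvPolynomial]
      rw [this]
      ext x
      simp [RingHom.mem_ker]
    rw [h1, Ideal.span_empty, h2]

/-- The submersive presentation of the polynomial algebra with no relations. -/
noncomputable def subPresMv : Algebra.SubmersivePresentation R (MvPolynomial D R) D PEmpty.{1} where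
  __ := presMv R D
  map := PEmpty.elim
  map_inj := fun x => x.elim
  jacobian_isUnit := by
    classical
    rw [Algebra.PreSubmersivePresentation.jacobian_eq_jacobiMatrix_det, Matrix.det_isEmpty,
      map_one]
    exact isUnit_one

theorem isStandardSmoothOfRelativeDimension_mvPolynomial [Finite D] :
    Algebra.IsStandardSmoothOfRelativeDimension (Nat.card D) R (MvPolynomial D R) := by
  apply (subPresMv R D).isStandardSmoothOfRelativeDimension
  simp [Algebra.Presentation.dimension]

end Alg

/-- Affine space over an affine base is smooth of relative dimension the number of variables. -/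
theorem smoothOfRelativeDimension_affineSpace (D : Type u) [Finite D] (R : CommRingCat.{u}) :
    SmoothOfRelativeDimension (Nat.card D) (𝔸(D; Spec R) ↘ Spec R) := by
  have h1 : 𝔸(D; Spec R) ↘ Spec R =
      (AffineSpace.SpecIso D R).hom ≫ Spec.map (CommRingCat.ofHom MvPolynomial.C) := by
    rw [← AffineSpace.SpecIso_inv_over, Iso.hom_inv_id_assoc]
  rw [h1, MorphismProperty.cancel_left_of_respectsIso (P := @SmoothOfRelativeDimension (Nat.card D)),
    HasRingHomProperty.Spec_iff (P := @SmoothOfRelativeDimension (Nat.card D))]
  apply RingHom.locally_of
  · exact RingHom.isStandardSmoothOfRelativeDimension_respectsIso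
  · have := isStandardSmoothOfRelativeDimension_mvPolynomial R D
    rw [← RingHom.isStandardSmoothOfRelativeDimension_algebraMap] at this
    exact this

end Groth.Agent.Lib.Helper54.AffineSpaceSmoothDim
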