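import Mathlib
import Groth.Agent.Lib.Helper1.FlatDescent

/-!
# Critère de platitude par fibres: basic lemmas (helper54)

* `flat_atPrime_descent`: pointwise descent of flatness along a commutative square
  with flat vertical maps (used for the residue field extension in Noetherian approximation).
* `ringHom_flat_of_comm`: transport of flatness of ring maps along a commutative square of isos.
-/

set_option autoImplicit false
set_option linter.style.haveILetI false
set_option linter.unusedSectionVars false
universe u

open TensorProduct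

namespace Groth.Agent.Lib.Helper54.CPF

/-- transport of flat ring maps along isomorphisms -/
theorem ringHom_flat_of_comm {C X C' X' : Type u} [CommRing C] [CommRing X] [CommRing C']
    [CommRing X'] (f : C →+* X) (f' : C' →+* X') (e₁ : C ≃+* C') (e₂ : X ≃+* X')
    (h : (e₂ : X →+* X').comp f = f'.comp (e₁ : C →+* C')) (hf : f.Flat) : f'.Flat := by
  have h1 : ((e₂ : X →+* X').comp f).Flat := RingHom.Flat.respectsIso.1 f e₂ hf
  rw [h] at h1
  have h2 : (f'.comp (e₁ : C →+* C')).comp (e₁.symm : C' →+* C) = f' := by
    ext x
    simp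
  rw [← h2]
  exact RingHom.Flat.respectsIso.2 _ e₁.symm h1

/-- transport of flatness of algebras along isomorphisms -/
theorem flat_of_ringEquiv {C X C' X' : Type u} [CommRing C] [CommRing X] [CommRing C']
    [CommRing X'] [Algebra C X] [Algebra C' X'] (e₁ : C ≃+* C') (e₂ : X ≃+* X')
    (h : ∀ c, e₂ (algebraMap C X c) = algebraMap C' X' (e₁ c)) (hf : Module.Flat C X) :
    Module.Flat C' X' := by
  have := ringHom_flat_of_comm (algebraMap C X) (algebraMap C' X') e₁ e₂ (RingHom.ext h)
    (RingHom.flat_algebraMap_iff.mpr hf)
  exact RingHom.flat_algebraMap_iff.mp this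

section descent

variable {C₁ D₁ C D : Type u} [CommRing C₁] [CommRing D₁] [CommRing C] [CommRing D]
  [Algebra C₁ D₁] [Algebra C₁ C] [Algebra D₁ D] [Algebra C D] [Algebra C₁ D]
  [IsScalarTower C₁ C D] [IsScalarTower C₁ D₁ D]

/-- Let `C₁ → D₁`, `C → D` be ring maps and `C₁ → C`, `D₁ → D` flat maps forming a commutative
square. If `D` is flat over `C` at a prime `Q` then `D₁` is flat over `C₁` at `Q ∩ D₁`. -/
theorem flat_atPrime_descent [Module.Flat C₁ C] [Module.Flat D₁ D]
    (Q : Ideal D) [Q.IsPrime] (h : Module.Flat C (Localization.AtPrime Q)) :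
    Module.Flat C₁ (Localization.AtPrime (Q.comap (algebraMap D₁ D))) := by
  haveI t1 : IsScalarTower C₁ C (Localization.AtPrime Q) := IsScalarTower.to₁₂₄ C₁ C D _
  haveI f1 : Module.Flat C₁ (Localization.AtPrime Q) :=
    Module.Flat.trans C₁ C (Localization.AtPrime Q)
  letI alg : Algebra (Localization.AtPrime (Q.comap (algebraMap D₁ D))) (Localization.AtPrime Q) :=
    (Localization.localRingHom (Q.comap (algebraMap D₁ D)) Q (algebraMap D₁ D) rfl).toAlgebra
  haveI t2 : IsScalarTower D₁ (Localization.AtPrime (Q.comap (algebraMap D₁ D)))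
      (Localization.AtPrime Q) := IsScalarTower.of_algebraMap_eq fun x => by
    simp [RingHom.algebraMap_toAlgebra, Localization.localRingHom_to_map,
      ← IsScalarTower.algebraMap_apply]
  haveI f2 : Module.Flat D₁ (Localization.AtPrime Q) :=
    Module.Flat.trans D₁ D (Localization.AtPrime Q)
  haveI f3 : Module.Flat (Localization.AtPrime (Q.comap (algebraMap D₁ D)))
      (Localization.AtPrime Q) :=
    (Module.flat_iff_of_isLocalization (Localization.AtPrime (Q.comap (algebraMap D₁ D)))
      (Q.comap (algebraMap D₁ D)).primeCompl (Localization.AtPrime Q)).2 f2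
  haveI loc : IsLocalHom (algebraMap (Localization.AtPrime (Q.comap (algebraMap D₁ D)))
      (Localization.AtPrime Q)) :=
    Localization.isLocalHom_localRingHom _ _ _ rfl
  haveI ff : Module.FaithfullyFlat (Localization.AtPrime (Q.comap (algebraMap D₁ D)))
      (Localization.AtPrime Q) := Module.FaithfullyFlat.of_flat_of_isLocalHom
  haveI t3 : IsScalarTower C₁ (Localization.AtPrime (Q.comap (algebraMap D₁ D)))
      (Localization.AtPrime Q) := IsScalarTower.of_algebraMap_eq fun x => by
    rw [IsScalarTower.algebraMap_apply C₁ D₁ (Localization.AtPrime (Q.comap (algebraMap D₁ D))),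
      ← IsScalarTower.algebraMap_apply D₁ (Localization.AtPrime (Q.comap (algebraMap D₁ D)))
        (Localization.AtPrime Q),
      IsScalarTower.algebraMap_apply C₁ D (Localization.AtPrime Q),
      IsScalarTower.algebraMap_apply C₁ D₁ D,
      ← IsScalarTower.algebraMap_apply D₁ D (Localization.AtPrime Q)]
  exact Groth.Agent.Lib.Helper1.flat_of_faithfullyFlat_of_flat C₁
    (Localization.AtPrime (Q.comap (algebraMap D₁ D))) (Localization.AtPrime Q)

end descent

end Groth.Agent.Lib.Helper54.CPF
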