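import Mathlib
import Groth.Agent.Lib.Helper54.CPFBasic

/-!
# Fibre of a localization vs localization of the fibre (helper54)

For `R → A → B`, a prime `p` of `R` and a prime `q` of the fibre ring `p.Fiber B = κ(p) ⊗ B`
with `Q = q ∩ B`: the local ring `(p.Fiber B)_q` is flat over `p.Fiber A` iff
`B_Q / p B_Q` is flat over `A / p A` (`flat_fiber_iff`).
-/

set_option autoImplicit false
set_option linter.style.haveILetI false
set_option linter.unusedSectionVars false
universe u

open TensorProduct Algebra Algebra.TensorProduct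

attribute [local instance] Algebra.TensorProduct.rightAlgebra

namespace Groth.Agent.Lib.Helper54.CPF

section bridge

variable {R S : Type u} [CommRing R] [CommRing S] [Algebra R S] (p : Ideal R) [p.IsPrime]

/-- `S`-linear version of Mathlib's `Ideal.Fiber.algEquivAux₂`: the localization of the fibre
`p.Fiber S` at a prime `q` is `S_r / p S_r`, `r = q ∩ S`. -/
noncomputable def bridge (q : Ideal (p.Fiber S)) [q.IsPrime] :
    letI r := q.comap includeRight
    letI Sr := Localization.AtPrime r
    letI pS := p.map (algebraMap R S)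
    Localization.AtPrime q ≃ₐ[S] Sr ⧸ pS.map (algebraMap S Sr) :=
  letI Sp := Localization (algebraMapSubmonoid S p.primeCompl)
  letI pS := p.map (algebraMap R S)
  letI SpS := S ⧸ pS
  letI r := q.comap includeRight
  letI Sr := Localization.AtPrime r
  letI e₁ : p.Fiber S ≃ₐ[S] Sp ⧸ pS.map (algebraMap S Sp) := Ideal.Fiber.algEquivAux₁ p
  letI q' : Ideal (Sp ⧸ pS.map (algebraMap S Sp)) := q.comap e₁.symm
  haveI : (q'.under SpS).LiesOver r := Ideal.under_liesOver_of_liesOver SpS q' (q.under S)
  haveI : algebraMapSubmonoid SpS r.primeCompl = (q'.under SpS).primeCompl :=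
    Ideal.algebraMapSubmonoid_primeCompl_of_liesOver_surjective (q'.under SpS) r
      Ideal.Quotient.mk_surjective
  haveI : IsLocalization (algebraMapSubmonoid SpS r.primeCompl) (Localization.AtPrime q') := by
    convert IsLocalization.isLocalization_isLocalization_atPrime_isLocalization
      (algebraMapSubmonoid SpS (algebraMapSubmonoid S p.primeCompl)) (Localization.AtPrime q') q'
  haveI := IsScalarTower.to₁₃₄ S SpS (Sp ⧸ pS.map (algebraMap S Sp)) (Localization.AtPrime q')
  (Localization.localAlgEquiv q' q e₁.symm rfl).symm.trans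
    ((IsLocalization.algEquiv (algebraMapSubmonoid SpS r.primeCompl) (Localization.AtPrime q')
      (Sr ⧸ pS.map (algebraMap S Sr))).restrictScalars S)

end bridge

section fib

variable {R A B : Type u} [CommRing R] [CommRing A] [CommRing B] [Algebra R A] [Algebra A B]
  [Algebra R B] [IsScalarTower R A B] (p : Ideal R) [p.IsPrime]

/-- the map of fibre rings `κ(p) ⊗ A → κ(p) ⊗ B`. -/
noncomputable def fibMap : p.Fiber A →ₐ[p.ResidueField] p.Fiber B :=
  Algebra.TensorProduct.map (AlgHom.id _ _) (IsScalarTower.toAlgHom R A B)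

@[reducible] noncomputable def fibAlgebra : Algebra (p.Fiber A) (p.Fiber B) :=
  (fibMap (A := A) (B := B) p).toRingHom.toAlgebra

/-- `A / pA → κ(p) ⊗ A`. -/
noncomputable def gam : (A ⧸ p.map (algebraMap R A)) →+* p.Fiber A :=
  Ideal.Quotient.lift _ (includeRight : A →ₐ[R] p.Fiber A).toRingHom (by
    intro a ha
    refine Submodule.span_induction (p := fun a _ => (includeRight : A →ₐ[R] p.Fiber A).toRingHom a = 0)
      ?_ ?_ ?_ ?_ ha
    · rintro _ ⟨x, hx, rfl⟩
      show (1 : p.ResidueField) ⊗ₜ[R] (algebraMap R A x) = 0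
      rw [Algebra.algebraMap_eq_smul_one, ← TensorProduct.smul_tmul, Algebra.smul_def, mul_one]
      have : algebraMap R p.ResidueField x = 0 := by
        rw [Ideal.algebraMap_residueField_eq_zero]
        exact hx
      rw [this, zero_tmul]
    · simp
    · intro x y _ _ hx hy
      rw [map_add, hx, hy, add_zero]
    · intro c x _ hx
      rw [smul_eq_mul, map_mul, hx, mul_zero])

theorem gam_mk (a : A) : gam (A := A) p (Ideal.Quotient.mk _ a) = 1 ⊗ₜ a := rfl

@[reducible] noncomputable def gamAlgebra : Algebra (A ⧸ p.map (algebraMap R A)) (p.Fiber A) :=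
  (gam (A := A) p).toAlgebra

theorem isLocalization_gam :
    letI := gamAlgebra (A := A) p
    IsLocalization (algebraMapSubmonoid (A ⧸ p.map (algebraMap R A))
      (algebraMapSubmonoid A p.primeCompl)) (p.Fiber A) := by
  letI := gamAlgebra (A := A) p
  haveI : IsScalarTower A (A ⧸ p.map (algebraMap R A)) (p.Fiber A) :=
    IsScalarTower.of_algebraMap_eq fun a => rfl
  let e₅ := Ideal.Fiber.algEquivAux₁ (S := A) p
  let e₄ := quotIdealMapEquivQuotTensor (Localization (algebraMapSubmonoid A p.primeCompl))
    (p.map (algebraMap R A))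
  let E' : ((A ⧸ p.map (algebraMap R A)) ⊗[A] Localization (algebraMapSubmonoid A p.primeCompl))
      ≃ₐ[A ⧸ p.map (algebraMap R A)] p.Fiber A :=
    AlgEquiv.extendScalarsOfSurjective Ideal.Quotient.mk_surjective
      ((e₄.symm.restrictScalars A).trans e₅.symm)
  exact IsLocalization.isLocalization_of_algEquiv _ E'

theorem flat_gam : (gam (A := A) p).Flat := by
  letI := gamAlgebra (A := A) p
  haveI := isLocalization_gam (A := A) p
  have : Module.Flat (A ⧸ p.map (algebraMap R A)) (p.Fiber A) :=
    IsLocalization.flat _ (algebraMapSubmonoid (A ⧸ p.map (algebraMap R A))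
      (algebraMapSubmonoid A p.primeCompl))
  exact RingHom.flat_algebraMap_iff.mpr this

/-- both ideals are `p N`. -/
theorem map_map_eq (q : Ideal (p.Fiber B)) [q.IsPrime] :
    (p.map (algebraMap R B)).map (algebraMap B (Localization.AtPrime (q.comap includeRight))) =
      (p.map (algebraMap R A)).map
        (algebraMap A (Localization.AtPrime (q.comap (includeRight : B →ₐ[R] p.Fiber B)))) := by
  rw [Ideal.map_map, Ideal.map_map, ← IsScalarTower.algebraMap_eq, ← IsScalarTower.algebraMap_eq]

/-- the ring isomorphism `(p.Fiber B)_q ≃ (A / pA) ⊗_A B_Q`. -/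
noncomputable def fibEquiv (q : Ideal (p.Fiber B)) [q.IsPrime] :
    Localization.AtPrime q ≃+*
      (A ⧸ p.map (algebraMap R A)) ⊗[A] Localization.AtPrime (q.comap includeRight) :=
  (bridge p q).toRingEquiv.trans ((Ideal.quotEquivOfEq (map_map_eq (A := A) p q)).trans
    (quotIdealMapEquivQuotTensor (Localization.AtPrime (q.comap includeRight))
      (p.map (algebraMap R A))).toRingEquiv)

theorem fibEquiv_comp (q : Ideal (p.Fiber B)) [q.IsPrime] (c : A ⧸ p.map (algebraMap R A)) :
    letI := fibAlgebra (A := A) (B := B) p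
    fibEquiv (A := A) p q (algebraMap (p.Fiber A) (Localization.AtPrime q) (gam (A := A) p c)) =
      algebraMap (A ⧸ p.map (algebraMap R A))
        ((A ⧸ p.map (algebraMap R A)) ⊗[A] Localization.AtPrime (q.comap includeRight)) c := by
  letI := fibAlgebra (A := A) (B := B) p
  obtain ⟨a, rfl⟩ := Ideal.Quotient.mk_surjective c
  rw [gam_mk]
  have h1 : algebraMap (p.Fiber A) (Localization.AtPrime q) (1 ⊗ₜ a) =
      algebraMap B (Localization.AtPrime q) (algebraMap A B a) := by
    rw [IsScalarTower.algebraMap_apply (p.Fiber A) (p.Fiber B) (Localization.AtPrime q)]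
    rfl
  rw [h1]
  show (quotIdealMapEquivQuotTensor (Localization.AtPrime (q.comap includeRight))
      (p.map (algebraMap R A))) (Ideal.quotEquivOfEq (map_map_eq (A := A) p q)
        (bridge p q (algebraMap B (Localization.AtPrime q) (algebraMap A B a)))) = _
  rw [AlgEquiv.commutes]
  have h2 : (algebraMap B (Localization.AtPrime (q.comap includeRight) ⧸
      Ideal.map (algebraMap B (Localization.AtPrime (q.comap includeRight)))
        (Ideal.map (algebraMap R B) p))) ((algebraMap A B) a) =
      Ideal.Quotient.mk _ (algebraMap A (Localization.AtPrime (q.comap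
        (includeRight : B →ₐ[R] p.Fiber B))) a) := by
    rw [IsScalarTower.algebraMap_apply A B (Localization.AtPrime (q.comap includeRight))]
    rfl
  rw [h2, Ideal.quotEquivOfEq_mk]
  have h3 : (Ideal.Quotient.mk (Ideal.map (algebraMap A (Localization.AtPrime
      (q.comap (includeRight : B →ₐ[R] p.Fiber B)))) (Ideal.map (algebraMap R A) p)))
      (algebraMap A _ a) = algebraMap (A ⧸ Ideal.map (algebraMap R A) p) _
        (Ideal.Quotient.mk _ a) := rfl
  rw [h3, AlgEquiv.commutes]

set_option backward.isDefEq.respectTransparency false in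
set_option maxRecDepth 4000 in
/-- **Bridge**: the localization of the fibre `(κ(p) ⊗ B)_q` is flat over `κ(p) ⊗ A` iff
`B_Q / p B_Q` is flat over `A / p A` (`Q = q ∩ B`). -/
theorem flat_fiber_iff (q : Ideal (p.Fiber B)) [q.IsPrime] :
    letI := fibAlgebra (A := A) (B := B) p
    Module.Flat (p.Fiber A) (Localization.AtPrime q) ↔
      Module.Flat (A ⧸ p.map (algebraMap R A))
        ((A ⧸ p.map (algebraMap R A)) ⊗[A] Localization.AtPrime (q.comap includeRight)) := by
  letI := fibAlgebra (A := A) (B := B) p
  letI := gamAlgebra (A := A) p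
  letI algT : Algebra (A ⧸ p.map (algebraMap R A)) (Localization.AtPrime q) :=
    ((algebraMap (p.Fiber A) (Localization.AtPrime q)).comp (gam (A := A) p)).toAlgebra
  haveI : IsScalarTower (A ⧸ p.map (algebraMap R A)) (p.Fiber A) (Localization.AtPrime q) :=
    IsScalarTower.of_algebraMap_eq fun x => rfl
  haveI := isLocalization_gam (A := A) p
  haveI hfl0 : Module.Flat (A ⧸ p.map (algebraMap R A)) (p.Fiber A) :=
    IsLocalization.flat _ (algebraMapSubmonoid (A ⧸ p.map (algebraMap R A))
      (algebraMapSubmonoid A p.primeCompl))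
  have hcomm : ∀ c : A ⧸ p.map (algebraMap R A),
      fibEquiv (A := A) p q (algebraMap (A ⧸ p.map (algebraMap R A)) (Localization.AtPrime q) c) =
        algebraMap (A ⧸ p.map (algebraMap R A))
          ((A ⧸ p.map (algebraMap R A)) ⊗[A] Localization.AtPrime (q.comap includeRight))
          c := by
    intro c
    rw [RingHom.algebraMap_toAlgebra, RingHom.comp_apply]
    exact fibEquiv_comp (A := A) p q c
  constructor
  · intro h
    haveI := h
    have h1 : Module.Flat (A ⧸ p.map (algebraMap R A)) (Localization.AtPrime q) :=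
      Module.Flat.trans _ (p.Fiber A) _
    exact flat_of_ringEquiv (C := A ⧸ p.map (algebraMap R A)) (X := Localization.AtPrime q)
      (C' := A ⧸ p.map (algebraMap R A))
      (X' := (A ⧸ p.map (algebraMap R A)) ⊗[A] Localization.AtPrime (q.comap includeRight))
      (RingEquiv.refl _) (fibEquiv (A := A) p q)
      (fun c => by rw [hcomm c]; rfl) h1
  · intro h
    have h1 : Module.Flat (A ⧸ p.map (algebraMap R A)) (Localization.AtPrime q) := by
      refine flat_of_ringEquiv (C' := A ⧸ p.map (algebraMap R A)) (X' := Localization.AtPrime q)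
        (C := A ⧸ p.map (algebraMap R A))
        (X := (A ⧸ p.map (algebraMap R A)) ⊗[A] Localization.AtPrime (q.comap includeRight))
        (RingEquiv.refl _) (fibEquiv (A := A) p q).symm ?_ h
      intro c
      rw [RingEquiv.symm_apply_eq, hcomm]
      rfl
    exact (Module.flat_iff_of_isLocalization (p.Fiber A)
      (algebraMapSubmonoid (A ⧸ p.map (algebraMap R A)) (algebraMapSubmonoid A p.primeCompl))
      (Localization.AtPrime q)).2 h1

end fib

end Groth.Agent.Lib.Helper54.CPF
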