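import Mathlib
import Groth.Agent.Lib.Helper54.CPFBridge
import Groth.Agent.Lib.Helper6.LocalFlat2
import Groth.Agent.Lib.Helper55.FL.Transport

/-!
# Critère de platitude par fibres, Noetherian case, pointwise (helper54)

* `flat_atPrime_of_fibre_noeth`: `R → A → B`, `A`, `B` Noetherian, `p` an ideal of `R`, `Q` a prime
  of `B` containing `p B`. If `B_Q` is flat over `R` and `B_Q / p B_Q` is flat over `A / p A`
  then `B_Q` is flat over `A`.
* `cpf_noeth_fiber`: the same with the fibre condition expressed on the fibre rings `κ(p) ⊗ -`.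
* `flat_atPrime_of_isPushout`: pointwise base change of flatness along a pushout square.
-/

set_option autoImplicit false
set_option linter.style.haveILetI false
set_option linter.unusedSectionVars false
universe u

open TensorProduct Algebra Algebra.TensorProduct

attribute [local instance] Algebra.TensorProduct.rightAlgebra

namespace Groth.Agent.Lib.Helper54.CPF

section noeth

variable {R A B : Type u} [CommRing R] [CommRing A] [CommRing B] [Algebra R A] [Algebra A B]
  [Algebra R B] [IsScalarTower R A B]

theorem flat_atPrime_of_fibre_noeth [IsNoetherianRing A] [IsNoetherianRing B]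
    (p : Ideal R) (Q : Ideal B) [Q.IsPrime] (hpQ : p.map (algebraMap R B) ≤ Q)
    (ha : Module.Flat R (Localization.AtPrime Q))
    (hb : Module.Flat (A ⧸ p.map (algebraMap R A))
      ((A ⧸ p.map (algebraMap R A)) ⊗[A] Localization.AtPrime Q)) :
    Module.Flat A (Localization.AtPrime Q) := by
  haveI := ha
  refine Groth.Agent.Lib.Helper6.LocalFlat.flat_of_flat_quotient_of_rTensor_injective
    (R := A) (S := Localization.AtPrime Q) (M := Localization.AtPrime Q)
    (p.map (algebraMap R A)) ?_ ?_ hb
  · rw [Ideal.map_map, ← IsScalarTower.algebraMap_eq]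
    refine le_trans ?_ (IsLocalRing.maximalIdeal_le_jacobson ⊥)
    rw [IsScalarTower.algebraMap_eq R B (Localization.AtPrime Q), ← Ideal.map_map]
    refine (Ideal.map_mono hpQ).trans ?_
    rw [Localization.AtPrime.map_eq_maximalIdeal]
  · exact Groth.Agent.Lib.Helper6.LocalFlat.rTensor_map_subtype_injective (R := R) (S := A)
      (M := Localization.AtPrime Q) p

theorem map_le_comap_includeRight (p : Ideal R) [p.IsPrime] (q : Ideal (p.Fiber B)) :
    p.map (algebraMap R B) ≤ q.comap (includeRight : B →ₐ[R] p.Fiber B) := by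
  rw [Ideal.map_le_iff_le_comap]
  intro x hx
  rw [Ideal.mem_comap, Ideal.mem_comap]
  have : (includeRight : B →ₐ[R] p.Fiber B) (algebraMap R B x) = 0 := by
    show (1 : p.ResidueField) ⊗ₜ[R] (algebraMap R B x) = 0
    rw [Algebra.algebraMap_eq_smul_one, ← TensorProduct.smul_tmul, Algebra.smul_def, mul_one]
    have : algebraMap R p.ResidueField x = 0 := by
      rw [Ideal.algebraMap_residueField_eq_zero]
      exact hx
    rw [this, zero_tmul]
  rw [this]
  exact zero_mem _

/-- Noetherian pointwise critère de platitude par fibres, fibre-ring form. -/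
theorem cpf_noeth_fiber [IsNoetherianRing A] [IsNoetherianRing B]
    (p : Ideal R) [p.IsPrime] (q : Ideal (p.Fiber B)) [q.IsPrime]
    (ha : Module.Flat R (Localization.AtPrime (q.comap (includeRight : B →ₐ[R] p.Fiber B))))
    (hb : letI := fibAlgebra (A := A) (B := B) p
      Module.Flat (p.Fiber A) (Localization.AtPrime q)) :
    Module.Flat A (Localization.AtPrime (q.comap (includeRight : B →ₐ[R] p.Fiber B))) :=
  flat_atPrime_of_fibre_noeth p _ (map_le_comap_includeRight p q) ha
    ((flat_fiber_iff (A := A) p q).1 hb)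

end noeth

section pushout

open Groth.Agent.Lib.Helper55.FL

theorem flat_atPrime_congr' {R A : Type u} [CommRing R] [CommRing A] [Algebra R A]
    {I J : Ideal A} [I.IsPrime] [J.IsPrime] (h : I = J)
    (hI : Module.Flat R (Localization.AtPrime I)) : Module.Flat R (Localization.AtPrime J) := by
  subst h
  exact hI

variable {A₁ A B₁ B : Type u} [CommRing A₁] [CommRing A] [CommRing B₁] [CommRing B]
  [Algebra A₁ A] [Algebra A₁ B₁] [Algebra A B] [Algebra B₁ B] [Algebra A₁ B]
  [IsScalarTower A₁ A B] [IsScalarTower A₁ B₁ B]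

/-- pointwise base change of flatness along a pushout square. -/
theorem flat_atPrime_of_isPushout [Algebra.IsPushout A₁ A B₁ B] (Q : Ideal B) [Q.IsPrime]
    (h : Module.Flat A₁ (Localization.AtPrime (Q.comap (algebraMap B₁ B)))) :
    Module.Flat A (Localization.AtPrime Q) := by
  let e := Algebra.IsPushout.equiv A₁ A B₁ B
  have h1 := (mem_FL_equiv_iff e (⟨Q, inferInstance⟩ : PrimeSpectrum B)).2
  apply h1
  apply flat_atPrime_tensor_of_flat
  refine flat_atPrime_congr' ?_ h
  ext z
  show algebraMap B₁ B z ∈ Q ↔ e ((1 : A) ⊗ₜ[A₁] z) ∈ Q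
  rw [Algebra.IsPushout.equiv_tmul, map_one, one_mul]

end pushout

end Groth.Agent.Lib.Helper54.CPF
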