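import Mathlib
import Groth.Agent.Lib.Helper54.CPFNoeth
import Groth.Agent.Lib.Helper55.FL.GlobalDescent

/-!
# Critère de platitude par fibres: model form (helper54)

`k` Noetherian, `R` any `k`-algebra, `A₀ → B₀` finite type `k`-algebras. Pointwise fibre criterion
for `R → R ⊗ A₀ → R ⊗ B₀` (`cpf_model_literal`), by descent to a finitely generated subalgebra of
`R`.
-/

set_option autoImplicit false
set_option linter.style.haveILetI false
set_option linter.unusedSectionVars false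
universe u

open TensorProduct Algebra Algebra.TensorProduct

attribute [local instance] Algebra.TensorProduct.rightAlgebra

namespace Groth.Agent.Lib.Helper54.CPF


theorem flat_includeRight {F X K : Type u} [CommRing F] [CommRing X] [CommRing K] [Algebra F X]
    [Algebra F K] [Module.Flat F K] :
    (includeRight : X →ₐ[F] K ⊗[F] X).toRingHom.Flat := by
  have h0 : (algebraMap X (X ⊗[F] K)).Flat := RingHom.flat_algebraMap_iff.mpr inferInstance
  refine ringHom_flat_of_comm (algebraMap X (X ⊗[F] K)) _ (RingEquiv.refl X)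
    (Algebra.TensorProduct.comm F X K).toRingEquiv ?_ h0
  ext x
  simp [Algebra.TensorProduct.algebraMap_apply]

section PhiN

variable (k : Type u) [CommRing k] (L₁ L : Type u) [CommRing L₁] [CommRing L] [Algebra k L₁]
  [Algebra k L] [Algebra L₁ L] [IsScalarTower k L₁ L] (p : Ideal L) [p.IsPrime]
  (N : Type u) [CommRing N] [Algebra k N]

/-- `κ(p ∩ L₁) → κ(p)`. -/
noncomputable def resMap : (p.comap (algebraMap L₁ L)).ResidueField →ₐ[k] p.ResidueField :=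
  Ideal.ResidueField.mapₐ (p.comap (algebraMap L₁ L)) p (IsScalarTower.toAlgHom k L₁ L) rfl

/-- the map of fibre rings `κ(p₁) ⊗ (L₁ ⊗ N) → κ(p) ⊗ (L ⊗ N)`. -/
noncomputable def PhiN :
    (p.comap (algebraMap L₁ L)).Fiber (L₁ ⊗[k] N) →+* p.Fiber (L ⊗[k] N) :=
  ((Algebra.TensorProduct.cancelBaseChange k L p.ResidueField p.ResidueField N).symm :
      p.ResidueField ⊗[k] N →+* p.ResidueField ⊗[L] (L ⊗[k] N)).comp
    ((Algebra.TensorProduct.map (resMap k L₁ L p) (AlgHom.id k N)).toRingHom.comp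
      ((Algebra.TensorProduct.cancelBaseChange k L₁ (p.comap (algebraMap L₁ L)).ResidueField
        (p.comap (algebraMap L₁ L)).ResidueField N) : _ →+* _))

theorem PhiN_tmul (c : (p.comap (algebraMap L₁ L)).ResidueField) (r : L₁) (n : N) :
    PhiN k L₁ L p N (c ⊗ₜ (r ⊗ₜ n)) = (resMap k L₁ L p (r • c)) ⊗ₜ ((1 : L) ⊗ₜ n) := by
  simp [PhiN]

theorem flat_map_resMap :
    (Algebra.TensorProduct.map (resMap k L₁ L p) (AlgHom.id k N)).toRingHom.Flat := by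
  letI algκ : Algebra (p.comap (algebraMap L₁ L)).ResidueField p.ResidueField :=
    (resMap k L₁ L p).toRingHom.toAlgebra
  haveI : IsScalarTower k (p.comap (algebraMap L₁ L)).ResidueField p.ResidueField :=
    IsScalarTower.of_algebraMap_eq fun x => ((resMap k L₁ L p).commutes x).symm
  let e₃ := Algebra.TensorProduct.cancelBaseChange k (p.comap (algebraMap L₁ L)).ResidueField
    p.ResidueField p.ResidueField N
  refine ringHom_flat_of_comm
    (includeRight : (p.comap (algebraMap L₁ L)).ResidueField ⊗[k] N →ₐ[_]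
      p.ResidueField ⊗[(p.comap (algebraMap L₁ L)).ResidueField]
        ((p.comap (algebraMap L₁ L)).ResidueField ⊗[k] N)).toRingHom _ (RingEquiv.refl _)
    e₃.toRingEquiv (RingHom.ext fun x => ?_) flat_includeRight
  induction x using TensorProduct.induction_on with
  | zero => simp
  | add x y hx hy => simp only [map_add, hx, hy]
  | tmul c n =>
    simp [e₃, Algebra.smul_def, RingHom.algebraMap_toAlgebra]

theorem flat_PhiN : (PhiN k L₁ L p N).Flat := by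
  unfold PhiN
  refine RingHom.Flat.comp (RingHom.Flat.comp ?_ (flat_map_resMap k L₁ L p N)) ?_
  · exact RingHom.Flat.of_bijective (AlgEquiv.bijective _)
  · exact RingHom.Flat.of_bijective (AlgEquiv.bijective _)

end PhiN



section tAlg

variable (k : Type u) [CommRing k] (A₀ B₀ : Type u) [CommRing A₀] [CommRing B₀] [Algebra k A₀]
  [Algebra k B₀] [Algebra A₀ B₀] [IsScalarTower k A₀ B₀]

/-- the algebra structure `L ⊗ A₀ → L ⊗ B₀`. -/
@[reducible] noncomputable def tAlg (L : Type u) [CommRing L] [Algebra k L] :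
    Algebra (L ⊗[k] A₀) (L ⊗[k] B₀) :=
  (Algebra.TensorProduct.map (AlgHom.id L L) (IsScalarTower.toAlgHom k A₀ B₀)).toRingHom.toAlgebra

theorem tAlg_tower (L : Type u) [CommRing L] [Algebra k L] :
    letI := tAlg k A₀ B₀ L
    IsScalarTower L (L ⊗[k] A₀) (L ⊗[k] B₀) := by
  letI := tAlg k A₀ B₀ L
  refine IsScalarTower.of_algebraMap_eq fun x => ?_
  rw [RingHom.algebraMap_toAlgebra]
  simp [Algebra.TensorProduct.algebraMap_apply]

/-- the algebra structure `L₁ ⊗ N → L ⊗ N`. -/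
@[reducible] noncomputable def sAlg (L₁ L : Type u) [CommRing L₁] [CommRing L] [Algebra k L₁]
    [Algebra k L] [Algebra L₁ L] [IsScalarTower k L₁ L] (N : Type u) [CommRing N] [Algebra k N] :
    Algebra (L₁ ⊗[k] N) (L ⊗[k] N) :=
  (Algebra.TensorProduct.map (IsScalarTower.toAlgHom k L₁ L) (AlgHom.id k N)).toRingHom.toAlgebra

variable (L₁ L : Type u) [CommRing L₁] [CommRing L] [Algebra k L₁]
    [Algebra k L] [Algebra L₁ L] [IsScalarTower k L₁ L]

theorem sAlg_tower (N : Type u) [CommRing N] [Algebra k N] :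
    letI := sAlg k L₁ L N
    IsScalarTower L₁ (L₁ ⊗[k] N) (L ⊗[k] N) := by
  letI := sAlg k L₁ L N
  refine IsScalarTower.of_algebraMap_eq fun x => ?_
  rw [RingHom.algebraMap_toAlgebra]
  simp [Algebra.TensorProduct.algebraMap_apply]

theorem sAlg_isPushout (N : Type u) [CommRing N] [Algebra k N] :
    letI := sAlg k L₁ L N
    letI := sAlg_tower k L₁ L N
    Algebra.IsPushout L₁ L (L₁ ⊗[k] N) (L ⊗[k] N) := by
  letI := sAlg k L₁ L N
  letI := sAlg_tower k L₁ L N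
  refine Algebra.IsPushout.tensorProduct_tensorProduct k N L₁ L ?_
  refine RingHom.ext fun x => ?_
  simp [RingHom.algebraMap_toAlgebra]

set_option maxRecDepth 4000 in
/-- pointwise base change of flatness along `L₁ → L` for `L ⊗ A₀ → L ⊗ B₀`. -/
theorem flat_atPrime_tensor_stage (Q : Ideal (L ⊗[k] B₀)) [Q.IsPrime]
    (h : letI := tAlg k A₀ B₀ L₁
      Module.Flat (L₁ ⊗[k] A₀) (Localization.AtPrime (Q.comap
        (Algebra.TensorProduct.map (IsScalarTower.toAlgHom k L₁ L) (AlgHom.id k B₀)).toRingHom))) :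
    letI := tAlg k A₀ B₀ L
    Module.Flat (L ⊗[k] A₀) (Localization.AtPrime Q) := by
  letI a1 := tAlg k A₀ B₀ L₁
  letI a2 := tAlg k A₀ B₀ L
  haveI t01 := tAlg_tower k A₀ B₀ L₁
  haveI t02 := tAlg_tower k A₀ B₀ L
  letI a3 := sAlg k L₁ L A₀
  letI a4 := sAlg k L₁ L B₀
  haveI t03 := sAlg_tower k L₁ L A₀
  haveI t04 := sAlg_tower k L₁ L B₀
  letI a5 : Algebra (L₁ ⊗[k] A₀) (L ⊗[k] B₀) :=
    ((algebraMap (L ⊗[k] A₀) (L ⊗[k] B₀)).comp (algebraMap (L₁ ⊗[k] A₀) (L ⊗[k] A₀))).toAlgebra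
  haveI t1 : IsScalarTower (L₁ ⊗[k] A₀) (L ⊗[k] A₀) (L ⊗[k] B₀) :=
    IsScalarTower.of_algebraMap_eq fun _ => rfl
  haveI t2 : IsScalarTower (L₁ ⊗[k] A₀) (L₁ ⊗[k] B₀) (L ⊗[k] B₀) := by
    refine IsScalarTower.of_algebraMap_eq fun x => ?_
    show (algebraMap (L ⊗[k] A₀) (L ⊗[k] B₀)) ((algebraMap (L₁ ⊗[k] A₀) (L ⊗[k] A₀)) x) = _
    simp only [RingHom.algebraMap_toAlgebra]
    induction x using TensorProduct.induction_on with
    | zero => simp
    | add x y hx hy => simp only [map_add, hx, hy]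
    | tmul c n => simp
  haveI t3 : IsScalarTower L₁ (L₁ ⊗[k] A₀) (L ⊗[k] B₀) :=
    IsScalarTower.of_algebraMap_eq fun x => by
      rw [IsScalarTower.algebraMap_apply (L₁ ⊗[k] A₀) (L₁ ⊗[k] B₀) (L ⊗[k] B₀),
        ← IsScalarTower.algebraMap_apply L₁ (L₁ ⊗[k] A₀) (L₁ ⊗[k] B₀),
        ← IsScalarTower.algebraMap_apply L₁ (L₁ ⊗[k] B₀) (L ⊗[k] B₀)]
  haveI t4 : IsScalarTower L₁ (L ⊗[k] A₀) (L ⊗[k] B₀) :=
    IsScalarTower.of_algebraMap_eq fun x => by
      rw [IsScalarTower.algebraMap_apply L₁ L (L ⊗[k] B₀),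
        IsScalarTower.algebraMap_apply L (L ⊗[k] A₀) (L ⊗[k] B₀),
        ← IsScalarTower.algebraMap_apply L₁ L (L ⊗[k] A₀)]
  haveI p1 : Algebra.IsPushout L₁ (L₁ ⊗[k] A₀) L (L ⊗[k] A₀) :=
    (sAlg_isPushout k L₁ L A₀).symm
  haveI p2 : Algebra.IsPushout L₁ (L₁ ⊗[k] B₀) L (L ⊗[k] B₀) :=
    (sAlg_isPushout k L₁ L B₀).symm
  haveI p3 : Algebra.IsPushout (L₁ ⊗[k] A₀) (L₁ ⊗[k] B₀) (L ⊗[k] A₀) (L ⊗[k] B₀) :=
    (Algebra.IsPushout.comp_iff L₁ (L₁ ⊗[k] A₀) L (L ⊗[k] A₀) (T := L₁ ⊗[k] B₀)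
      (T' := L ⊗[k] B₀)).1 p2
  haveI p4 : Algebra.IsPushout (L₁ ⊗[k] A₀) (L ⊗[k] A₀) (L₁ ⊗[k] B₀) (L ⊗[k] B₀) := p3.symm
  exact flat_atPrime_of_isPushout (A₁ := L₁ ⊗[k] A₀) (A := L ⊗[k] A₀) (B₁ := L₁ ⊗[k] B₀)
    (B := L ⊗[k] B₀) Q h

end tAlg


open Groth.Agent.Lib.Helper55.FL

section lit

variable (k : Type u) [CommRing k] 
  (A₀ B₀ : Type u) [CommRing A₀] [CommRing B₀] [Algebra k A₀]
  [Algebra k B₀] [Algebra A₀ B₀] [IsScalarTower k A₀ B₀] 

/-- compatibility of `PhiN` with `fibMap`. -/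
theorem PhiN_fibMap (L₁ L : Type u) [CommRing L₁] [CommRing L] [Algebra k L₁]
    [Algebra k L] [Algebra L₁ L] [IsScalarTower k L₁ L] (p : Ideal L) [p.IsPrime]
    (x : (p.comap (algebraMap L₁ L)).Fiber (L₁ ⊗[k] A₀)) :
    letI := tAlg k A₀ B₀ L₁
    letI := tAlg k A₀ B₀ L
    haveI := tAlg_tower k A₀ B₀ L₁
    haveI := tAlg_tower k A₀ B₀ L
    PhiN k L₁ L p B₀ (fibMap (A := L₁ ⊗[k] A₀) (B := L₁ ⊗[k] B₀) (p.comap (algebraMap L₁ L)) x) =
      fibMap (A := L ⊗[k] A₀) (B := L ⊗[k] B₀) p (PhiN k L₁ L p A₀ x) := by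
  letI := tAlg k A₀ B₀ L₁
  letI := tAlg k A₀ B₀ L
  haveI := tAlg_tower k A₀ B₀ L₁
  haveI := tAlg_tower k A₀ B₀ L
  induction x using TensorProduct.induction_on with
  | zero => simp
  | add x y hx hy => simp only [map_add, hx, hy]
  | tmul c z =>
    induction z using TensorProduct.induction_on with
    | zero => simp
    | add x y hx hy => simp only [tmul_add, map_add, hx, hy]
    | tmul r a =>
      simp only [fibMap, Algebra.TensorProduct.map_tmul, AlgHom.id_apply,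
        IsScalarTower.coe_toAlgHom', RingHom.algebraMap_toAlgebra, AlgHom.toRingHom_eq_coe,
        RingHom.coe_coe, PhiN_tmul]

variable (L₁ L : Type u) [CommRing L₁] [CommRing L] [Algebra k L₁]
    [Algebra k L] [Algebra L₁ L] [IsScalarTower k L₁ L] (p : Ideal L) [p.IsPrime]

set_option maxRecDepth 4000 in
theorem fiber_flat_descent (q : Ideal (p.Fiber (L ⊗[k] B₀))) [q.IsPrime]
    (hb : letI := tAlg k A₀ B₀ L
      haveI := tAlg_tower k A₀ B₀ L
      letI := fibAlgebra (A := L ⊗[k] A₀) (B := L ⊗[k] B₀) p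
      Module.Flat (p.Fiber (L ⊗[k] A₀)) (Localization.AtPrime q)) :
    letI := tAlg k A₀ B₀ L₁
    haveI := tAlg_tower k A₀ B₀ L₁
    letI := fibAlgebra (A := L₁ ⊗[k] A₀) (B := L₁ ⊗[k] B₀) (p.comap (algebraMap L₁ L))
    Module.Flat ((p.comap (algebraMap L₁ L)).Fiber (L₁ ⊗[k] A₀))
      (Localization.AtPrime (q.comap (PhiN k L₁ L p B₀))) := by
  letI a1 := tAlg k A₀ B₀ L₁
  haveI t01 := tAlg_tower k A₀ B₀ L₁
  letI a2 := tAlg k A₀ B₀ L
  haveI t02 := tAlg_tower k A₀ B₀ L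
  letI i1 := fibAlgebra (A := L₁ ⊗[k] A₀) (B := L₁ ⊗[k] B₀) (p.comap (algebraMap L₁ L))
  letI i2 := fibAlgebra (A := L ⊗[k] A₀) (B := L ⊗[k] B₀) p
  letI i3 : Algebra ((p.comap (algebraMap L₁ L)).Fiber (L₁ ⊗[k] A₀)) (p.Fiber (L ⊗[k] A₀)) :=
    (PhiN k L₁ L p A₀).toAlgebra
  letI i4 : Algebra ((p.comap (algebraMap L₁ L)).Fiber (L₁ ⊗[k] B₀)) (p.Fiber (L ⊗[k] B₀)) :=
    (PhiN k L₁ L p B₀).toAlgebra
  letI i5 : Algebra ((p.comap (algebraMap L₁ L)).Fiber (L₁ ⊗[k] A₀)) (p.Fiber (L ⊗[k] B₀)) :=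
    ((algebraMap (p.Fiber (L ⊗[k] A₀)) (p.Fiber (L ⊗[k] B₀))).comp
      (algebraMap ((p.comap (algebraMap L₁ L)).Fiber (L₁ ⊗[k] A₀))
        (p.Fiber (L ⊗[k] A₀)))).toAlgebra
  haveI s1 : IsScalarTower ((p.comap (algebraMap L₁ L)).Fiber (L₁ ⊗[k] A₀))
      (p.Fiber (L ⊗[k] A₀)) (p.Fiber (L ⊗[k] B₀)) := IsScalarTower.of_algebraMap_eq fun _ => rfl
  haveI s2 : IsScalarTower ((p.comap (algebraMap L₁ L)).Fiber (L₁ ⊗[k] A₀))
      ((p.comap (algebraMap L₁ L)).Fiber (L₁ ⊗[k] B₀)) (p.Fiber (L ⊗[k] B₀)) :=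
    IsScalarTower.of_algebraMap_eq fun x => (PhiN_fibMap k A₀ B₀ L₁ L p x).symm
  haveI f1 : Module.Flat ((p.comap (algebraMap L₁ L)).Fiber (L₁ ⊗[k] A₀))
      (p.Fiber (L ⊗[k] A₀)) := RingHom.flat_algebraMap_iff.mp (flat_PhiN k L₁ L p A₀)
  haveI f2 : Module.Flat ((p.comap (algebraMap L₁ L)).Fiber (L₁ ⊗[k] B₀))
      (p.Fiber (L ⊗[k] B₀)) := RingHom.flat_algebraMap_iff.mp (flat_PhiN k L₁ L p B₀)
  have := flat_atPrime_descent (C₁ := (p.comap (algebraMap L₁ L)).Fiber (L₁ ⊗[k] A₀))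
    (D₁ := (p.comap (algebraMap L₁ L)).Fiber (L₁ ⊗[k] B₀)) (C := p.Fiber (L ⊗[k] A₀))
    (D := p.Fiber (L ⊗[k] B₀)) q hb
  exact this

end lit

theorem resMap_algebraMap (k : Type u) [CommRing k] (L₁ L : Type u) [CommRing L₁] [CommRing L] [Algebra k L₁]
    [Algebra k L] [Algebra L₁ L] [IsScalarTower k L₁ L] (p : Ideal L) [p.IsPrime] (r : L₁) :
    resMap k L₁ L p (algebraMap L₁ (p.comap (algebraMap L₁ L)).ResidueField r) =
      algebraMap L p.ResidueField (algebraMap L₁ L r) :=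
  Ideal.ResidueField.map_algebraMap (p.comap (algebraMap L₁ L)) p (algebraMap L₁ L) rfl r

theorem PhiN_one_tmul (k : Type u) [CommRing k] (L₁ L : Type u) [CommRing L₁] [CommRing L] [Algebra k L₁]
    [Algebra k L] [Algebra L₁ L] [IsScalarTower k L₁ L] (p : Ideal L) [p.IsPrime]
    (N : Type u) [CommRing N] [Algebra k N] (z : L₁ ⊗[k] N) :
    PhiN k L₁ L p N ((1 : (p.comap (algebraMap L₁ L)).ResidueField) ⊗ₜ z) =
      (1 : p.ResidueField) ⊗ₜ (Algebra.TensorProduct.map (IsScalarTower.toAlgHom k L₁ L)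
        (AlgHom.id k N) z) := by
  induction z using TensorProduct.induction_on with
  | zero => simp
  | add x y hx hy => simp only [tmul_add, map_add, hx, hy]
  | tmul r n =>
    rw [PhiN_tmul, Algebra.TensorProduct.map_tmul, AlgHom.id_apply, IsScalarTower.coe_toAlgHom']
    rw [Algebra.smul_def, mul_one, resMap_algebraMap]
    rw [Algebra.algebraMap_eq_smul_one, TensorProduct.smul_tmul, TensorProduct.smul_tmul',
      smul_eq_mul, mul_one]


section main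

variable (k : Type u) [CommRing k] [IsNoetherianRing k] (R : Type u) [CommRing R] [Algebra k R]
  (A₀ B₀ : Type u) [CommRing A₀] [CommRing B₀] [Algebra k A₀]
  [Algebra k B₀] [Algebra A₀ B₀] [IsScalarTower k A₀ B₀] [Algebra.FiniteType k A₀]
  [Algebra.FiniteType k B₀]

set_option maxRecDepth 4000 in
/-- **Model form** of the pointwise critère de platitude par fibres. -/
theorem cpf_model_literal (p : Ideal R) [p.IsPrime] (q : Ideal (p.Fiber (R ⊗[k] B₀))) [q.IsPrime]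
    (ha : Module.Flat R (Localization.AtPrime
      (q.comap (includeRight : (R ⊗[k] B₀) →ₐ[R] p.Fiber (R ⊗[k] B₀)))))
    (hb : letI := tAlg k A₀ B₀ R
      haveI := tAlg_tower k A₀ B₀ R
      letI := fibAlgebra (A := R ⊗[k] A₀) (B := R ⊗[k] B₀) p
      Module.Flat (p.Fiber (R ⊗[k] A₀)) (Localization.AtPrime q)) :
    letI := tAlg k A₀ B₀ R
    Module.Flat (R ⊗[k] A₀) (Localization.AtPrime
      (q.comap (includeRight : (R ⊗[k] B₀) →ₐ[R] p.Fiber (R ⊗[k] B₀)))) := by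
  letI a2 := tAlg k A₀ B₀ R
  haveI t02 := tAlg_tower k A₀ B₀ R
  obtain ⟨R₁, hR₁, h₁⟩ := exists_fg_flat_atPrime (k := k) (R := R) (N := B₀)
    (q.comap (includeRight : (R ⊗[k] B₀) →ₐ[R] p.Fiber (R ⊗[k] B₀))) ha
  haveI ft1 : Algebra.FiniteType k ↥R₁ := (Subalgebra.fg_iff_finiteType R₁).1 hR₁
  haveI n1 : IsNoetherianRing ↥R₁ := Algebra.FiniteType.isNoetherianRing k ↥R₁
  letI a1 := tAlg k A₀ B₀ ↥R₁
  haveI t01 := tAlg_tower k A₀ B₀ ↥R₁
  haveI ftA : Algebra.FiniteType k (↥R₁ ⊗[k] A₀) :=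
    Algebra.FiniteType.trans (S := ↥R₁) inferInstance inferInstance
  haveI ftB : Algebra.FiniteType k (↥R₁ ⊗[k] B₀) :=
    Algebra.FiniteType.trans (S := ↥R₁) inferInstance inferInstance
  haveI nA : IsNoetherianRing (↥R₁ ⊗[k] A₀) := Algebra.FiniteType.isNoetherianRing k _
  haveI nB : IsNoetherianRing (↥R₁ ⊗[k] B₀) := Algebra.FiniteType.isNoetherianRing k _
  -- the stage prime
  have hq₁ : (q.comap (PhiN k ↥R₁ R p B₀)).comap
      (includeRight : (↥R₁ ⊗[k] B₀) →ₐ[↥R₁] (p.comap (algebraMap ↥R₁ R)).Fiber (↥R₁ ⊗[k] B₀)) =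
      (q.comap (includeRight : (R ⊗[k] B₀) →ₐ[R] p.Fiber (R ⊗[k] B₀))).comap (phi R B₀ R₁) := by
    ext z
    simp only [Ideal.mem_comap]
    show PhiN k ↥R₁ R p B₀ (1 ⊗ₜ z) ∈ q ↔ (1 : p.ResidueField) ⊗ₜ (phi R B₀ R₁ z) ∈ q
    rw [PhiN_one_tmul]
    rfl
  -- (a) at the stage
  have ha₁ : Module.Flat ↥R₁ (Localization.AtPrime ((q.comap (PhiN k ↥R₁ R p B₀)).comap
      (includeRight : (↥R₁ ⊗[k] B₀) →ₐ[↥R₁]
        (p.comap (algebraMap ↥R₁ R)).Fiber (↥R₁ ⊗[k] B₀)))) :=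
    flat_atPrime_congr' hq₁.symm h₁
  -- (b) at the stage
  have hb₁ := fiber_flat_descent k A₀ B₀ ↥R₁ R p q hb
  -- Noetherian criterion at the stage
  have hc₁ := cpf_noeth_fiber (R := ↥R₁) (A := ↥R₁ ⊗[k] A₀) (B := ↥R₁ ⊗[k] B₀)
    (p.comap (algebraMap ↥R₁ R)) (q.comap (PhiN k ↥R₁ R p B₀)) ha₁ hb₁
  -- base change
  refine flat_atPrime_tensor_stage k A₀ B₀ ↥R₁ R _ ?_
  refine flat_atPrime_congr' ?_ hc₁
  rw [hq₁]
  rfl

end main

end Groth.Agent.Lib.Helper54.CPF
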