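import Mathlib
import Groth.Agent.Lib.Helper54.CPFModel
import Groth.Agent.Lib.Helper55.FL.Model

/-!
# Critère de platitude par fibres, finitely presented case (helper54)

* `cpf_transport`: invariance of the pointwise fibre criterion under isomorphisms of `A → B`.
* `exists_models`: compatible Noetherian models of `A → B` finitely presented over `R`.
* `cpf_fp_fiber`: pointwise fibre criterion for `R → A → B` with `A`, `B` finitely presented
  over `R` (fibre-ring form).
-/

set_option autoImplicit false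
set_option linter.style.haveILetI false
set_option linter.unusedSectionVars false
universe u

open TensorProduct Algebra Algebra.TensorProduct

attribute [local instance] Algebra.TensorProduct.rightAlgebra

namespace Groth.Agent.Lib.Helper54.CPF

open Groth.Agent.Lib.Helper55.FL


/-- transport of pointwise flatness along a commutative square of ring isomorphisms. -/
theorem flat_atPrime_of_ringEquiv {C D C' D' : Type u} [CommRing C] [CommRing D] [CommRing C']
    [CommRing D'] [Algebra C D] [Algebra C' D'] (e₁ : C ≃+* C') (e₂ : D ≃+* D')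
    (h : ∀ c, e₂ (algebraMap C D c) = algebraMap C' D' (e₁ c)) (Q : Ideal D') [Q.IsPrime]
    (hQ : Module.Flat C' (Localization.AtPrime Q)) :
    Module.Flat C (Localization.AtPrime (Q.comap (e₂ : D →+* D'))) := by
  letI i1 : Algebra C C' := (e₁ : C →+* C').toAlgebra
  letI i2 : Algebra D D' := (e₂ : D →+* D').toAlgebra
  letI i3 : Algebra C D' := ((algebraMap C' D').comp (algebraMap C C')).toAlgebra
  haveI s1 : IsScalarTower C C' D' := IsScalarTower.of_algebraMap_eq fun _ => rfl
  haveI s2 : IsScalarTower C D D' := IsScalarTower.of_algebraMap_eq fun c => (h c).symm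
  haveI f1 : Module.Flat C C' :=
    RingHom.flat_algebraMap_iff.mp (RingHom.Flat.of_bijective e₁.bijective)
  haveI f2 : Module.Flat D D' :=
    RingHom.flat_algebraMap_iff.mp (RingHom.Flat.of_bijective e₂.bijective)
  exact flat_atPrime_descent (C₁ := C) (D₁ := D) (C := C') (D := D') Q hQ

section transport

variable {R A B A' B' : Type u} [CommRing R] [CommRing A] [CommRing B] [CommRing A'] [CommRing B']
  [Algebra R A] [Algebra A B] [Algebra R B] [IsScalarTower R A B]
  [Algebra R A'] [Algebra A' B'] [Algebra R B'] [IsScalarTower R A' B']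

/-- the fibre criterion is invariant under isomorphisms of the pair `A → B`. -/
theorem cpf_transport (eA : A' ≃ₐ[R] A) (eB : B' ≃ₐ[R] B)
    (h : ∀ x, eB (algebraMap A' B' x) = algebraMap A B (eA x))
    (p : Ideal R) [p.IsPrime]
    (H : ∀ (q' : Ideal (p.Fiber B')) [q'.IsPrime],
      Module.Flat R (Localization.AtPrime (q'.comap (includeRight : B' →ₐ[R] p.Fiber B'))) →
      (letI := fibAlgebra (A := A') (B := B') p;
        Module.Flat (p.Fiber A') (Localization.AtPrime q')) →
      Module.Flat A' (Localization.AtPrime (q'.comap (includeRight : B' →ₐ[R] p.Fiber B'))))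
    (q : Ideal (p.Fiber B)) [q.IsPrime]
    (ha : Module.Flat R (Localization.AtPrime (q.comap (includeRight : B →ₐ[R] p.Fiber B))))
    (hb : letI := fibAlgebra (A := A) (B := B) p
      Module.Flat (p.Fiber A) (Localization.AtPrime q)) :
    Module.Flat A (Localization.AtPrime (q.comap (includeRight : B →ₐ[R] p.Fiber B))) := by
  letI i1 := fibAlgebra (A := A) (B := B) p
  letI i2 := fibAlgebra (A := A') (B := B') p
  let EA : p.Fiber A' ≃ₐ[p.ResidueField] p.Fiber A :=
    Algebra.TensorProduct.congr AlgEquiv.refl eA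
  let EB : p.Fiber B' ≃ₐ[p.ResidueField] p.Fiber B :=
    Algebra.TensorProduct.congr AlgEquiv.refl eB
  have hE : ∀ c, EB (algebraMap (p.Fiber A') (p.Fiber B') c) =
      algebraMap (p.Fiber A) (p.Fiber B) (EA c) := by
    intro c
    induction c using TensorProduct.induction_on with
    | zero => simp
    | add x y hx hy => simp only [map_add, hx, hy]
    | tmul c a =>
      simp only [RingHom.algebraMap_toAlgebra, fibMap, EA, EB, AlgHom.toRingHom_eq_coe,
        RingHom.coe_coe, Algebra.TensorProduct.map_tmul, AlgHom.id_apply,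
        Algebra.TensorProduct.congr_apply,  IsScalarTower.coe_toAlgHom']
      congr 1
      exact h a
  -- primes
  have hQ' : (q.comap (EB : p.Fiber B' →+* p.Fiber B)).comap
      (includeRight : B' →ₐ[R] p.Fiber B') =
      (q.comap (includeRight : B →ₐ[R] p.Fiber B)).comap (eB : B' →+* B) := by
    ext z
    simp only [Ideal.mem_comap]
    rfl
  have ha' : Module.Flat R (Localization.AtPrime ((q.comap (EB : p.Fiber B' →+* p.Fiber B)).comap
      (includeRight : B' →ₐ[R] p.Fiber B'))) := by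
    refine flat_atPrime_congr' hQ'.symm ?_
    exact flat_atPrime_of_ringEquiv (C := R) (D := B') (C' := R) (D' := B) (RingEquiv.refl R)
      (eB : B' ≃+* B) (fun c => eB.commutes c) _ ha
  have hb' : Module.Flat (p.Fiber A')
      (Localization.AtPrime (q.comap (EB : p.Fiber B' →+* p.Fiber B))) :=
    flat_atPrime_of_ringEquiv (C := p.Fiber A') (D := p.Fiber B') (C' := p.Fiber A)
      (D' := p.Fiber B) (EA : p.Fiber A' ≃+* p.Fiber A) (EB : p.Fiber B' ≃+* p.Fiber B) hE q hb
  have hc' := H (q.comap (EB : p.Fiber B' →+* p.Fiber B)) ha' hb'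
  have hc := flat_atPrime_of_ringEquiv (C := A) (D := B) (C' := A') (D' := B')
    (eA.symm : A ≃+* A') (eB.symm : B ≃+* B') (fun c => by
      show eB.symm (algebraMap A B c) = algebraMap A' B' (eA.symm c)
      rw [AlgEquiv.symm_apply_eq, h, AlgEquiv.apply_symm_apply]) _ hc'
  refine flat_atPrime_congr' ?_ hc
  rw [hQ']
  ext z
  simp only [Ideal.mem_comap]
  show (1 : p.ResidueField) ⊗ₜ[R] (eB (eB.symm z)) ∈ q ↔ _
  rw [AlgEquiv.apply_symm_apply]
  rfl

end transport



section paste

variable {k R A₀ A B B₀ : Type u} [CommRing k] [CommRing R] [CommRing A₀] [CommRing A] [CommRing B]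
  [CommRing B₀]
  [Algebra k R] [Algebra k A₀] [Algebra R A] [Algebra A B] [Algebra R B] [IsScalarTower R A B]
  [Algebra A₀ A] [Algebra k A] [IsScalarTower k R A] [IsScalarTower k A₀ A]
  [Algebra A₀ B] [IsScalarTower A₀ A B] [Algebra A₀ B₀] [Algebra k B₀] [IsScalarTower k A₀ B₀]

set_option maxRecDepth 4000 in
/-- pasting of pushouts: from `A = R ⊗[k] A₀` and `B = A ⊗[A₀] B₀` get `B = R ⊗[k] B₀`. -/
theorem exists_equiv_of_paste [Algebra.IsPushout k R A₀ A] (e₁ : A ⊗[A₀] B₀ ≃ₐ[A] B) :
    ∃ eB : R ⊗[k] B₀ ≃ₐ[R] B, ∀ (r : R) (b : B₀),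
      eB (r ⊗ₜ b) = algebraMap R B r * e₁ ((1 : A) ⊗ₜ b) := by
  letI algB₀B : Algebra B₀ B :=
    ((e₁ : A ⊗[A₀] B₀ →+* B).comp (algebraMap B₀ (A ⊗[A₀] B₀))).toAlgebra
  haveI t4 : IsScalarTower A₀ B₀ B :=
    IsScalarTower.of_algebraMap_eq fun x => by
      show algebraMap A₀ B x = e₁ (algebraMap B₀ (A ⊗[A₀] B₀) (algebraMap A₀ B₀ x))
      rw [IsScalarTower.algebraMap_apply A₀ A B, ← e₁.commutes,
        ← IsScalarTower.algebraMap_apply A₀ B₀ (A ⊗[A₀] B₀),
        IsScalarTower.algebraMap_apply A₀ A (A ⊗[A₀] B₀)]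
  haveI hpo2 : Algebra.IsPushout A₀ A B₀ B :=
    Algebra.IsPushout.of_equiv (h := (inferInstance :
      Algebra.IsPushout A₀ A B₀ (A ⊗[A₀] B₀))) e₁ rfl
  letI algkB : Algebra k B := ((algebraMap R B).comp (algebraMap k R)).toAlgebra
  haveI t5 : IsScalarTower k R B := IsScalarTower.of_algebraMap_eq fun _ => rfl
  haveI t6 : IsScalarTower k A B := IsScalarTower.of_algebraMap_eq fun x => by
    rw [IsScalarTower.algebraMap_apply k R B, IsScalarTower.algebraMap_apply R A B,
      ← IsScalarTower.algebraMap_apply k R A]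
  haveI t7 : IsScalarTower k B₀ B := IsScalarTower.of_algebraMap_eq fun x => by
    rw [IsScalarTower.algebraMap_apply k A₀ B₀, ← IsScalarTower.algebraMap_apply A₀ B₀ B,
      IsScalarTower.algebraMap_apply A₀ A B, ← IsScalarTower.algebraMap_apply k A₀ A,
      ← IsScalarTower.algebraMap_apply k A B]
  haveI hpo1 : Algebra.IsPushout k A₀ R A := Algebra.IsPushout.symm inferInstance
  haveI hpo3 : Algebra.IsPushout k B₀ R B :=
    (Algebra.IsPushout.comp_iff k A₀ R A (T := B₀) (T' := B)).2 hpo2.symm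
  haveI hpo4 : Algebra.IsPushout k R B₀ B := hpo3.symm
  refine ⟨Algebra.IsPushout.equiv k R B₀ B, fun r b => ?_⟩
  rw [Algebra.IsPushout.equiv_tmul]
  rfl

end paste

section modelOver

variable {k R A₀ A B : Type u} [CommRing k] [CommRing R] [CommRing A₀] [CommRing A] [CommRing B]
  [Algebra k R] [Algebra k A₀] [Algebra R A] [Algebra A B] [Algebra R B] [IsScalarTower R A B]

set_option maxRecDepth 4000 in
theorem exists_model_over (eA : R ⊗[k] A₀ ≃ₐ[R] A) {ι σ : Type} [Finite ι] [Finite σ]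
    (PB : Algebra.Presentation A B ι σ)
    (hcoef : ∀ c ∈ PB.coeffs, ∃ a₀ : A₀, eA ((1 : R) ⊗ₜ[k] a₀) = c) :
    ∃ (B₀ : Type u) (_ : CommRing B₀) (_ : Algebra k B₀) (_ : Algebra A₀ B₀)
      (_ : IsScalarTower k A₀ B₀) (eB : R ⊗[k] B₀ ≃ₐ[R] B),
      Algebra.FinitePresentation A₀ B₀ ∧
      ∀ x, eB (Algebra.TensorProduct.map (AlgHom.id R R) (IsScalarTower.toAlgHom k A₀ B₀) x) =
        algebraMap A B (eA x) := by
  letI algA₀A : Algebra A₀ A :=
    ((eA : R ⊗[k] A₀ →+* A).comp (algebraMap A₀ (R ⊗[k] A₀))).toAlgebra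
  letI algkA : Algebra k A := ((algebraMap R A).comp (algebraMap k R)).toAlgebra
  haveI t1 : IsScalarTower k R A := IsScalarTower.of_algebraMap_eq fun _ => rfl
  haveI t2 : IsScalarTower k A₀ A := IsScalarTower.of_algebraMap_eq fun x => by
    show algebraMap R A (algebraMap k R x) =
      eA (algebraMap A₀ (R ⊗[k] A₀) (algebraMap k A₀ x))
    rw [← eA.commutes, ← IsScalarTower.algebraMap_apply k A₀ (R ⊗[k] A₀),
      IsScalarTower.algebraMap_apply k R (R ⊗[k] A₀)]
  haveI hpo : Algebra.IsPushout k R A₀ A :=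
    Algebra.IsPushout.of_equiv (h := (inferInstance : Algebra.IsPushout k R A₀ (R ⊗[k] A₀)))
      eA rfl
  letI algA₀B : Algebra A₀ B := ((algebraMap A B).comp (algebraMap A₀ A)).toAlgebra
  haveI t3 : IsScalarTower A₀ A B := IsScalarTower.of_algebraMap_eq fun _ => rfl
  haveI hc : PB.HasCoeffs A₀ := ⟨fun c hc => by
    obtain ⟨a₀, ha₀⟩ := hcoef c hc
    exact ⟨a₀, ha₀⟩⟩
  obtain ⟨eB, heB⟩ := exists_equiv_of_paste (k := k) (R := R) (A₀ := A₀) (A := A) (B := B)
    (B₀ := PB.ModelOfHasCoeffs A₀) (PB.tensorModelOfHasCoeffsEquiv A₀)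
  refine ⟨PB.ModelOfHasCoeffs A₀, inferInstance, inferInstance, inferInstance, inferInstance, eB,
    inferInstance, fun x => ?_⟩
  induction x using TensorProduct.induction_on with
  | zero => simp
  | add x y hx hy => simp only [map_add, hx, hy]
  | tmul r a =>
    rw [Algebra.TensorProduct.map_tmul, heB, AlgHom.id_apply, IsScalarTower.coe_toAlgHom']
    have h1 : eA (r ⊗ₜ[k] a) = algebraMap R A r * algebraMap A₀ A a := by
      have : r ⊗ₜ[k] a = r • ((1 : R) ⊗ₜ[k] a) := by
        rw [TensorProduct.smul_tmul', smul_eq_mul, mul_one]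
      rw [this, map_smul, Algebra.smul_def]
      rfl
    rw [h1, map_mul, ← IsScalarTower.algebraMap_apply R A B]
    congr 1
    have h2 : algebraMap A₀ (PB.ModelOfHasCoeffs A₀) a =
        Ideal.Quotient.mk _ (MvPolynomial.C a) := rfl
    rw [h2]
    erw [Algebra.Presentation.tensorModelOfHasCoeffsEquiv_tmul]
    rw [map_one, one_mul, MvPolynomial.aeval_C]
    rfl

end modelOver

section models

variable (R A B : Type u) [CommRing R] [CommRing A] [CommRing B] [Algebra R A] [Algebra A B]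
  [Algebra R B] [IsScalarTower R A B]

set_option maxRecDepth 4000 in
theorem exists_models_aux [Algebra.FinitePresentation A B]
    (k₀ A₀₀ : Type u) [CommRing k₀] [CommRing A₀₀] [Algebra k₀ R]
    [Algebra k₀ A₀₀] [Algebra.FiniteType ℤ k₀] [Algebra.FiniteType k₀ A₀₀]
    (e₀ : R ⊗[k₀] A₀₀ ≃ₐ[R] A) :
    ∃ (k : Type u) (_ : CommRing k) (_ : Algebra k R) (A₀ : Type u) (_ : CommRing A₀)
      (_ : Algebra k A₀) (B₀ : Type u) (_ : CommRing B₀) (_ : Algebra k B₀) (_ : Algebra A₀ B₀)
      (_ : IsScalarTower k A₀ B₀) (eA : R ⊗[k] A₀ ≃ₐ[R] A) (eB : R ⊗[k] B₀ ≃ₐ[R] B),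
      IsNoetherianRing k ∧ Algebra.FiniteType k A₀ ∧ Algebra.FiniteType k B₀ ∧
      ∀ x, eB (Algebra.TensorProduct.map (AlgHom.id R R) (IsScalarTower.toAlgHom k A₀ B₀) x) =
        algebraMap A B (eA x) := by
  classical
  let PB := Algebra.Presentation.ofFinitePresentation A B
  have hfin : PB.coeffs.Finite := PB.finite_coeffs
  obtain ⟨R', hR', hD⟩ := exists_fg_forall_mem_range (k := k₀) (R := R)
    (N := A₀₀) (hfin.toFinset.image e₀.symm)
  haveI ft1 : Algebra.FiniteType k₀ ↥R' := (Subalgebra.fg_iff_finiteType R').1 hR'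
  haveI ft2 : Algebra.FiniteType ℤ ↥R' := Algebra.FiniteType.trans (S := k₀) inferInstance ft1
  haveI n1 : IsNoetherianRing ↥R' := Algebra.FiniteType.isNoetherianRing ℤ ↥R'
  let eA : R ⊗[↥R'] (↥R' ⊗[k₀] A₀₀) ≃ₐ[R] A :=
    (Algebra.TensorProduct.cancelBaseChange k₀ ↥R' R R A₀₀).trans e₀
  have hcoef : ∀ c ∈ PB.coeffs, ∃ a₀ : ↥R' ⊗[k₀] A₀₀,
      eA ((1 : R) ⊗ₜ[↥R'] a₀) = c := by
    intro c hc
    obtain ⟨y, hy⟩ := hD (e₀.symm c) (Finset.mem_image.2 ⟨c, hfin.mem_toFinset.2 hc, rfl⟩)
    refine ⟨y, ?_⟩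
    show e₀ ((Algebra.TensorProduct.cancelBaseChange k₀ ↥R' R R A₀₀) ((1 : R) ⊗ₜ[↥R'] y)) = c
    rw [cancelBaseChange_one_tmul, tmap_eq_phi, hy, AlgEquiv.apply_symm_apply]
  obtain ⟨B₀, _, _, _, _, eB, hfp, hcomp⟩ := exists_model_over (k := ↥R') (R := R)
    (A₀ := ↥R' ⊗[k₀] A₀₀) (A := A) (B := B) eA PB hcoef
  haveI ftA : Algebra.FiniteType ↥R' (↥R' ⊗[k₀] A₀₀) := inferInstance
  haveI ftB0 : Algebra.FiniteType (↥R' ⊗[k₀] A₀₀) B₀ := inferInstance
  haveI ftB : Algebra.FiniteType ↥R' B₀ :=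
    Algebra.FiniteType.trans (S := ↥R' ⊗[k₀] A₀₀) ftA ftB0
  exact ⟨↥R', inferInstance, inferInstance, ↥R' ⊗[k₀] A₀₀,
    inferInstance, inferInstance, B₀, inferInstance, inferInstance, inferInstance, inferInstance,
    eA, eB, n1, ftA, ftB, hcomp⟩

/-- compatible Noetherian models of `A → B` finitely presented over `R`. -/
theorem exists_models [Algebra.FinitePresentation R A] [Algebra.FinitePresentation R B] :
    ∃ (k : Type u) (_ : CommRing k) (_ : Algebra k R) (A₀ : Type u) (_ : CommRing A₀)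
      (_ : Algebra k A₀) (B₀ : Type u) (_ : CommRing B₀) (_ : Algebra k B₀) (_ : Algebra A₀ B₀)
      (_ : IsScalarTower k A₀ B₀) (eA : R ⊗[k] A₀ ≃ₐ[R] A) (eB : R ⊗[k] B₀ ≃ₐ[R] B),
      IsNoetherianRing k ∧ Algebra.FiniteType k A₀ ∧ Algebra.FiniteType k B₀ ∧
      ∀ x, eB (Algebra.TensorProduct.map (AlgHom.id R R) (IsScalarTower.toAlgHom k A₀ B₀) x) =
        algebraMap A B (eA x) := by
  haveI : Algebra.FinitePresentation A B :=
    Algebra.FinitePresentation.of_restrict_scalars_finitePresentation R A B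
  exact exists_models_aux R A B (Algebra.Presentation.ofFinitePresentation R A).Core
    ((Algebra.Presentation.ofFinitePresentation R A).ModelOfHasCoeffs
      (Algebra.Presentation.ofFinitePresentation R A).Core)
    ((Algebra.Presentation.ofFinitePresentation R A).tensorModelOfHasCoeffsEquiv
      (Algebra.Presentation.ofFinitePresentation R A).Core)

end models


section fp

variable {R A B : Type u} [CommRing R] [CommRing A] [CommRing B] [Algebra R A] [Algebra A B]
  [Algebra R B] [IsScalarTower R A B] [Algebra.FinitePresentation R A]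
  [Algebra.FinitePresentation R B]

/-- **Critère de platitude par fibres**, pointwise, `A` and `B` finitely presented over `R`,
fibre ring form. -/
theorem cpf_fp_fiber (p : Ideal R) [p.IsPrime] (q : Ideal (p.Fiber B)) [q.IsPrime]
    (ha : Module.Flat R (Localization.AtPrime (q.comap (includeRight : B →ₐ[R] p.Fiber B))))
    (hb : letI := fibAlgebra (A := A) (B := B) p
      Module.Flat (p.Fiber A) (Localization.AtPrime q)) :
    Module.Flat A (Localization.AtPrime (q.comap (includeRight : B →ₐ[R] p.Fiber B))) := by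
  obtain ⟨k, _, _, A₀, _, _, B₀, _, _, _, _, eA, eB, hk, hA₀, hB₀, hcomp⟩ := exists_models R A B
  letI a2 := tAlg k A₀ B₀ R
  haveI t02 := tAlg_tower k A₀ B₀ R
  refine cpf_transport (A' := R ⊗[k] A₀) (B' := R ⊗[k] B₀) eA eB hcomp p ?_ q ha hb
  intro q' _ ha' hb'
  exact cpf_model_literal k R A₀ B₀ p q' ha' hb'

end fp

end Groth.Agent.Lib.Helper54.CPF
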