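import Mathlib
import Groth.Agent.Lib.Helper54.CPFFp

/-!
# Critère de platitude par fibres, finite type base (helper54)

* `cpf_ft_fiber`: pointwise fibre criterion for `R → A → B` with `A` of finite type and `B`
  finitely presented over `R` (fibre-ring form).
-/

set_option autoImplicit false
set_option linter.style.haveILetI false
set_option linter.unusedSectionVars false
universe u

open TensorProduct Algebra Algebra.TensorProduct

attribute [local instance] Algebra.TensorProduct.rightAlgebra

namespace Groth.Agent.Lib.Helper54.CPF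

open Groth.Agent.Lib.Helper55.FL


theorem flat_of_surjective_of_flat {A' A M : Type u} [CommRing A'] [CommRing A] [Algebra A' A]
    [AddCommGroup M] [Module A' M] [Module A M] [IsScalarTower A' A M]
    (h : Function.Surjective (algebraMap A' A)) [Module.Flat A' M] : Module.Flat A M := by
  haveI := TensorProduct.CompatibleSMul.of_algebraMap_surjective (R := A') (A := A) (M := A)
    (N := M) h
  exact Module.Flat.of_linearEquiv (TensorProduct.lidOfCompatibleSMul A' A M).symm

theorem exists_fg_le_map_eq {C F : Type u} [CommRing C] [CommRing F] (φ : C →+* F)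
    [IsNoetherianRing F] (I : Ideal C) :
    ∃ J : Ideal C, J.FG ∧ J ≤ I ∧ J.map φ = I.map φ := by
  classical
  have hfg : (I.map φ).FG := IsNoetherian.noetherian _
  change (Submodule.span F (φ '' (I : Set C))).FG at hfg
  rw [Submodule.fg_span_iff_fg_span_finset_subset] at hfg
  obtain ⟨s', hs', hspan⟩ := hfg
  obtain ⟨t, ht, rfl⟩ := Finset.subset_set_image_iff.mp hs'
  refine ⟨Ideal.span (t : Set C), ⟨t, rfl⟩, Ideal.span_le.mpr ht, ?_⟩
  rw [Ideal.map_span]
  change _ = Submodule.span F (φ '' (I : Set C))
  rw [hspan, Finset.coe_image]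

section fibiso

variable {R A' A : Type u} [CommRing R] [CommRing A'] [CommRing A] [Algebra R A'] [Algebra R A]
  (p : Ideal R) [p.IsPrime]

/-- if `ψ : A' → A` is surjective and its kernel dies in the fibre, the fibres agree. -/
theorem fiber_map_bijective (ψ : A' →ₐ[R] A) (hψ : Function.Surjective ψ)
    (hker : ∀ x ∈ RingHom.ker ψ, (1 : p.ResidueField) ⊗ₜ[R] x = 0) :
    Function.Bijective (Algebra.TensorProduct.map (AlgHom.id p.ResidueField p.ResidueField) ψ) := by
  refine ⟨?_, Algebra.TensorProduct.map_surjective _ _ Function.surjective_id hψ⟩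
  rw [← RingHom.coe_coe, RingHom.injective_iff_ker_eq_bot]
  have := Algebra.TensorProduct.lTensor_ker (A := p.ResidueField) ψ hψ
  rw [eq_bot_iff]
  intro x hx
  have hx' : x ∈ RingHom.ker (Algebra.TensorProduct.map (AlgHom.id R p.ResidueField) ψ) := hx
  rw [this] at hx'
  have hle : (RingHom.ker ψ).map (includeRight : A' →ₐ[R] p.ResidueField ⊗[R] A') ≤ ⊥ := by
    rw [Ideal.map_le_iff_le_comap]
    intro y hy
    exact hker y hy
  exact hle hx'

end fibiso

section ft

variable {R A B : Type u} [CommRing R] [CommRing A] [CommRing B] [Algebra R A] [Algebra A B]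
  [Algebra R B] [IsScalarTower R A B] [Algebra.FiniteType R A]
  [Algebra.FinitePresentation R B]

set_option maxRecDepth 4000 in
/-- **Critère de platitude par fibres**, pointwise, `A` of finite type and `B` finitely presented
over `R`, fibre ring form. -/
theorem cpf_ft_fiber (p : Ideal R) [p.IsPrime] (q : Ideal (p.Fiber B)) [q.IsPrime]
    (ha : Module.Flat R (Localization.AtPrime (q.comap (includeRight : B →ₐ[R] p.Fiber B))))
    (hb : letI := fibAlgebra (A := A) (B := B) p
      Module.Flat (p.Fiber A) (Localization.AtPrime q)) :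
    Module.Flat A (Localization.AtPrime (q.comap (includeRight : B →ₐ[R] p.Fiber B))) := by
  classical
  obtain ⟨n, π, hπ⟩ := Algebra.FiniteType.iff_quotient_mvPolynomial''.1
    (inferInstance : Algebra.FiniteType R A)
  haveI : IsNoetherianRing (p.Fiber (MvPolynomial (Fin n) R)) :=
    Algebra.FiniteType.isNoetherianRing p.ResidueField _
  obtain ⟨J, hJfg, hJI, hJmap⟩ := exists_fg_le_map_eq
    (includeRight : MvPolynomial (Fin n) R →ₐ[R] p.Fiber (MvPolynomial (Fin n) R)).toRingHom
    (RingHom.ker π)
  let ψ : (MvPolynomial (Fin n) R ⧸ J) →ₐ[R] A := Ideal.Quotient.liftₐ J π (fun a ha => hJI ha)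
  have hψ : Function.Surjective ψ := Ideal.Quotient.lift_surjective_of_surjective _ _ hπ
  haveI fpA' : Algebra.FinitePresentation R (MvPolynomial (Fin n) R ⧸ J) :=
    Algebra.FinitePresentation.quotient hJfg
  letI i1 : Algebra (MvPolynomial (Fin n) R ⧸ J) A := ψ.toRingHom.toAlgebra
  letI i2 : Algebra (MvPolynomial (Fin n) R ⧸ J) B :=
    ((algebraMap A B).comp ψ.toRingHom).toAlgebra
  haveI t1 : IsScalarTower (MvPolynomial (Fin n) R ⧸ J) A B :=
    IsScalarTower.of_algebraMap_eq fun _ => rfl
  haveI t2 : IsScalarTower R (MvPolynomial (Fin n) R ⧸ J) A :=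
    IsScalarTower.of_algebraMap_eq fun x => (ψ.commutes x).symm
  haveI t3 : IsScalarTower R (MvPolynomial (Fin n) R ⧸ J) B :=
    IsScalarTower.of_algebraMap_eq fun x => by
      rw [IsScalarTower.algebraMap_apply R A B,
        IsScalarTower.algebraMap_apply R (MvPolynomial (Fin n) R ⧸ J) A,
        ← IsScalarTower.algebraMap_apply (MvPolynomial (Fin n) R ⧸ J) A B]
  have hker : ∀ x ∈ RingHom.ker ψ, (1 : p.ResidueField) ⊗ₜ[R] x = 0 := by
    intro x hx
    obtain ⟨c, rfl⟩ := Ideal.Quotient.mk_surjective x
    have hc : c ∈ RingHom.ker π := hx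
    have h1 : (includeRight : MvPolynomial (Fin n) R →ₐ[R]
        p.Fiber (MvPolynomial (Fin n) R)).toRingHom c ∈ (RingHom.ker π).map
        (includeRight : MvPolynomial (Fin n) R →ₐ[R]
          p.Fiber (MvPolynomial (Fin n) R)).toRingHom := Ideal.mem_map_of_mem _ hc
    rw [← hJmap] at h1
    have h2 := Algebra.TensorProduct.lTensor_ker (A := p.ResidueField)
      (Ideal.Quotient.mkₐ R J) (Ideal.Quotient.mkₐ_surjective R J)
    have h4 : RingHom.ker (Ideal.Quotient.mkₐ R J) = J := Ideal.Quotient.mkₐ_ker R J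
    rw [h4] at h2
    have h3 : (includeRight : MvPolynomial (Fin n) R →ₐ[R]
        p.Fiber (MvPolynomial (Fin n) R)).toRingHom c ∈ RingHom.ker
        (Algebra.TensorProduct.map (AlgHom.id R p.ResidueField) (Ideal.Quotient.mkₐ R J)) := by
      rw [h2]
      exact h1
    exact h3
  have hbij := fiber_map_bijective p ψ hψ hker
  let E : p.Fiber (MvPolynomial (Fin n) R ⧸ J) ≃+* p.Fiber A :=
    RingEquiv.ofBijective (Algebra.TensorProduct.map
      (AlgHom.id p.ResidueField p.ResidueField) ψ) hbij
  letI i3 := fibAlgebra (A := A) (B := B) p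
  letI i4 := fibAlgebra (A := MvPolynomial (Fin n) R ⧸ J) (B := B) p
  have hcomm : ∀ c, (RingEquiv.refl (p.Fiber B)) (algebraMap
      (p.Fiber (MvPolynomial (Fin n) R ⧸ J)) (p.Fiber B) c) =
      algebraMap (p.Fiber A) (p.Fiber B) (E c) := by
    intro c
    induction c using TensorProduct.induction_on with
    | zero => simp
    | add x y hx hy => simp only [map_add, hx, hy]
    | tmul c a => rfl
  have hb' : Module.Flat (p.Fiber (MvPolynomial (Fin n) R ⧸ J)) (Localization.AtPrime q) := by
    have := flat_atPrime_of_ringEquiv (C := p.Fiber (MvPolynomial (Fin n) R ⧸ J))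
      (D := p.Fiber B) (C' := p.Fiber A) (D' := p.Fiber B) E (RingEquiv.refl _) hcomm q hb
    refine flat_atPrime_congr' ?_ this
    ext z
    rfl
  have hc' := cpf_fp_fiber (A := MvPolynomial (Fin n) R ⧸ J) (B := B) p q ha hb'
  haveI := hc'
  haveI t4 : IsScalarTower (MvPolynomial (Fin n) R ⧸ J) A
      (Localization.AtPrime (q.comap (includeRight : B →ₐ[R] p.Fiber B))) :=
    IsScalarTower.to₁₂₄ _ _ B _
  exact flat_of_surjective_of_flat (A' := MvPolynomial (Fin n) R ⧸ J) (A := A) hψ

end ft

end Groth.Agent.Lib.Helper54.CPF
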