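import Mathlib
import Groth.Agent.Lib.Helper54.CPFFt
import Groth.Agent.Lib.Helper67.FiberTower

/-!
# Critère de platitude par fibres, local form (helper54)

* `cpf_abstract`: for `R → A₀ → B₀` (`A₀` of finite type, `B₀` finitely presented over `R`) and local
  rings `C = R_p → A = (A₀)_P → B = (B₀)_Q` with local maps `γ`, `φ`: if `φ ∘ γ` is flat and
  `A / m_C A → B / m_C B` is flat then `φ` is flat.
-/

set_option autoImplicit false
set_option linter.style.haveILetI false
set_option linter.unusedSectionVars false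
universe u

open TensorProduct Algebra Algebra.TensorProduct

attribute [local instance] Algebra.TensorProduct.rightAlgebra

namespace Groth.Agent.Lib.Helper54.CPF

open Groth.Agent.Lib.Helper55.FL Groth.Agent.Lib.Helper67.FiberTower


section L

variable {A₀ A B : Type u} [CommRing A₀] [CommRing A] [CommRing B] [Algebra A₀ A] [Algebra A₀ B]
  (φ : A →+* B) (I : Ideal A₀)

theorem flat_quot_of_flat_quotientMap (hφ : ∀ a, φ (algebraMap A₀ A a) = algebraMap A₀ B a)
    [Module.Flat A₀ A] (KA : Ideal A) (KB : Ideal B)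
    (hKA : KA = I.map (algebraMap A₀ A)) (hKB : KB = I.map (algebraMap A₀ B))
    (hle : KA ≤ KB.comap φ) (h : (Ideal.quotientMap KB φ hle).Flat) :
    Module.Flat (A₀ ⧸ I) (B ⧸ I.map (algebraMap A₀ B)) := by
  subst hKA hKB
  letI i1 : Algebra (A ⧸ I.map (algebraMap A₀ A)) (B ⧸ I.map (algebraMap A₀ B)) :=
    (Ideal.quotientMap (I.map (algebraMap A₀ B)) φ hle).toAlgebra
  haveI t1 : IsScalarTower (A₀ ⧸ I) (A ⧸ I.map (algebraMap A₀ A)) (B ⧸ I.map (algebraMap A₀ B)) :=
    IsScalarTower.of_algebraMap_eq fun x => by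
      obtain ⟨a, rfl⟩ := Ideal.Quotient.mk_surjective x
      show Ideal.Quotient.mk _ (algebraMap A₀ B a) = Ideal.Quotient.mk _ (φ (algebraMap A₀ A a))
      rw [hφ]
  haveI f1 : Module.Flat (A₀ ⧸ I) (A ⧸ I.map (algebraMap A₀ A)) :=
    Module.Flat.of_linearEquiv (quotIdealMapEquivQuotTensor A I).toLinearEquiv
  haveI f2 : Module.Flat (A ⧸ I.map (algebraMap A₀ A)) (B ⧸ I.map (algebraMap A₀ B)) := h
  exact Module.Flat.trans (A₀ ⧸ I) (A ⧸ I.map (algebraMap A₀ A)) (B ⧸ I.map (algebraMap A₀ B))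

end L

theorem f4_congr {A₀ B₀ : Type u} [CommRing A₀] [CommRing B₀] [Algebra A₀ B₀] (I : Ideal A₀)
    {Q Q' : Ideal B₀} [Q.IsPrime] [Q'.IsPrime] (h : Q = Q')
    (hf : Module.Flat (A₀ ⧸ I) ((A₀ ⧸ I) ⊗[A₀] Localization.AtPrime Q)) :
    Module.Flat (A₀ ⧸ I) ((A₀ ⧸ I) ⊗[A₀] Localization.AtPrime Q') := by
  subst h
  exact hf

section abstract

variable {R A₀ B₀ : Type u} [CommRing R] [CommRing A₀] [CommRing B₀] [Algebra R A₀]
  [Algebra A₀ B₀] [Algebra R B₀] [IsScalarTower R A₀ B₀] [Algebra.FiniteType R A₀]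
  [Algebra.FinitePresentation R B₀]
  {C A B : Type u} [CommRing C] [CommRing A] [CommRing B] [IsLocalRing C] [IsLocalRing A]
  [IsLocalRing B] [Algebra R C] [Algebra A₀ A] [Algebra B₀ B]
  (γ : C →+* A) (φ : A →+* B) [IsLocalHom γ] [IsLocalHom φ]

set_option maxRecDepth 4000 in
/-- **Critère de platitude par fibres**, local form: `C = R_p → A = (A₀)_P → B = (B₀)_Q`. -/
theorem cpf_abstract
    (p : Ideal R) [p.IsPrime] (P : Ideal A₀) [P.IsPrime] (Q : Ideal B₀) [Q.IsPrime]
    [IsLocalization.AtPrime C p] [IsLocalization.AtPrime A P] [IsLocalization.AtPrime B Q]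
    (hγ : ∀ r, γ (algebraMap R C r) = algebraMap A₀ A (algebraMap R A₀ r))
    (hφ : ∀ a, φ (algebraMap A₀ A a) = algebraMap B₀ B (algebraMap A₀ B₀ a))
    (h1 : (φ.comp γ).Flat) (h2 : (φ' γ φ).Flat) : φ.Flat := by
  letI aAB : Algebra A B := φ.toAlgebra
  letI aA₀B : Algebra A₀ B := ((algebraMap B₀ B).comp (algebraMap A₀ B₀)).toAlgebra
  haveI t1 : IsScalarTower A₀ B₀ B := IsScalarTower.of_algebraMap_eq fun _ => rfl
  haveI t2 : IsScalarTower A₀ A B := IsScalarTower.of_algebraMap_eq fun a => (hφ a).symm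
  letI aRB : Algebra R B := ((algebraMap B₀ B).comp (algebraMap R B₀)).toAlgebra
  haveI t3 : IsScalarTower R B₀ B := IsScalarTower.of_algebraMap_eq fun _ => rfl
  haveI t4 : IsScalarTower R A₀ B := IsScalarTower.of_algebraMap_eq fun r => by
    show algebraMap B₀ B (algebraMap R B₀ r) = algebraMap B₀ B (algebraMap A₀ B₀ (algebraMap R A₀ r))
    rw [← IsScalarTower.algebraMap_apply R A₀ B₀]
  letI aCB : Algebra C B := (φ.comp γ).toAlgebra
  haveI t5 : IsScalarTower R C B := IsScalarTower.of_algebraMap_eq fun r => by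
    show algebraMap B₀ B (algebraMap R B₀ r) = φ (γ (algebraMap R C r))
    rw [hγ, hφ, ← IsScalarTower.algebraMap_apply R A₀ B₀]
  -- primes
  have hP : P = Q.comap (algebraMap A₀ B₀) := by
    ext a
    rw [Ideal.mem_comap, ← IsLocalization.AtPrime.to_map_mem_maximal_iff A P,
      ← IsLocalization.AtPrime.to_map_mem_maximal_iff B Q, ← hφ]
    constructor
    · intro h hu
      exact h ((isUnit_map_iff φ _).1 hu)
    · intro h hu
      exact h (hu.map φ)
  have hp : p = P.comap (algebraMap R A₀) := by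
    ext a
    rw [Ideal.mem_comap, ← IsLocalization.AtPrime.to_map_mem_maximal_iff C p,
      ← IsLocalization.AtPrime.to_map_mem_maximal_iff A P, ← hγ]
    constructor
    · intro h hu
      exact h ((isUnit_map_iff γ _).1 hu)
    · intro h hu
      exact h (hu.map γ)
  have hpQ : p = Q.comap (algebraMap R B₀) := by
    rw [hp, hP, Ideal.comap_comap, ← IsScalarTower.algebraMap_eq]
  -- the comparison `B ≃ (B₀)_Q`
  let e : B ≃ₐ[B₀] Localization.AtPrime Q := IsLocalization.algEquiv Q.primeCompl B _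
  -- (a)
  haveI fRC : Module.Flat R C := IsLocalization.flat C p.primeCompl
  haveI fCB : Module.Flat C B := h1
  haveI fRB : Module.Flat R B := Module.Flat.trans R C B
  have ha : Module.Flat R (Localization.AtPrime Q) :=
    Module.Flat.of_linearEquiv (e.toLinearEquiv.restrictScalars R).symm
  -- the prime of the fibre
  haveI hlo : Q.LiesOver p := ⟨hpQ⟩
  let q := PrimeSpectrum.primesOverOrderIsoFiber R B₀ p ⟨Q, ⟨inferInstance, inferInstance⟩⟩
  have hq : q.asIdeal.comap (includeRight : B₀ →ₐ[R] p.Fiber B₀) = Q := by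
    have := (PrimeSpectrum.primesOverOrderIsoFiber R B₀ p).symm_apply_apply
      ⟨Q, ⟨inferInstance, inferInstance⟩⟩
    exact congrArg Subtype.val this
  have ha' : Module.Flat R (Localization.AtPrime
      (q.asIdeal.comap (includeRight : B₀ →ₐ[R] p.Fiber B₀))) :=
    flat_atPrime_congr' hq.symm ha
  -- (b)
  haveI fA₀A : Module.Flat A₀ A := IsLocalization.flat A P.primeCompl
  have hIA : IA γ = (p.map (algebraMap R A₀)).map (algebraMap A₀ A) := by
    rw [IA, ← IsLocalization.AtPrime.map_eq_maximalIdeal p C, Ideal.map_map, Ideal.map_map]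
    congr 1
    exact RingHom.ext hγ
  have hIB : IB γ φ = (p.map (algebraMap R A₀)).map (algebraMap A₀ B) := by
    rw [IB, ← IsLocalization.AtPrime.map_eq_maximalIdeal p C, Ideal.map_map, Ideal.map_map]
    congr 1
    refine RingHom.ext fun r => ?_
    show φ (γ (algebraMap R C r)) = algebraMap B₀ B (algebraMap A₀ B₀ (algebraMap R A₀ r))
    rw [hγ, hφ]
  have hb1 : Module.Flat (A₀ ⧸ p.map (algebraMap R A₀))
      (B ⧸ (p.map (algebraMap R A₀)).map (algebraMap A₀ B)) :=
    flat_quot_of_flat_quotientMap φ (p.map (algebraMap R A₀)) (fun a => hφ a) (IA γ) (IB γ φ)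
      hIA hIB (IA_le_comap γ φ) h2
  have hb2 : Module.Flat (A₀ ⧸ p.map (algebraMap R A₀))
      ((A₀ ⧸ p.map (algebraMap R A₀)) ⊗[A₀] B) :=
    Module.Flat.of_linearEquiv
      (quotIdealMapEquivQuotTensor B (p.map (algebraMap R A₀))).symm.toLinearEquiv
  have hb3 : Module.Flat (A₀ ⧸ p.map (algebraMap R A₀))
      ((A₀ ⧸ p.map (algebraMap R A₀)) ⊗[A₀] Localization.AtPrime Q) :=
    Module.Flat.of_linearEquiv (TensorProduct.AlgebraTensorModule.congr
      (LinearEquiv.refl (A₀ ⧸ p.map (algebraMap R A₀)) (A₀ ⧸ p.map (algebraMap R A₀)))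
      (e.toLinearEquiv.restrictScalars A₀)).symm
  have hb4 := (flat_fiber_iff (A := A₀) (B := B₀) p q.asIdeal).2
    (f4_congr (p.map (algebraMap R A₀)) hq.symm hb3)
  have hc := cpf_ft_fiber (A := A₀) (B := B₀) p q.asIdeal ha' hb4
  haveI hc' : Module.Flat A₀ (Localization.AtPrime Q) := flat_atPrime_congr' hq hc
  have hc2 : Module.Flat A₀ B :=
    Module.Flat.of_linearEquiv (e.toLinearEquiv.restrictScalars A₀)
  have hc3 : Module.Flat A B := (Module.flat_iff_of_isLocalization A P.primeCompl B).2 hc2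
  exact hc3

end abstract

end Groth.Agent.Lib.Helper54.CPF
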