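import Mathlib
import Groth.Prelude.Def_MoreMor
import Groth.Agent.Lib.Helper67.FiberStalk3
import Groth.Agent.Lib.Helper54.CPFLocal
import Groth.Agent.Lib.Helper55.FL.StalkFlat

/-!
# Critère de platitude par fibres for schemes (helper54)

* `fiberMap_stalkMap_flat_iff`: the stalk map of the map of fibres `X_s → Y_s` at `x` is flat iff
  `O_{Y,y}/m_s O_{Y,y} → O_{X,x}/m_s O_{X,x}` is flat.
* `stalk_cpf`: the critère de platitude par fibres on stalks.
* `lfp_of_comp`: `f` is locally of finite presentation if `f ≫ g` is and `g` is locally of finite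
  type.
-/

set_option autoImplicit false
set_option linter.style.haveILetI false
set_option linter.unusedSectionVars false
universe u

open CategoryTheory CategoryTheory.Limits AlgebraicGeometry Opposite TopologicalSpace

namespace Groth.Agent.Lib.Helper54.CPF

open Groth.Agent.Lib.Helper67.FiberStalk Groth.Agent.Lib.Helper67.FiberTower

variable {X Y S : Scheme.{u}} (f : X ⟶ Y) (g : Y ⟶ S)


theorem fiberMap_fiberι (s : S) :
    MoreMor.fiberMap f g s ≫ g.fiberι s = (f ≫ g).fiberι s ≫ f :=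
  pullback.lift_fst _ _ _

/-- `σ` with a general base point. -/
noncomputable def σ' (h : X ⟶ S) (s : S) (x' : h.fiber s) (x : X) (hx' : h.fiberι s x' = x) :
    X.presheaf.stalk x ⟶ (h.fiber s).presheaf.stalk x' :=
  (X.presheaf.stalkCongr (.of_eq hx'.symm)).hom ≫ (h.fiberι s).stalkMap x'

theorem fiberι_fiberMap (s : S) (x' : (f ≫ g).fiber s) (x : X)
    (hx' : (f ≫ g).fiberι s x' = x) :
    g.fiberι s (MoreMor.fiberMap f g s x') = f x := by
  have h := congrArg (fun φ : (f ≫ g).fiber s ⟶ Y => φ x') (fiberMap_fiberι f g s)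
  simp only [Scheme.Hom.comp_apply] at h
  rw [h, hx']

/-- the stalk of the fibre map is the map induced by `f` on `O/m_s O`. -/
theorem σ'_fiberMap (s : S) (x' : (f ≫ g).fiber s) (x : X)
    (hx' : (f ≫ g).fiberι s x' = x) :
    σ' g s (MoreMor.fiberMap f g s x') (f x) (fiberι_fiberMap f g s x' x hx') ≫
      (MoreMor.fiberMap f g s).stalkMap x' =
    f.stalkMap x ≫ σ' (f ≫ g) s x' x hx' := by
  have h1 := Scheme.Hom.stalkMap_congr_hom _ _ (fiberMap_fiberι f g s) x'
  rw [Scheme.Hom.stalkMap_comp, Scheme.Hom.stalkMap_comp] at h1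
  rw [σ', σ', Category.assoc, h1, Scheme.Hom.stalkMap_congr_point_assoc _ _ _ hx'.symm]
  simp only [TopCat.Presheaf.stalkCongr_hom]
  erw [TopCat.Presheaf.stalkSpecializes_comp_assoc]
  rfl

/-- the stalk map of the map of fibres is flat iff `O_{Y,y}/m_s → O_{X,x}/m_s` is flat. -/
theorem fiberMap_stalkMap_flat_iff (x : X) :
    ((MoreMor.fiberMap f g (g (f x))).stalkMap ((f ≫ g).asFiber x)).hom.Flat ↔
      (φ' (g.stalkMap (f x)).hom (f.stalkMap x).hom).Flat := by
  have hx' : (f ≫ g).fiberι ((f ≫ g) x) ((f ≫ g).asFiber x) = x := (f ≫ g).fiberι_asFiber x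
  have hy' := fiberι_fiberMap f g (g (f x)) ((f ≫ g).asFiber x) x hx'
  let e₁ := stalkEquiv g (f x) (MoreMor.fiberMap f g (g (f x)) ((f ≫ g).asFiber x)) hy'
  let e₂ := (stalkEquiv (f ≫ g) x ((f ≫ g).asFiber x) hx').trans (qCompEquiv f g x)
  have hsq : ∀ t, e₂ (((MoreMor.fiberMap f g (g (f x))).stalkMap ((f ≫ g).asFiber x)).hom t) =
      φ' (g.stalkMap (f x)).hom (f.stalkMap x).hom (e₁ t) := by
    intro t
    obtain ⟨a, rfl⟩ := σ_surjective g (f x) _ hy' t
    have h1 : e₁ ((σ g (f x) _ hy').hom a) = Ideal.Quotient.mk _ a := stalkEquiv_σ g (f x) _ hy' a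
    rw [h1, φ'_mk]
    have h2 := congrArg (fun ψ => ψ.hom a) (σ'_fiberMap f g (g (f x)) ((f ≫ g).asFiber x) x hx')
    have h3 : ((MoreMor.fiberMap f g (g (f x))).stalkMap ((f ≫ g).asFiber x)).hom
        ((σ g (f x) _ hy').hom a) =
        (σ (f ≫ g) x ((f ≫ g).asFiber x) hx').hom ((f.stalkMap x).hom a) := h2
    rw [h3]
    have h4 := stalkEquiv_σ (f ≫ g) x ((f ≫ g).asFiber x) hx' ((f.stalkMap x).hom a)
    exact (congrArg (qCompEquiv f g x) h4).trans rfl
  constructor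
  · intro h
    exact ringHom_flat_of_comm _ _ e₁ e₂ (RingHom.ext hsq) h
  · intro h
    refine ringHom_flat_of_comm _ _ e₁.symm e₂.symm (RingHom.ext fun t => ?_) h
    have h5 := hsq (e₁.symm t)
    rw [RingEquiv.apply_symm_apply] at h5
    exact (RingEquiv.symm_apply_eq e₂).2 h5.symm



theorem exists_affine_triple (x : X) :
    ∃ (W : S.Opens) (_ : IsAffineOpen W) (U : Y.Opens) (_ : IsAffineOpen U) (V : X.Opens)
      (_ : IsAffineOpen V) (_ : U ≤ g ⁻¹ᵁ W) (_ : V ≤ f ⁻¹ᵁ U), x ∈ V := by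
  obtain ⟨_, ⟨W, hW, rfl⟩, hsW, -⟩ :=
    S.isBasis_affineOpens.exists_subset_of_mem_open (Set.mem_univ (g (f x))) isOpen_univ
  obtain ⟨_, ⟨U, hU, rfl⟩, hyU, hUW⟩ :=
    Y.isBasis_affineOpens.exists_subset_of_mem_open (show f x ∈ (g ⁻¹ᵁ W : Set Y) from hsW)
      (g ⁻¹ᵁ W).isOpen
  obtain ⟨_, ⟨V, hV, rfl⟩, hxV, hVU⟩ :=
    X.isBasis_affineOpens.exists_subset_of_mem_open (show x ∈ (f ⁻¹ᵁ U : Set X) from hyU)
      (f ⁻¹ᵁ U).isOpen
  exact ⟨W, hW, U, hU, V, hV, hUW, hVU, hxV⟩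

set_option maxRecDepth 4000 in
/-- the critère de platitude par fibres on stalks. -/
theorem stalk_cpf [LocallyOfFinitePresentation (f ≫ g)] [LocallyOfFiniteType g] (x : X)
    (h1 : ((f ≫ g).stalkMap x).hom.Flat)
    (h2 : (φ' (g.stalkMap (f x)).hom (f.stalkMap x).hom).Flat) :
    (f.stalkMap x).hom.Flat := by
  obtain ⟨W, hW, U, hU, V, hV, e₁, e₂, hxV⟩ := exists_affine_triple f g x
  have hyU : f x ∈ U := e₂ hxV
  have hsW : g (f x) ∈ W := e₁ hyU
  have e₃ : V ≤ (f ≫ g) ⁻¹ᵁ W := fun z hz => e₁ (e₂ hz)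
  letI a1 : Algebra Γ(S, W) Γ(Y, U) := (g.appLE W U e₁).hom.toAlgebra
  letI a2 : Algebra Γ(Y, U) Γ(X, V) := (f.appLE U V e₂).hom.toAlgebra
  letI a3 : Algebra Γ(S, W) Γ(X, V) := ((f ≫ g).appLE W V e₃).hom.toAlgebra
  haveI t1 : IsScalarTower Γ(S, W) Γ(Y, U) Γ(X, V) := IsScalarTower.of_algebraMap_eq fun r => by
    have := Scheme.Hom.appLE_comp_appLE f g W U V e₁ e₂
    exact (congrArg (fun ψ => ψ.hom r) this).symm
  haveI ft : Algebra.FiniteType Γ(S, W) Γ(Y, U) := g.finiteType_appLE hW hU e₁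
  haveI fp : Algebra.FinitePresentation Γ(S, W) Γ(X, V) :=
    (f ≫ g).finitePresentation_appLE hW hV e₃
  letI a4 := S.presheaf.algebra_section_stalk ⟨g (f x), hsW⟩
  letI a5 := Y.presheaf.algebra_section_stalk ⟨f x, hyU⟩
  letI a6 := X.presheaf.algebra_section_stalk ⟨x, hxV⟩
  haveI l1 := hW.isLocalization_stalk ⟨g (f x), hsW⟩
  haveI l2 := hU.isLocalization_stalk ⟨f x, hyU⟩
  haveI l3 := hV.isLocalization_stalk ⟨x, hxV⟩
  have h1' : ((f.stalkMap x).hom.comp (g.stalkMap (f x)).hom).Flat := by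
    have h := h1
    rw [Scheme.Hom.stalkMap_comp] at h
    exact h
  refine cpf_abstract (R := Γ(S, W)) (A₀ := Γ(Y, U)) (B₀ := Γ(X, V))
    (C := S.presheaf.stalk (g (f x))) (A := Y.presheaf.stalk (f x)) (B := X.presheaf.stalk x)
    (g.stalkMap (f x)).hom (f.stalkMap x).hom
    (hW.primeIdealOf ⟨g (f x), hsW⟩).asIdeal (hU.primeIdealOf ⟨f x, hyU⟩).asIdeal
    (hV.primeIdealOf ⟨x, hxV⟩).asIdeal ?_ ?_ h1' h2
  · intro r
    simp only [RingHom.algebraMap_toAlgebra, Scheme.Hom.germ_stalkMap_apply, Scheme.Hom.appLE,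
      homOfLE_leOfHom, CommRingCat.hom_comp, RingHom.coe_comp, Function.comp_apply,
      Y.presheaf.germ_res_apply]
  · intro r
    simp only [RingHom.algebraMap_toAlgebra, Scheme.Hom.germ_stalkMap_apply, Scheme.Hom.appLE,
      homOfLE_leOfHom, CommRingCat.hom_comp, RingHom.coe_comp, Function.comp_apply,
      X.presheaf.germ_res_apply]


theorem lfp_of_comp [LocallyOfFinitePresentation (f ≫ g)] [LocallyOfFiniteType g] :
    LocallyOfFinitePresentation f := by
  have hQ : RingHom.StableUnderCompositionWithLocalizationAwaySource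
      @RingHom.FinitePresentation := by
    intro R S T _ _ _ _ r _ φ hφ
    exact RingHom.finitePresentation_stableUnderComposition _ _
      (RingHom.finitePresentation_holdsForLocalizationAway S r) hφ
  rw [HasRingHomProperty.iff_exists_appLE (P := @LocallyOfFinitePresentation) hQ]
  intro x
  obtain ⟨W, hW, U, hU, V, hV, e₁, e₂, hxV⟩ := exists_affine_triple f g x
  refine ⟨⟨U, hU⟩, ⟨V, hV⟩, hxV, e₂, ?_⟩
  have e₃ : V ≤ (f ≫ g) ⁻¹ᵁ W := fun z hz => e₁ (e₂ hz)
  have h3 := (f ≫ g).finitePresentation_appLE hW hV e₃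
  have h4 : ((f.appLE U V e₂).hom.comp (g.appLE W U e₁).hom).FinitePresentation := by
    rw [← CommRingCat.hom_comp, Scheme.Hom.appLE_comp_appLE f g W U V e₁ e₂]
    exact h3
  exact RingHom.FinitePresentation.of_comp_finiteType _ h4 (g.finiteType_appLE hW hU e₁)

/-- **Critère de platitude par fibres** (EGA IV 11.3.10 for `F = O_X`), pointwise. -/
theorem cpf_pointwise [LocallyOfFinitePresentation (f ≫ g)] [LocallyOfFiniteType g] (x : X) :
    ((f ≫ g).stalkMap x).hom.Flat ∧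
      ((MoreMor.fiberMap f g (g (f x))).stalkMap ((f ≫ g).asFiber x)).hom.Flat ↔
        (g.stalkMap (f x)).hom.Flat ∧ (f.stalkMap x).hom.Flat := by
  rw [fiberMap_stalkMap_flat_iff]
  constructor
  · rintro ⟨h1, h2⟩
    have hφ := stalk_cpf f g x h1 h2
    refine ⟨?_, hφ⟩
    have h1' : ((f.stalkMap x).hom.comp (g.stalkMap (f x)).hom).Flat := by
      have h := h1
      rw [Scheme.Hom.stalkMap_comp] at h
      exact h
    have hff : (f.stalkMap x).hom.FaithfullyFlat := by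
      letI : Algebra (Y.presheaf.stalk (f x)) (X.presheaf.stalk x) := (f.stalkMap x).hom.toAlgebra
      haveI : IsLocalHom (algebraMap (Y.presheaf.stalk (f x)) (X.presheaf.stalk x)) :=
        inferInstanceAs (IsLocalHom (f.stalkMap x).hom)
      haveI : Module.Flat (Y.presheaf.stalk (f x)) (X.presheaf.stalk x) := hφ
      exact Module.FaithfullyFlat.of_flat_of_isLocalHom
    exact Groth.Agent.Lib.Helper19.RingHom.Flat.of_comp_of_faithfullyFlat _ _ hff h1'
  · rintro ⟨hγ, hφ⟩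
    refine ⟨?_, flat_φ' _ _ hφ⟩
    rw [Scheme.Hom.stalkMap_comp]
    exact RingHom.Flat.comp hγ hφ

/-- the locus where `g` is flat at `f x` and `f` is flat at `x` is open. -/
theorem cpf_isOpen [LocallyOfFinitePresentation (f ≫ g)] [LocallyOfFiniteType g] :
    IsOpen {x : X | (g.stalkMap (f x)).hom.Flat ∧ (f.stalkMap x).hom.Flat} := by
  haveI := lfp_of_comp f g
  have h1 := Groth.Agent.Lib.Helper55.FL.isOpen_stalkMap_flat (f ≫ g)
  have h2 := Groth.Agent.Lib.Helper55.FL.isOpen_stalkMap_flat f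
  convert h1.inter h2 using 1
  ext x
  simp only [Set.mem_ofPred_eq, Set.mem_inter_iff]
  constructor
  · rintro ⟨hγ, hφ⟩
    refine ⟨?_, hφ⟩
    rw [Scheme.Hom.stalkMap_comp]
    exact RingHom.Flat.comp hγ hφ
  · rintro ⟨h1, hφ⟩
    refine ⟨?_, hφ⟩
    have h1' : ((f.stalkMap x).hom.comp (g.stalkMap (f x)).hom).Flat := by
      have h := h1
      rw [Scheme.Hom.stalkMap_comp] at h
      exact h
    have hff : (f.stalkMap x).hom.FaithfullyFlat := by
      letI : Algebra (Y.presheaf.stalk (f x)) (X.presheaf.stalk x) := (f.stalkMap x).hom.toAlgebra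
      haveI : IsLocalHom (algebraMap (Y.presheaf.stalk (f x)) (X.presheaf.stalk x)) :=
        inferInstanceAs (IsLocalHom (f.stalkMap x).hom)
      haveI : Module.Flat (Y.presheaf.stalk (f x)) (X.presheaf.stalk x) := hφ
      exact Module.FaithfullyFlat.of_flat_of_isLocalHom
    exact Groth.Agent.Lib.Helper19.RingHom.Flat.of_comp_of_faithfullyFlat _ _ hff h1'

end Groth.Agent.Lib.Helper54.CPF
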