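import Groth.Agent.S10644
import Groth.Agent.Lib.Helper23.AlgSpNoeth2
import Groth.Agent.Lib.Helper23.AlgSpClosed

/-!
# The open locus of the base where a morphism of schemes is an isomorphism (helper54)

Scheme-level form of `Groth.Agent.S10644.result` (where_isomorphism for algebraic spaces):
for `f : X ⟶ Y` over `S`, with `X ⟶ S` flat, universally closed and locally of finite presentation
and `Y ⟶ S` closed, separated and locally of finite type, there is an open `U ⊆ S` such that a
morphism `t : T ⟶ S` factors through `U` iff the base change of `f` along `t` is an isomorphism.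
-/

set_option autoImplicit false
universe u
open CategoryTheory CategoryTheory.Limits AlgebraicGeometry
open AlgSp

namespace Groth.Agent.Lib.Helper54.SchemeIsoLocus

/-- independence of the chosen pullback squares (any category) -/
theorem isIso_baseChange_congr {C : Type*} [Category C] {X Y S T YT XT YT' XT' : C}
    {f : X ⟶ Y} {h : Y ⟶ S} {t : T ⟶ S}
    {gY : YT ⟶ Y} {hT : YT ⟶ T} {gX : XT ⟶ X} {fT : XT ⟶ YT}
    (sqY : IsPullback gY hT h t) (sqX : IsPullback gX fT f gY)
    {gY' : YT' ⟶ Y} {hT' : YT' ⟶ T} {gX' : XT' ⟶ X} {fT' : XT' ⟶ YT'}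
    (sqY' : IsPullback gY' hT' h t) (sqX' : IsPullback gX' fT' f gY') [IsIso fT] : IsIso fT' := by
  let eY : YT' ≅ YT := sqY'.isoIsPullback _ _ sqY
  have eY1 : eY.hom ≫ gY = gY' := IsPullback.isoIsPullback_hom_fst _ _ sqY' sqY
  have sqX'' : IsPullback gX' (fT' ≫ eY.hom) f gY :=
    IsPullback.of_iso sqX' (Iso.refl _) (Iso.refl _) eY (Iso.refl _) (by simp) (by simp)
      (by simp) (by simp [eY1])
  let eX : XT' ≅ XT := sqX''.isoIsPullback _ _ sqX
  have eX2 : eX.hom ≫ fT = fT' ≫ eY.hom := IsPullback.isoIsPullback_hom_snd _ _ sqX'' sqX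
  have : fT' = eX.hom ≫ fT ≫ eY.inv := by
    rw [← Category.assoc, eX2, Category.assoc, Iso.hom_inv_id, Category.comp_id]
  rw [this]
  infer_instance

open Groth.Agent.Lib.Helper46 Groth.Agent.Lib.Helper46.LocPChart Groth.Agent.Lib.Helper30.EtLocalInst
open Groth.Agent.Lib.Helper23.AlgSpMor

/-- a square over `S` whose underlying square of schemes is cartesian gives a cartesian square of
representable sheaves -/
theorem isPullback_yon_map {S : Scheme.{u}} {A B C D : Over S} {a : A ⟶ B} {b : A ⟶ C} {c : B ⟶ D}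
    {d : C ⟶ D} (sq : IsPullback a.left b.left c.left d.left) :
    IsPullback ((yon S).map a) ((yon S).map b) ((yon S).map c) ((yon S).map d) :=
  (IsPullback.of_map (Over.forget S) (Over.OverMorphism.ext sq.w) sq).map (yon S)

/-- **Scheme-level where_isomorphism.** -/
theorem exists_open_isIso_baseChange {X Y S : Scheme.{u}} (f : X ⟶ Y) (g : X ⟶ S) (h : Y ⟶ S)
    (w : f ≫ h = g) [Flat g] [LocallyOfFinitePresentation g] [UniversallyClosed g]
    [LocallyOfFiniteType h] [IsSeparated h] (hcl : IsClosedMap h.base) :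
    ∃ U : S.Opens, ∀ (T : Scheme.{u}) (t : T ⟶ S),
      Set.range t.base ⊆ (U : Set S) ↔
        ∀ (YT XT : Scheme.{u}) (gY : YT ⟶ Y) (hT : YT ⟶ T) (gX : XT ⟶ X) (fT : XT ⟶ YT),
          IsPullback gY hT h t → IsPullback gX fT f gY → IsIso fT := by
  -- objects over `S`
  let Z₀ : Over S := Over.mk (𝟙 S)
  let XO : Over S := Over.mk g
  let YO : Over S := Over.mk h
  let fO : XO ⟶ YO := Over.homMk f w
  let pO : XO ⟶ Z₀ := Over.homMk g (by simp [XO, Z₀])
  let qO : YO ⟶ Z₀ := Over.homMk h (by simp [YO, Z₀])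
  have hfq : fO ≫ qO = pO := by
    apply Over.OverMorphism.ext
    simpa [fO, qO, pO] using w
  let XS : Space S := ⟨(yon S).obj XO, IsAlgSpace.yon_obj XO⟩
  let YS : Space S := ⟨(yon S).obj YO, IsAlgSpace.yon_obj YO⟩
  let ZS : Space S := ⟨(yon S).obj Z₀, IsAlgSpace.yon_obj Z₀⟩
  let fS : XS ⟶ YS := ObjectProperty.homMk ((yon S).map fO)
  let pS : XS ⟶ ZS := ObjectProperty.homMk ((yon S).map pO)
  let qS : YS ⟶ ZS := ObjectProperty.homMk ((yon S).map qO)
  have hc : fS ≫ qS = pS := by
    ext1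
    change (yon S).map fO ≫ (yon S).map qO = (yon S).map pO
    rw [← Functor.map_comp, hfq]
  have hp1 : LocP @LocallyOfFinitePresentation pS.hom :=
    locP_yon_map_of etLocal_lfp pO (by change LocallyOfFinitePresentation g; infer_instance)
  have hp2 : LocP @Flat pS.hom :=
    locP_yon_map_of etLocal_flat pO (by change Flat g; infer_instance)
  have hp3 : IsUnivClosedMor pS.hom :=
    isUnivClosedMor_of_repWith _ ((repWith_yon_map_iff @UniversallyClosed pO).2
      (by change UniversallyClosed g; infer_instance))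
  have hq1 : LocP @LocallyOfFiniteType qS.hom :=
    locP_yon_map_of etLocal_lft qO (by change LocallyOfFiniteType h; infer_instance)
  have hq2 : IsClosedMor qS.hom := (isClosedMap_points_yon_map_iff qO).2 hcl
  have hq3 : IsSeparatedMor qS.hom :=
    (isSeparatedMor_yon_map_iff qO).2 (by change IsSeparated h; infer_instance)
  obtain ⟨W, wW, hwW, H⟩ := Groth.Agent.S10644.result fS pS qS hc hp1 hp2 hp3 hq1 hq2 hq3
  -- `W` is represented by an open subscheme of `S`
  have sqW := hwW.rep.isPullback (𝟙 ((yon S).obj Z₀))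
  have hjOI : IsOpenImmersion (hwW.rep.snd (𝟙 ((yon S).obj Z₀))).left :=
    hwW.property_snd (𝟙 ((yon S).obj Z₀))
  set U₀ : Over S := hwW.rep.pullback (𝟙 ((yon S).obj Z₀)) with hU₀
  set j : U₀ ⟶ Z₀ := hwW.rep.snd (𝟙 ((yon S).obj Z₀)) with hj
  set e : (yon S).obj U₀ ⟶ W.obj := hwW.rep.fst (𝟙 ((yon S).obj Z₀)) with he
  have heiso : IsIso e := sqW.isIso_fst_of_isIso
  have hej : e ≫ wW.hom = (yon S).map j := by
    have := sqW.w
    rwa [Category.comp_id] at this
  let U : S.Opens := j.left.opensRange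
  have hUr : (U : Set S) = Set.range j.left.base := rfl
  refine ⟨U, fun T t => ?_⟩
  let TO : Over S := Over.mk t
  let gt : TO ⟶ Z₀ := Over.homMk t (by simp [TO, Z₀])
  let TS : Space S := ⟨(yon S).obj TO, IsAlgSpace.yon_obj TO⟩
  let gS : TS ⟶ ZS := ObjectProperty.homMk ((yon S).map gt)
  have hfact : (∃ k : TS ⟶ W, k ≫ wW = gS) ↔ Set.range t.base ⊆ (U : Set S) := by
    constructor
    · rintro ⟨k, hk⟩
      have hk' : k.hom ≫ wW.hom = (yon S).map gt := congrArg (fun m => m.hom) hk
      obtain ⟨k₀, hk₀⟩ := (yon S).map_surjective (k.hom ≫ inv e)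
      have : k₀ ≫ j = gt := by
        apply (yon S).map_injective
        rw [Functor.map_comp, hk₀, ← hej, Category.assoc, IsIso.inv_hom_id_assoc, hk']
      have hl : k₀.left ≫ j.left = t := congrArg (fun m => m.left) this
      rintro _ ⟨x, rfl⟩
      rw [hUr]
      refine ⟨k₀.left.base x, ?_⟩
      rw [← hl]
      rfl
    · intro hr
      have hr' : Set.range t.base ⊆ Set.range j.left.base := by rw [← hUr]; exact hr
      let l : T ⟶ U₀.left := IsOpenImmersion.lift j.left t hr'
      have hl : l ≫ j.left = t := IsOpenImmersion.lift_fac _ _ _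
      have hjS : j.left = U₀.hom := by
        have := Over.w j
        simpa [Z₀] using this
      let k₀ : TO ⟶ U₀ := Over.homMk l (by rw [← hjS]; exact hl)
      have hk₀ : k₀ ≫ j = gt := by
        apply Over.OverMorphism.ext
        exact hl
      refine ⟨ObjectProperty.homMk ((yon S).map k₀ ≫ e), ?_⟩
      ext1
      change ((yon S).map k₀ ≫ e) ≫ wW.hom = (yon S).map gt
      rw [Category.assoc, hej, ← Functor.map_comp, hk₀]
  rw [← hfact, H TS gS]
  -- from squares of schemes to squares of sheaves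
  have key : ∀ (YT XT : Scheme.{u}) (gY : YT ⟶ Y) (hT : YT ⟶ T) (gX : XT ⟶ X) (fT : XT ⟶ YT)
      (sqY : IsPullback gY hT h t) (sqX : IsPullback gX fT f gY),
      ∃ (YTO XTO : Over S) (gYO : YTO ⟶ YO) (hTO : YTO ⟶ TO) (gXO : XTO ⟶ XO) (fTO : XTO ⟶ YTO),
        IsPullback ((yon S).map gYO) ((yon S).map hTO) ((yon S).map qO) ((yon S).map gt) ∧
        IsPullback ((yon S).map gXO) ((yon S).map fTO) ((yon S).map fO) ((yon S).map gYO) ∧
        (IsIso ((yon S).map fTO) ↔ IsIso fT) := by
    intro YT XT gY hT gX fT sqY sqX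
    have w1 : gX ≫ g = fT ≫ hT ≫ t := by
      rw [← w, ← Category.assoc, sqX.w, Category.assoc, sqY.w]
    let YTO : Over S := Over.mk (hT ≫ t)
    let XTO : Over S := Over.mk (fT ≫ hT ≫ t)
    let gYO : YTO ⟶ YO := Over.homMk gY sqY.w
    let hTO : YTO ⟶ TO := Over.homMk hT rfl
    let gXO : XTO ⟶ XO := Over.homMk gX w1
    let fTO : XTO ⟶ YTO := Over.homMk fT rfl
    refine ⟨YTO, XTO, gYO, hTO, gXO, fTO, isPullback_yon_map sqY, isPullback_yon_map sqX, ?_⟩
    constructor
    · intro hi
      have h1 : IsIso fTO := isIso_of_fully_faithful (yon S) fTO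
      exact (inferInstance : IsIso ((Over.forget S).map fTO))
    · intro hi
      have h1 : IsIso fTO := by
        have : IsIso ((Over.forget S).map fTO) := hi
        exact isIso_of_reflects_iso fTO (Over.forget S)
      infer_instance
  constructor
  · intro HH YT XT gY hT gX fT sqY sqX
    obtain ⟨YTO, XTO, gYO, hTO, gXO, fTO, s1, s2, hiff⟩ := key YT XT gY hT gX fT sqY sqX
    rw [← hiff]
    exact HH ⟨_, IsAlgSpace.yon_obj YTO⟩ (ObjectProperty.homMk ((yon S).map gYO))
      (ObjectProperty.homMk ((yon S).map hTO)) s1 ⟨_, IsAlgSpace.yon_obj XTO⟩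
      (ObjectProperty.homMk ((yon S).map gXO)) (ObjectProperty.homMk ((yon S).map fTO)) s2
  · intro HH Y' gY q' hY X' gX f' hX
    have sqY0 : IsPullback (pullback.fst h t) (pullback.snd h t) h t := IsPullback.of_hasPullback _ _
    have sqX0 : IsPullback (pullback.fst f (pullback.fst h t)) (pullback.snd f (pullback.fst h t)) f
        (pullback.fst h t) := IsPullback.of_hasPullback _ _
    obtain ⟨YTO, XTO, gYO, hTO, gXO, fTO, s1, s2, hiff⟩ := key _ _ _ _ _ _ sqY0 sqX0
    have hi : IsIso ((yon S).map fTO) := hiff.2 (HH _ _ _ _ _ _ sqY0 sqX0)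
    exact isIso_baseChange_congr s1 s2 hY hX

end Groth.Agent.Lib.Helper54.SchemeIsoLocus
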