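import Mathlib
import Groth.Agent.S0544

/-!
# Completions of local homomorphisms of Noetherian local rings

For a local homomorphism `A → B` of Noetherian local rings and a compatible ring map
`ψ : Â → B̂` of the completions: `ψ` is local, `𝔪_Â B̂ = (𝔪_A B) B̂`, the residue field extension of
`ψ` is that of `A → B`, and `B̂` is finite over `Â` as soon as `𝔪_A B = 𝔪_B` and the residue field
extension is finite.
-/

set_option autoImplicit false
set_option linter.style.haveILetI false
set_option linter.unusedSectionVars false
universe u

namespace Groth.Agent.Lib.Helper54.CplLocal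

open IsLocalRing

section Finite

/-- A Hausdorff module over a precomplete ring is finite as soon as its reduction is. -/
theorem finite_of_finite_quotient {R : Type u} [CommRing R] (I : Ideal R) [IsPrecomplete I R]
    (M : Type u) [AddCommGroup M] [Module R M] [IsHausdorff I M]
    [Module.Finite R (M ⧸ (I • ⊤ : Submodule R M))] : Module.Finite R M := by
  classical
  obtain ⟨n, g, hg⟩ := Module.Finite.exists_fin' R (M ⧸ (I • ⊤ : Submodule R M))
  obtain ⟨f, hf⟩ := Module.projective_lifting_property (I • ⊤ : Submodule R M).mkQ g
    (Submodule.mkQ_surjective _)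
  haveI : IsPrecomplete I (Fin n → R) := Groth.Agent.S0544.isPrecomplete_pi I
  have hsurj : Function.Surjective f := by
    apply surjective_of_mkQ_comp_surjective (I := I)
    rw [hf]
    exact hg
  exact Module.Finite.of_surjective f hsurj

end Finite

section Psi

variable (A B : Type u) [CommRing A] [CommRing B]
    [IsLocalRing A] [IsLocalRing B] [IsNoetherianRing A] [IsNoetherianRing B] [Algebra A B]
    [IsLocalHom (algebraMap A B)]
    (ψ : AdicCompletion (maximalIdeal A) A →+* AdicCompletion (maximalIdeal B) B)
    (hψ : ψ.comp (algebraMap A (AdicCompletion (maximalIdeal A) A)) =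
      (algebraMap B (AdicCompletion (maximalIdeal B) B)).comp (algebraMap A B))

theorem map_le_maximalIdeal :
    (maximalIdeal A).map (algebraMap A B) ≤ maximalIdeal B := by
  rw [Ideal.map_le_iff_le_comap]
  intro x hx
  rw [Ideal.mem_comap, mem_maximalIdeal, mem_nonunits_iff] at *
  exact fun h => hx (isUnit_of_map_unit (algebraMap A B) x h)

include hψ in
theorem map_maximalIdeal_psi :
    (maximalIdeal (AdicCompletion (maximalIdeal A) A)).map ψ =
      ((maximalIdeal A).map (algebraMap A B)).map
        (algebraMap B (AdicCompletion (maximalIdeal B) B)) := by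
  rw [AdicCompletion.maximalIdeal_eq_map, Ideal.map_map, hψ, ← Ideal.map_map]

include hψ in
theorem map_maximalIdeal_psi_le :
    (maximalIdeal (AdicCompletion (maximalIdeal A) A)).map ψ ≤
      maximalIdeal (AdicCompletion (maximalIdeal B) B) := by
  rw [map_maximalIdeal_psi A B ψ hψ, AdicCompletion.maximalIdeal_eq_map (R := B)]
  exact Ideal.map_mono (map_le_maximalIdeal A B)

include hψ in
theorem isLocalHom_psi : IsLocalHom ψ :=
  ((local_hom_TFAE ψ).out 0 2 rfl rfl).mpr (map_maximalIdeal_psi_le A B ψ hψ)

/-- `κ(A) ≃ κ(Â)`. -/
noncomputable def resEquiv :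
    ResidueField A ≃+* ResidueField (AdicCompletion (maximalIdeal A) A) :=
  RingEquiv.ofBijective
    (ResidueField.map (algebraMap A (AdicCompletion (maximalIdeal A) A)))
    (AdicCompletion.residueField_map_bijective A)

theorem resEquiv_apply (x : ResidueField A) :
    resEquiv A x = ResidueField.map (algebraMap A (AdicCompletion (maximalIdeal A) A)) x := rfl

include hψ in
/-- the residue field extension of `ψ` is that of `A → B`. -/
theorem res_comm :
    letI := ψ.toAlgebra
    haveI : IsLocalHom (algebraMap (AdicCompletion (maximalIdeal A) A)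
      (AdicCompletion (maximalIdeal B) B)) := isLocalHom_psi A B ψ hψ
    (algebraMap (ResidueField (AdicCompletion (maximalIdeal A) A))
        (ResidueField (AdicCompletion (maximalIdeal B) B))).comp (resEquiv A : _ →+* _) =
      ((resEquiv B : _ →+* _)).comp (algebraMap (ResidueField A) (ResidueField B)) := by
  letI := ψ.toAlgebra
  haveI : IsLocalHom (algebraMap (AdicCompletion (maximalIdeal A) A)
    (AdicCompletion (maximalIdeal B) B)) := isLocalHom_psi A B ψ hψ
  haveI : IsLocalHom ψ := isLocalHom_psi A B ψ hψ
  ext x
  obtain ⟨a, rfl⟩ := IsLocalRing.residue_surjective x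
  simp only [RingHom.comp_apply, RingEquiv.coe_toRingHom, resEquiv_apply,
    ResidueField.map_residue]
  have := DFunLike.congr_fun hψ a
  simp only [RingHom.comp_apply] at this
  exact congrArg _ this

include hψ in
/-- the "unramified" conditions for `A → B` and for `ψ` agree. -/
theorem unram_iff :
    letI := ψ.toAlgebra
    haveI : IsLocalHom (algebraMap (AdicCompletion (maximalIdeal A) A)
      (AdicCompletion (maximalIdeal B) B)) := isLocalHom_psi A B ψ hψ
    ((maximalIdeal A).map (algebraMap A B) = maximalIdeal B ∧
        Module.Finite (ResidueField A) (ResidueField B) ∧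
        Algebra.IsSeparable (ResidueField A) (ResidueField B)) ↔
    ((maximalIdeal (AdicCompletion (maximalIdeal A) A)).map
          (algebraMap (AdicCompletion (maximalIdeal A) A) (AdicCompletion (maximalIdeal B) B)) =
        maximalIdeal (AdicCompletion (maximalIdeal B) B) ∧
      Module.Finite (ResidueField (AdicCompletion (maximalIdeal A) A))
        (ResidueField (AdicCompletion (maximalIdeal B) B)) ∧
      Algebra.IsSeparable (ResidueField (AdicCompletion (maximalIdeal A) A))
        (ResidueField (AdicCompletion (maximalIdeal B) B))) := by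
  letI := ψ.toAlgebra
  haveI : IsLocalHom (algebraMap (AdicCompletion (maximalIdeal A) A)
    (AdicCompletion (maximalIdeal B) B)) := isLocalHom_psi A B ψ hψ
  have hc := res_comm A B ψ hψ
  have hc' : (algebraMap (ResidueField A) (ResidueField B)).comp
      ((resEquiv A).symm : _ →+* _) = ((resEquiv B).symm : _ →+* _).comp
        (algebraMap (ResidueField (AdicCompletion (maximalIdeal A) A))
          (ResidueField (AdicCompletion (maximalIdeal B) B))) := by
    ext x
    obtain ⟨y, rfl⟩ := (resEquiv A).surjective x
    have := DFunLike.congr_fun hc y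
    simp only [RingHom.comp_apply, RingEquiv.coe_toRingHom] at this ⊢
    rw [RingEquiv.symm_apply_apply, this, RingEquiv.symm_apply_apply]
  have hmap : (maximalIdeal (AdicCompletion (maximalIdeal A) A)).map
      (algebraMap (AdicCompletion (maximalIdeal A) A) (AdicCompletion (maximalIdeal B) B)) =
      ((maximalIdeal A).map (algebraMap A B)).map
        (algebraMap B (AdicCompletion (maximalIdeal B) B)) := map_maximalIdeal_psi A B ψ hψ
  haveI : Module.FaithfullyFlat B (AdicCompletion (maximalIdeal B) B) :=
    Module.FaithfullyFlat.of_flat_of_isLocalHom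
  constructor
  · rintro ⟨h1, h2, h3⟩
    refine ⟨?_, Module.Finite.of_equiv_equiv (resEquiv A) (resEquiv B) hc,
      Algebra.IsSeparable.of_equiv_equiv (resEquiv A) (resEquiv B) hc⟩
    rw [hmap, h1, AdicCompletion.maximalIdeal_eq_map (R := B)]
  · rintro ⟨h1, h2, h3⟩
    refine ⟨?_, Module.Finite.of_equiv_equiv (resEquiv A).symm (resEquiv B).symm hc',
      Algebra.IsSeparable.of_equiv_equiv (resEquiv A).symm (resEquiv B).symm hc'⟩
    rw [hmap, AdicCompletion.maximalIdeal_eq_map (R := B)] at h1
    have := congrArg (Ideal.comap (algebraMap B (AdicCompletion (maximalIdeal B) B))) h1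
    rwa [Ideal.comap_map_eq_self_of_faithfullyFlat, Ideal.comap_map_eq_self_of_faithfullyFlat]
      at this

include hψ in
/-- `B̂` is finite over `Â` when `𝔪_Â B̂ = 𝔪_B̂` and the residue field extension is finite. -/
theorem finite_of_map_eq
    (h : letI := ψ.toAlgebra
      (maximalIdeal (AdicCompletion (maximalIdeal A) A)).map
          (algebraMap (AdicCompletion (maximalIdeal A) A) (AdicCompletion (maximalIdeal B) B)) =
        maximalIdeal (AdicCompletion (maximalIdeal B) B))
    (hfin : letI := ψ.toAlgebra
      haveI : IsLocalHom (algebraMap (AdicCompletion (maximalIdeal A) A)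
        (AdicCompletion (maximalIdeal B) B)) := isLocalHom_psi A B ψ hψ
      Module.Finite (ResidueField (AdicCompletion (maximalIdeal A) A))
        (ResidueField (AdicCompletion (maximalIdeal B) B))) :
    letI := ψ.toAlgebra
    Module.Finite (AdicCompletion (maximalIdeal A) A) (AdicCompletion (maximalIdeal B) B) := by
  letI := ψ.toAlgebra
  haveI : IsLocalHom (algebraMap (AdicCompletion (maximalIdeal A) A)
    (AdicCompletion (maximalIdeal B) B)) := isLocalHom_psi A B ψ hψ
  haveI := hfin
  haveI hH : IsHausdorff (maximalIdeal (AdicCompletion (maximalIdeal A) A))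
      (AdicCompletion (maximalIdeal B) B) := by
    rw [← IsHausdorff.map_algebraMap_iff (S := AdicCompletion (maximalIdeal B) B), h]
    infer_instance
  haveI : Module.Finite (AdicCompletion (maximalIdeal A) A)
      (ResidueField (AdicCompletion (maximalIdeal B) B)) :=
    Module.Finite.trans (ResidueField (AdicCompletion (maximalIdeal A) A)) _
  haveI : Module.Finite (AdicCompletion (maximalIdeal A) A)
      ((AdicCompletion (maximalIdeal B) B) ⧸
        (maximalIdeal (AdicCompletion (maximalIdeal A) A) •
          (⊤ : Submodule (AdicCompletion (maximalIdeal A) A)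
            (AdicCompletion (maximalIdeal B) B)))) := by
    have e1 : (maximalIdeal (AdicCompletion (maximalIdeal A) A) •
          (⊤ : Submodule (AdicCompletion (maximalIdeal A) A)
            (AdicCompletion (maximalIdeal B) B))) =
        (maximalIdeal (AdicCompletion (maximalIdeal B) B)).restrictScalars
          (AdicCompletion (maximalIdeal A) A) := by
      rw [Ideal.smul_top_eq_map, h]
    let e : ((AdicCompletion (maximalIdeal B) B) ⧸
        (maximalIdeal (AdicCompletion (maximalIdeal A) A) •
          (⊤ : Submodule (AdicCompletion (maximalIdeal A) A)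
            (AdicCompletion (maximalIdeal B) B)))) ≃ₗ[AdicCompletion (maximalIdeal A) A]
        ResidueField (AdicCompletion (maximalIdeal B) B) :=
      (Submodule.quotEquivOfEq _ _ e1).trans
        (Submodule.Quotient.restrictScalarsEquiv (AdicCompletion (maximalIdeal A) A)
          (maximalIdeal (AdicCompletion (maximalIdeal B) B)))
    exact Module.Finite.equiv e.symm
  exact finite_of_finite_quotient (maximalIdeal (AdicCompletion (maximalIdeal A) A)) _

end Psi

end Groth.Agent.Lib.Helper54.CplLocal
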