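import Groth.Agent.Lib.Helper54.FSchNoeth

/-! helper54: levels of an adic formal system with Noetherian level 0 and finite-type first ideal are locally Noetherian. -/
set_option autoImplicit false
universe u
open AlgebraicGeometry CategoryTheory CategoryTheory.Limits
open Groth.Agent.Lib.Helper54.FSchSpf

namespace Groth.Agent.Lib.Helper54.FSchSpf

/-- nilpotent Nakayama for ideals -/
theorem le_of_le_sup_mul_of_pow_eq_bot {A : Type*} [CommRing A] (𝔞 G : Ideal A)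
    (h : 𝔞 ≤ G ⊔ 𝔞 * 𝔞) (N : ℕ) (hN : 𝔞 ^ N = ⊥) : 𝔞 ≤ G := by
  have key : ∀ k : ℕ, 𝔞 ≤ G ⊔ 𝔞 ^ (k + 1) := by
    intro k
    induction k with
    | zero => rw [zero_add, pow_one]; exact le_sup_right
    | succ k ih =>
      calc 𝔞 ≤ G ⊔ 𝔞 * 𝔞 := h
        _ ≤ G ⊔ 𝔞 * (G ⊔ 𝔞 ^ (k + 1)) := sup_le_sup_left (Ideal.mul_mono_right ih) _
        _ = G ⊔ (𝔞 * G ⊔ 𝔞 * 𝔞 ^ (k + 1)) := by rw [Ideal.mul_sup]
        _ ≤ G ⊔ 𝔞 ^ (k + 1 + 1) := by
          refine sup_le le_sup_left (sup_le (le_sup_of_le_left Ideal.mul_le_right) ?_)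
          rw [← pow_succ']
          exact le_sup_right
  have h1 := key N
  rw [pow_succ, hN, Ideal.bot_mul, sup_bot_eq] at h1
  exact h1

theorem fg_comap_of_ker_eq_pow {A' A : Type*} [CommRing A'] [CommRing A] (ρ : A' →+* A)
    (hρ : Function.Surjective ρ) (𝔞 : Ideal A) (h𝔞 : 𝔞.FG) (n : ℕ) (hn : 1 ≤ n)
    (hker : RingHom.ker ρ = (𝔞.comap ρ) ^ (n + 1)) (N : ℕ) (hN : (𝔞.comap ρ) ^ N = ⊥) :
    (𝔞.comap ρ).FG := by
  classical
  obtain ⟨s, hs⟩ := h𝔞
  let σ : A → A' := Function.surjInv hρ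
  have hσ : ∀ x, ρ (σ x) = x := Function.surjInv_eq hρ
  let G : Ideal A' := Ideal.span ((s.image σ : Finset A') : Set A')
  have hGmap : G.map ρ = 𝔞 := by
    rw [Ideal.map_span, Finset.coe_image, Set.image_image]
    simp only [hσ, Set.image_id']
    exact hs
  have hGle : G ≤ 𝔞.comap ρ := by
    rw [Ideal.span_le]
    intro y hy
    rw [Finset.coe_image] at hy
    obtain ⟨x, hx, rfl⟩ := hy
    show ρ (σ x) ∈ 𝔞
    rw [hσ, ← hs]
    exact Ideal.subset_span hx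
  have hle : 𝔞.comap ρ ≤ G ⊔ RingHom.ker ρ := by
    intro y hy
    have hy' : ρ y ∈ G.map ρ := by rw [hGmap]; exact hy
    obtain ⟨g, hg, hgy⟩ := (Ideal.mem_map_iff_of_surjective ρ hρ).mp hy'
    have : y = g + (y - g) := by ring
    rw [this]
    refine Ideal.add_mem _ (Ideal.mem_sup_left hg) (Ideal.mem_sup_right ?_)
    rw [RingHom.mem_ker, map_sub, hgy, sub_self]
  have hle2 : 𝔞.comap ρ ≤ G ⊔ (𝔞.comap ρ) * (𝔞.comap ρ) := by
    refine hle.trans (sup_le_sup_left ?_ _)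
    rw [hker, ← pow_two]
    exact Ideal.pow_le_pow_right (by omega)
  have hfinal := le_of_le_sup_mul_of_pow_eq_bot _ G hle2 N hN
  have : 𝔞.comap ρ = G := le_antisymm hfinal hGle
  rw [this]
  exact ⟨s.image σ, rfl⟩

theorem ker_comp_ideal {P Q R : Scheme.{u}} (a : P ⟶ Q) (b : Q ⟶ R) [IsClosedImmersion a]
    [IsClosedImmersion b] (V : R.affineOpens) :
    (a ≫ b).ker.ideal V =
      (a.ker.ideal ⟨b ⁻¹ᵁ V.1, V.2.preimage b⟩).comap (b.app V.1).hom := by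
  ext x
  rw [Scheme.Hom.ker_apply, Scheme.Hom.ker_apply, Ideal.mem_comap, RingHom.mem_ker, RingHom.mem_ker]
  have : ((a ≫ b).app V.1).hom x = (a.app (b ⁻¹ᵁ V.1)).hom ((b.app V.1).hom x) := rfl
  rw [this]
  exact Iff.rfl

section Thick

variable (𝔛 : FSch.Sys.{u}) (hF : 𝔛.IsFormal) (hA : 𝔛.IsAdic)

include hF hA in
theorem fg_ker_toX (hft : FSch.IdealFT (𝔛.ι 0).ker) :
    ∀ (n : ℕ) (V : (𝔛.X n).affineOpens), ((𝔛.toX n).ker.ideal V).FG := by
  intro n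
  induction n with
  | zero =>
    intro V
    have h0 : (𝔛.toX 0).ker = ⊥ := Scheme.Hom.ker_eq_bot_of_isIso (𝟙 (𝔛.X 0))
    rw [h0]
    exact Submodule.fg_bot
  | succ n ih =>
    intro V'
    rcases Nat.eq_zero_or_pos n with hn | hn
    · subst hn
      have h1 : 𝔛.toX (0 + 1) = 𝔛.ι 0 := Category.id_comp _
      rw [h1]
      exact hft V'
    · have i1 : IsClosedImmersion (𝔛.ι n) := (hF n).1
      have i2 : IsClosedImmersion (𝔛.toX n) := isClosedImmersion_toX hF n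
      have hc : (𝔛.toX (n + 1)).ker.ideal V' =
          ((𝔛.toX n).ker.ideal ⟨(𝔛.ι n) ⁻¹ᵁ V'.1, V'.2.preimage (𝔛.ι n)⟩).comap
            ((𝔛.ι n).app V'.1).hom := ker_comp_ideal (𝔛.toX n) (𝔛.ι n) V'
      rw [hc]
      refine fg_comap_of_ker_eq_pow _ ((𝔛.ι n).app_surjective V'.1 V'.2) _ (ih _) n hn ?_
        (n + 1 + 1) ?_
      · rw [← hc, ← Scheme.Hom.ker_apply, hA n]
        rfl
      · rw [← hc]
        have := congrArg (fun K : (𝔛.X (n + 1)).IdealSheafData => K.ideal V')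
          (ker_toX_pow_eq_bot hF hA (n + 1))
        simpa using this

include hF hA in
theorem isLocallyNoetherian_of_idealFT [IsLocallyNoetherian (𝔛.X 0)]
    (hft : FSch.IdealFT (𝔛.ι 0).ker) (n : ℕ) : IsLocallyNoetherian (𝔛.X n) := by
  have i2 : IsClosedImmersion (𝔛.toX n) := isClosedImmersion_toX hF n
  exact isLocallyNoetherian_of_thickening (𝔛.toX n) (n + 1) (ker_toX_pow_eq_bot hF hA n)
    (fun V : (𝔛.X n).affineOpens => V) (iSup_affineOpens_eq_top _) (fg_ker_toX 𝔛 hF hA hft n)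

end Thick

end Groth.Agent.Lib.Helper54.FSchSpf
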