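import Mathlib
import Groth.Agent.Lib.Helper54.FSchThick
import Groth.Agent.Lib.Helper61.CompleteLE
import Groth.Agent.S3856

/-! helper54: the inverse limit of an adic system of rings (EGA 0_I 7.2.7). -/

set_option autoImplicit false
universe u

namespace Groth.Agent.Lib.Helper54.AdicLimit

open Groth.Agent.Lib.Helper54.FSchSpf (le_of_le_sup_mul_of_pow_eq_bot)

/-- In a surjective inverse system of types, every element of level `n` extends to a compatible
family. -/
theorem exists_compatible : ∀ (n : ℕ) (A : ℕ → Type u) (ρ : ∀ n, A (n + 1) → A n)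
    (_ : ∀ n, Function.Surjective (ρ n)) (t : A n),
    ∃ x : ∀ m, A m, (∀ m, ρ m (x (m + 1)) = x m) ∧ x n = t := by
  intro n
  induction n with
  | zero =>
    intro A ρ hρ t
    refine ⟨fun m => Nat.rec (motive := A) t (fun m xm => Function.surjInv (hρ m) xm) m, ?_, rfl⟩
    intro m
    exact Function.surjInv_eq (hρ m) _
  | succ n ih =>
    intro A ρ hρ t
    obtain ⟨x', hx', hx't⟩ := ih (fun m => A (m + 1)) (fun m => ρ (m + 1)) (fun m => hρ (m + 1)) t
    refine ⟨fun m => match m with | 0 => ρ 0 (x' 0) | m + 1 => x' m, ?_, hx't⟩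
    intro m
    cases m with
    | zero => rfl
    | succ m => exact hx' m

variable {A : ℕ → Type u} [∀ n, CommRing (A n)] (ρ : ∀ n, A (n + 1) →+* A n)

/-- composite to level 0 -/
noncomputable def toZero : ∀ n, A n →+* A 0
  | 0 => RingHom.id _
  | n + 1 => (toZero n).comp (ρ n)

/-- `K n = ker (A n → A 0)` -/
noncomputable def K (n : ℕ) : Ideal (A n) := RingHom.ker (toZero ρ n)

/-- the inverse limit as a subring of the product -/
def limSubring : Subring (∀ n, A n) where
  carrier := {x | ∀ n, ρ n (x (n + 1)) = x n}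
  mul_mem' := by
    intro a b ha hb n
    simp only [Pi.mul_apply, map_mul, ha n, hb n]
  one_mem' := by
    intro n
    simp only [Pi.one_apply, map_one]
  add_mem' := by
    intro a b ha hb n
    simp only [Pi.add_apply, map_add, ha n, hb n]
  zero_mem' := by
    intro n
    simp only [Pi.zero_apply, map_zero]
  neg_mem' := by
    intro a ha n
    simp only [Pi.neg_apply, map_neg, ha n]

/-- the inverse limit ring -/
abbrev Lim : Type u := ↥(limSubring ρ)

/-- projection to level `n` -/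
def proj (n : ℕ) : Lim ρ →+* A n := (Pi.evalRingHom A n).comp (limSubring ρ).subtype

theorem proj_apply (n : ℕ) (x : Lim ρ) : proj ρ n x = x.1 n := rfl

theorem ρ_proj (n : ℕ) (x : Lim ρ) : ρ n (proj ρ (n + 1) x) = proj ρ n x := x.2 n

theorem ρ_comp_proj (n : ℕ) : (ρ n).comp (proj ρ (n + 1)) = proj ρ n :=
  RingHom.ext (ρ_proj ρ n)

theorem toZero_proj (n : ℕ) (x : Lim ρ) : toZero ρ n (proj ρ n x) = proj ρ 0 x := by
  induction n with
  | zero => rfl
  | succ n ih =>
    show toZero ρ n (ρ n (proj ρ (n + 1) x)) = proj ρ 0 x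
    rw [ρ_proj, ih]

theorem ext_proj {x y : Lim ρ} (h : ∀ n, proj ρ n x = proj ρ n y) : x = y :=
  Subtype.ext (funext h)

theorem K_zero : K ρ 0 = ⊥ := by
  rw [K, RingHom.ker_eq_bot_iff_eq_zero]
  intro x hx
  exact hx

theorem K_succ (n : ℕ) : K ρ (n + 1) = (K ρ n).comap (ρ n) := by
  rw [K, K, RingHom.comap_ker]
  rfl

theorem K_one : K ρ 1 = RingHom.ker (ρ 0) := by
  rw [K_succ, K_zero, ← RingHom.ker_eq_comap_bot]

theorem ker_proj_succ_le (n : ℕ) : RingHom.ker (proj ρ (n + 1)) ≤ RingHom.ker (proj ρ n) := by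
  intro x hx
  rw [RingHom.mem_ker] at hx ⊢
  rw [← ρ_proj, hx, map_zero]

theorem ker_proj_mono {m j : ℕ} (h : m ≤ j) : RingHom.ker (proj ρ j) ≤ RingHom.ker (proj ρ m) := by
  induction j, h using Nat.le_induction with
  | base => exact le_rfl
  | succ j _ ih => exact (ker_proj_succ_le ρ j).trans ih

theorem comap_proj_K (n : ℕ) : (K ρ n).comap (proj ρ n) = RingHom.ker (proj ρ 0) := by
  ext x
  rw [Ideal.mem_comap, K, RingHom.mem_ker, RingHom.mem_ker, toZero_proj]

section Surj

variable (hρ : ∀ n, Function.Surjective (ρ n))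
include hρ

theorem proj_surjective (n : ℕ) : Function.Surjective (proj ρ n) := by
  intro t
  obtain ⟨x, hx, hxt⟩ := exists_compatible n A (fun n => ρ n) hρ t
  exact ⟨⟨x, hx⟩, hxt⟩

theorem map_K_succ (n : ℕ) : (K ρ (n + 1)).map (ρ n) = K ρ n := by
  rw [K_succ, Ideal.map_comap_of_surjective _ (hρ n)]

theorem map_proj_J (n : ℕ) : (RingHom.ker (proj ρ 0)).map (proj ρ n) = K ρ n := by
  rw [← comap_proj_K ρ n, Ideal.map_comap_of_surjective _ (proj_surjective ρ hρ n)]

variable (hadic : ∀ n, RingHom.ker (ρ n) = K ρ (n + 1) ^ (n + 1))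
include hadic

theorem K_pow_eq_bot (n : ℕ) : K ρ n ^ (n + 1) = ⊥ := by
  rw [← map_K_succ ρ hρ n, ← Ideal.map_pow, ← hadic n, Ideal.map_eq_bot_iff_le_ker]

section Gen

variable (J' : Ideal (Lim ρ)) (hJ'le : J' ≤ RingHom.ker (proj ρ 0))
  (hJ'1 : J'.map (proj ρ 1) = K ρ 1)
include hJ'le hJ'1

theorem map_proj_eq (n : ℕ) : J'.map (proj ρ n) = K ρ n := by
  induction n with
  | zero =>
    rw [K_zero, Ideal.map_eq_bot_iff_le_ker]
    exact hJ'le
  | succ n ih =>
    rcases Nat.eq_zero_or_pos n with hn | hn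
    · subst hn
      exact hJ'1
    · apply le_antisymm
      · rw [← map_proj_J ρ hρ (n + 1)]
        exact Ideal.map_mono hJ'le
      · refine le_of_le_sup_mul_of_pow_eq_bot _ _ ?_ (n + 1 + 1) (K_pow_eq_bot ρ hρ hadic (n + 1))
        have h1 : (J'.map (proj ρ (n + 1))).map (ρ n) = K ρ n := by
          rw [Ideal.map_map, ρ_comp_proj, ih]
        calc K ρ (n + 1) = (K ρ n).comap (ρ n) := K_succ ρ n
          _ = ((J'.map (proj ρ (n + 1))).map (ρ n)).comap (ρ n) := by rw [h1]
          _ = J'.map (proj ρ (n + 1)) ⊔ (⊥ : Ideal (A n)).comap (ρ n) :=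
            Ideal.comap_map_of_surjective _ (hρ n) _
          _ = J'.map (proj ρ (n + 1)) ⊔ K ρ (n + 1) ^ (n + 1) := by
            rw [← RingHom.ker_eq_comap_bot, hadic n]
          _ ≤ J'.map (proj ρ (n + 1)) ⊔ K ρ (n + 1) * K ρ (n + 1) := by
            refine sup_le_sup_left ?_ _
            rw [← pow_two]
            exact Ideal.pow_le_pow_right (by omega)

theorem map_proj_pow (n k : ℕ) : (J' ^ k).map (proj ρ n) = K ρ n ^ k := by
  rw [Ideal.map_pow, map_proj_eq ρ hρ hadic J' hJ'le hJ'1 n]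

theorem pow_succ_le_ker (n : ℕ) : J' ^ (n + 1) ≤ RingHom.ker (proj ρ n) := by
  rw [← Ideal.map_eq_bot_iff_le_ker, map_proj_pow ρ hρ hadic J' hJ'le hJ'1,
    K_pow_eq_bot ρ hρ hadic n]

theorem pow_le_ker {n k : ℕ} (h : n < k) : J' ^ k ≤ RingHom.ker (proj ρ n) :=
  (Ideal.pow_le_pow_right (by omega)).trans (pow_succ_le_ker ρ hρ hadic J' hJ'le hJ'1 n)

theorem step (n : ℕ) (r : Lim ρ) (hr : proj ρ n r = 0) :
    ∃ y ∈ J' ^ (n + 1), proj ρ (n + 1) (r - y) = 0 := by
  have h1 : proj ρ (n + 1) r ∈ (J' ^ (n + 1)).map (proj ρ (n + 1)) := by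
    rw [map_proj_pow ρ hρ hadic J' hJ'le hJ'1, ← hadic n, RingHom.mem_ker, ρ_proj, hr]
  obtain ⟨y, hy, hyr⟩ :=
    (Ideal.mem_map_iff_of_surjective _ (proj_surjective ρ hρ (n + 1))).mp h1
  exact ⟨y, hy, by rw [map_sub, hyr, sub_self]⟩

end Gen

end Surj

/-- sums of series whose `k`-th term dies at all levels `< k` -/
theorem series (z : ℕ → Lim ρ) (hz : ∀ k m, m < k → proj ρ m (z k) = 0) :
    ∃ s : Lim ρ, ∀ m, proj ρ m s = ∑ k ∈ Finset.range (m + 1), proj ρ m (z k) := by
  refine ⟨⟨fun m => ∑ k ∈ Finset.range (m + 1), proj ρ m (z k), ?_⟩, fun m => rfl⟩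
  intro m
  show ρ m (∑ k ∈ Finset.range (m + 1 + 1), proj ρ (m + 1) (z k)) =
    ∑ k ∈ Finset.range (m + 1), proj ρ m (z k)
  rw [map_sum, Finset.sum_range_succ]
  simp only [ρ_proj]
  rw [hz (m + 1) m (Nat.lt_succ_self m), add_zero]

section Main

variable (hρ : ∀ n, Function.Surjective (ρ n))
  (hadic : ∀ n, RingHom.ker (ρ n) = K ρ (n + 1) ^ (n + 1))
  {r : ℕ} (a : Fin r → Lim ρ) (hale : ∀ i, a i ∈ RingHom.ker (proj ρ 0))
  (ha1 : (Ideal.span (Set.range a)).map (proj ρ 1) = K ρ 1)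
include hρ hadic hale ha1

omit hρ hadic ha1 in
theorem span_le_ker : Ideal.span (Set.range a) ≤ RingHom.ker (proj ρ 0) := by
  rw [Ideal.span_le]
  rintro _ ⟨i, rfl⟩
  exact hale i

theorem mem_pow_of_proj_eq_zero (n : ℕ) :
    ∀ x : Lim ρ, (∀ m, m < n → proj ρ m x = 0) → x ∈ Ideal.span (Set.range a) ^ n := by
  classical
  have hJ'le := span_le_ker ρ a hale
  induction n with
  | zero =>
    intro x _
    rw [pow_zero, Ideal.one_eq_top]
    exact Submodule.mem_top
  | succ n ih =>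
    intro x hx
    set J' := Ideal.span (Set.range a) with hJ'
    -- the step function
    have hstep : ∀ (m : ℕ) (t : Lim ρ), ∃ y : Lim ρ,
        proj ρ m t = 0 → (y ∈ J' ^ (m + 1) ∧ proj ρ (m + 1) (t - y) = 0) := by
      intro m t
      by_cases ht : proj ρ m t = 0
      · obtain ⟨y, hy1, hy2⟩ := step ρ hρ hadic J' hJ'le ha1 m t ht
        exact ⟨y, fun _ => ⟨hy1, hy2⟩⟩
      · exact ⟨0, fun h => absurd h ht⟩
    choose f hf using hstep
    -- remainders
    let rem : ℕ → Lim ρ := fun j => Nat.rec x (fun j rj => rj - f (n + j) rj) j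
    have rem_zero : rem 0 = x := rfl
    have rem_succ : ∀ j, rem (j + 1) = rem j - f (n + j) (rem j) := fun j => rfl
    have hrem : ∀ j, proj ρ (n + j) (rem j) = 0 := by
      intro j
      induction j with
      | zero => exact hx n (Nat.lt_succ_self n)
      | succ j ihj =>
        rw [rem_succ]
        exact (hf (n + j) (rem j) ihj).2
    let y : ℕ → Lim ρ := fun j => f (n + j) (rem j)
    have hy : ∀ j, y j ∈ J' ^ (n + j + 1) := fun j => (hf (n + j) (rem j) (hrem j)).1
    have hxsum : ∀ j, x = rem j + ∑ k ∈ Finset.range j, y k := by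
      intro j
      induction j with
      | zero =>
        rw [Finset.sum_range_zero, add_zero]
        exact rem_zero.symm
      | succ j ihj =>
        rw [Finset.sum_range_succ, rem_succ]
        calc x = rem j + ∑ k ∈ Finset.range j, y k := ihj
          _ = rem j - f (n + j) (rem j) + (∑ k ∈ Finset.range j, y k + y j) := by
            show _ = rem j - y j + _
            ring
    -- decompose the y j
    have hdec : ∀ j, ∃ c : Fin r → Lim ρ, (∀ i, c i ∈ J' ^ (n + j)) ∧ y j = ∑ i, a i • c i := by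
      intro j
      apply Groth.Agent.Lib.Helper61.CompleteLE.exists_sum_of_mem_smul
      have := hy j
      rw [pow_succ'] at this
      exact this
    choose c hc hyc using hdec
    -- sum the coefficient series
    have hcz : ∀ i k m, m < k → proj ρ m (c k i) = 0 := by
      intro i k m hmk
      have := pow_le_ker ρ hρ hadic J' hJ'le ha1 (n := m) (k := n + k) (by omega) (hc k i)
      exact this
    have hser : ∀ i, ∃ s : Lim ρ, ∀ m, proj ρ m s = ∑ k ∈ Finset.range (m + 1), proj ρ m (c k i) :=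
      fun i => series ρ (fun k => c k i) (hcz i)
    choose s hs using hser
    have hsmem : ∀ i, s i ∈ J' ^ n := by
      intro i
      apply ih
      intro m hm
      rw [hs]
      apply Finset.sum_eq_zero
      intro k _
      exact pow_le_ker ρ hρ hadic J' hJ'le ha1 (n := m) (k := n + k) (by omega) (hc k i)
    have hxeq : x = ∑ i, a i * s i := by
      apply ext_proj
      intro m
      have h1 : proj ρ m (rem (m + 1)) = 0 :=
        ker_proj_mono ρ (show m ≤ n + (m + 1) by omega) (hrem (m + 1))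
      rw [hxsum (m + 1), map_add, h1, zero_add, map_sum, map_sum]
      simp only [map_mul, hs, Finset.mul_sum]
      rw [Finset.sum_comm]
      refine Finset.sum_congr rfl fun k _ => ?_
      rw [hyc k, map_sum]
      simp only [smul_eq_mul, map_mul]
    rw [hxeq, pow_succ']
    refine Ideal.sum_mem _ fun i _ => Ideal.mul_mem_mul ?_ (hsmem i)
    exact Ideal.subset_span ⟨i, rfl⟩

theorem ker_proj_eq_span_pow (n : ℕ) :
    RingHom.ker (proj ρ n) = Ideal.span (Set.range a) ^ (n + 1) := by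
  apply le_antisymm
  · intro x hx
    apply mem_pow_of_proj_eq_zero ρ hρ hadic a hale ha1 (n + 1) x
    intro m hm
    exact ker_proj_mono ρ (show m ≤ n by omega) hx
  · exact pow_succ_le_ker ρ hρ hadic _ (span_le_ker ρ a hale) ha1 n

theorem ker_proj_zero_eq_span : RingHom.ker (proj ρ 0) = Ideal.span (Set.range a) := by
  rw [ker_proj_eq_span_pow ρ hρ hadic a hale ha1 0, zero_add, pow_one]

end Main

section Final

variable (hρ : ∀ n, Function.Surjective (ρ n))
  (hadic : ∀ n, RingHom.ker (ρ n) = K ρ (n + 1) ^ (n + 1))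
  (hfg : (RingHom.ker (ρ 0)).FG)
include hρ hadic hfg

omit hadic in
theorem exists_gens : ∃ (r : ℕ) (a : Fin r → Lim ρ), (∀ i, a i ∈ RingHom.ker (proj ρ 0)) ∧
    (Ideal.span (Set.range a)).map (proj ρ 1) = K ρ 1 := by
  obtain ⟨r, g, hg⟩ := Submodule.fg_iff_exists_fin_generating_family.mp hfg
  have hsurj := proj_surjective ρ hρ 1
  refine ⟨r, fun i => Function.surjInv hsurj (g i), ?_, ?_⟩
  · intro i
    rw [RingHom.mem_ker, ← ρ_proj, Function.surjInv_eq hsurj, ← RingHom.mem_ker, ← hg]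
    exact Submodule.subset_span ⟨i, rfl⟩
  · rw [Ideal.map_span, K_one, ← hg]
    congr 1
    ext t
    simp only [Set.mem_image, Set.mem_range, exists_exists_eq_and, Function.surjInv_eq hsurj]

/-- the kernel of the projection to level `n` is the `(n+1)`-st power of the kernel of the
projection to level `0`. -/
theorem ker_proj_eq_pow (n : ℕ) :
    RingHom.ker (proj ρ n) = RingHom.ker (proj ρ 0) ^ (n + 1) := by
  obtain ⟨r, a, hale, ha1⟩ := exists_gens ρ hρ hfg
  rw [ker_proj_zero_eq_span ρ hρ hadic a hale ha1, ker_proj_eq_span_pow ρ hρ hadic a hale ha1]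

theorem fg_ker_proj_zero : (RingHom.ker (proj ρ 0)).FG := by
  obtain ⟨r, a, hale, ha1⟩ := exists_gens ρ hρ hfg
  rw [ker_proj_zero_eq_span ρ hρ hadic a hale ha1]
  exact Submodule.fg_span (Set.finite_range a)

theorem mem_pow_iff (n : ℕ) (x : Lim ρ) :
    x ∈ (RingHom.ker (proj ρ 0) ^ n • ⊤ : Submodule (Lim ρ) (Lim ρ)) ↔
      ∀ m, m < n → proj ρ m x = 0 := by
  rw [smul_eq_mul, Ideal.mul_top]
  constructor
  · intro hx m hm
    have : x ∈ RingHom.ker (proj ρ 0) ^ (m + 1) := Ideal.pow_le_pow_right (by omega) hx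
    rw [← ker_proj_eq_pow ρ hρ hadic hfg m] at this
    exact this
  · intro hx
    rcases n with _ | n
    · rw [pow_zero, Ideal.one_eq_top]
      exact Submodule.mem_top
    · rw [← ker_proj_eq_pow ρ hρ hadic hfg n]
      exact hx n (Nat.lt_succ_self n)

theorem isAdicComplete : IsAdicComplete (RingHom.ker (proj ρ 0)) (Lim ρ) := by
  refine { haus' := ?_, prec' := ?_ }
  · intro x hx
    apply ext_proj
    intro n
    have h1 := hx (n + 1)
    rw [SModEq.sub_mem, sub_zero, mem_pow_iff ρ hρ hadic hfg] at h1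
    rw [h1 n (Nat.lt_succ_self n), map_zero]
  · intro f hf
    have hcompat : ∀ m, ρ m (proj ρ (m + 1) (f (m + 1 + 1))) = proj ρ m (f (m + 1)) := by
      intro m
      have h1 := hf (Nat.le_succ (m + 1))
      rw [SModEq.sub_mem, mem_pow_iff ρ hρ hadic hfg] at h1
      have h2 := h1 m (Nat.lt_succ_self m)
      rw [map_sub, sub_eq_zero] at h2
      rw [ρ_proj, ← h2]
    refine ⟨⟨fun m => proj ρ m (f (m + 1)), hcompat⟩, ?_⟩
    intro n
    rw [SModEq.sub_mem, mem_pow_iff ρ hρ hadic hfg]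
    intro m hm
    have h1 := hf (show m + 1 ≤ n by omega)
    rw [SModEq.sub_mem, mem_pow_iff ρ hρ hadic hfg] at h1
    have h2 := h1 m (Nat.lt_succ_self m)
    rw [map_sub, sub_eq_zero] at h2 ⊢
    rw [← h2]
    rfl

end Final

section Quot

variable (hρ : ∀ n, Function.Surjective (ρ n))
  (hadic : ∀ n, RingHom.ker (ρ n) = K ρ (n + 1) ^ (n + 1))
  (hfg : (RingHom.ker (ρ 0)).FG)

/-- the comparison map `L/J^(n+1) → A n` -/
noncomputable def q (n : ℕ) : Lim ρ ⧸ RingHom.ker (proj ρ 0) ^ (n + 1) →+* A n :=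
  Ideal.Quotient.lift _ (proj ρ n) (fun a ha => by
    rw [← RingHom.mem_ker, ker_proj_eq_pow ρ hρ hadic hfg n]
    exact ha)

theorem q_mk (n : ℕ) (x : Lim ρ) :
    q ρ hρ hadic hfg n (Ideal.Quotient.mk _ x) = proj ρ n x := by
  rw [q, Ideal.Quotient.lift_mk]

theorem q_bijective (n : ℕ) : Function.Bijective (q ρ hρ hadic hfg n) := by
  constructor
  · rw [injective_iff_map_eq_zero]
    intro x hx
    obtain ⟨x, rfl⟩ := Ideal.Quotient.mk_surjective x
    rw [q_mk] at hx
    rw [Ideal.Quotient.eq_zero_iff_mem, ← ker_proj_eq_pow ρ hρ hadic hfg n]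
    exact hx
  · intro t
    obtain ⟨x, rfl⟩ := proj_surjective ρ hρ n t
    exact ⟨Ideal.Quotient.mk _ x, q_mk ρ hρ hadic hfg n x⟩

theorem q_comm (n : ℕ)
    (hle : RingHom.ker (proj ρ 0) ^ (n + 1 + 1) ≤ RingHom.ker (proj ρ 0) ^ (n + 1)) :
    (q ρ hρ hadic hfg n).comp (Ideal.Quotient.factor hle) =
      (ρ n).comp (q ρ hρ hadic hfg (n + 1)) := by
  apply Ideal.Quotient.ringHom_ext
  ext x
  simp only [RingHom.comp_apply, Ideal.Quotient.factor_mk, q_mk, ρ_proj]

include hρ hadic hfg in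
theorem isNoetherianRing_lim [IsNoetherianRing (A 1)] : IsNoetherianRing (Lim ρ) := by
  have := isAdicComplete ρ hρ hadic hfg
  let e : (Lim ρ ⧸ RingHom.ker (proj ρ 0) ^ (1 + 1)) ≃+* A 1 :=
    RingEquiv.ofBijective _ (q_bijective ρ hρ hadic hfg 1)
  have : IsNoetherianRing (Lim ρ ⧸ RingHom.ker (proj ρ 0) ^ 2) :=
    isNoetherianRing_of_ringEquiv (A 1) e.symm
  exact Groth.Agent.S3856.result (Lim ρ) (RingHom.ker (proj ρ 0))

end Quot

end Groth.Agent.Lib.Helper54.AdicLimit
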