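import Mathlib

/-!
# Closed conditions on the Grassmannian functor: the algebra (helper54)

For `N ∈ G(k, A ⊗[R] M; A)` and a family of `R`-endomorphisms `T b` of `M`, the condition
"`map φ N` is stable under all `(T b).baseChange C`" on `R`-algebra maps `φ : A → C` is cut out by an
ideal of `A`.
-/

set_option autoImplicit false
universe u v w

open TensorProduct Module

namespace Groth.Agent.Lib.Helper54.GrassClosedAlg

section Proj

variable {A : Type*} [CommRing A] {Q : Type*} [AddCommGroup Q] [Module A Q]
  {C : Type*} [CommRing C] [Algebra A C]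

/-- For a projective module `Q`, `1 ⊗ q = 0` in `C ⊗[A] Q` iff all "coordinates" of `q` die in `C`. -/
theorem one_tmul_eq_zero_iff [Module.Projective A Q] (q : Q) :
    (1 : C) ⊗ₜ[A] q = 0 ↔ ∀ l : Q →ₗ[A] A, algebraMap A C (l q) = 0 := by
  constructor
  · intro h l
    have := congrArg (fun t => TensorProduct.rid A C (l.lTensor C t)) h
    simpa [Algebra.algebraMap_eq_smul_one] using this
  · intro h
    obtain ⟨s, hs⟩ := (Module.projective_def' (R := A) (P := Q)).mp inferInstance
    have hq : q = Finsupp.linearCombination A id (s q) := by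
      have := LinearMap.congr_fun hs q
      simpa using this.symm
    rw [hq, Finsupp.linearCombination_apply, Finsupp.sum, tmul_sum]
    refine Finset.sum_eq_zero fun i _ => ?_
    have hi : algebraMap A C ((s q) i) = 0 := h ((Finsupp.lapply i).comp s)
    rw [id, tmul_smul, smul_tmul', ← Algebra.algebraMap_eq_smul_one, hi, zero_tmul]

end Proj


section Ker

open Module.Grassmannian TensorProduct.AlgebraTensorModule

variable {R : Type u} [CommRing R] {M : Type v} [AddCommGroup M] [Module R M]
  {A : Type w} [CommRing A] [Algebra R A] {C : Type w} [CommRing C] [Algebra R C]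
  [Algebra A C] [IsScalarTower R A C] (N : Submodule A (A ⊗[R] M))

variable (C) in
/-- The map `A ⊗ M → C ⊗ M`. -/
noncomputable def jmap : A ⊗[R] M →ₗ[A] C ⊗[R] M :=
  AlgebraTensorModule.map (Algebra.linearMap A C) (LinearMap.id (R := R) (M := M))

@[simp] theorem jmap_tmul (a : A) (m : M) :
    jmap (R := R) C (a ⊗ₜ[R] m) = algebraMap A C a ⊗ₜ[R] m := rfl

theorem cancel_tmul (c : C) (z : A ⊗[R] M) :
    cancelBaseChange R A C C M (c ⊗ₜ[A] z) = c • jmap (R := R) C z := by
  induction z using TensorProduct.induction_on with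
  | zero => simp
  | tmul a m =>
    rw [cancelBaseChange_tmul, jmap_tmul, smul_tmul', Algebra.smul_def, smul_eq_mul, mul_comm]
  | add x y hx hy => rw [tmul_add, map_add, hx, hy, map_add, smul_add]

theorem baseChangeMkQ_jmap (z : A ⊗[R] M) :
    baseChangeMkQ C N (jmap (R := R) C z) = (1 : C) ⊗ₜ[A] N.mkQ z := by
  induction z using TensorProduct.induction_on with
  | zero => simp
  | tmul a m =>
    have h1 : (a ⊗ₜ[R] m : A ⊗[R] M) = a • ((1 : A) ⊗ₜ[R] m) := by
      rw [smul_tmul', smul_eq_mul, mul_one]
    rw [jmap_tmul, baseChangeMkQ, LinearMap.comp_apply, LinearEquiv.coe_coe,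
      cancelBaseChange_symm_tmul, LinearMap.baseChange_tmul, h1, map_smul, tmul_smul,
      smul_tmul', Algebra.algebraMap_eq_smul_one]
  | add x y hx hy => rw [map_add, map_add, hx, hy, map_add, tmul_add]

theorem ker_baseChangeMkQ [Module.Projective A ((A ⊗[R] M) ⧸ N)] :
    LinearMap.ker (baseChangeMkQ C N) =
      Submodule.span C (jmap (R := R) C '' (N : Set (A ⊗[R] M))) := by
  apply le_antisymm
  · intro y hy
    obtain ⟨σ, hσ⟩ := Module.projective_lifting_property N.mkQ LinearMap.id
      (Submodule.mkQ_surjective N)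
    set p : A ⊗[R] M →ₗ[A] A ⊗[R] M := LinearMap.id - σ.comp N.mkQ with hp
    have hpN : ∀ z, p z ∈ N := by
      intro z
      rw [← Submodule.Quotient.mk_eq_zero, ← Submodule.mkQ_apply, hp, LinearMap.sub_apply,
        map_sub, LinearMap.id_apply, LinearMap.comp_apply]
      have := LinearMap.congr_fun hσ (N.mkQ z)
      rw [LinearMap.comp_apply, LinearMap.id_apply] at this
      rw [this, sub_self]
    set y' := (cancelBaseChange R A C C M).symm y with hy'
    have hy'0 : N.mkQ.baseChange C y' = 0 := hy
    have hpy : p.baseChange C y' = y' := by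
      rw [hp, LinearMap.baseChange_sub, LinearMap.sub_apply, LinearMap.baseChange_id,
        LinearMap.id_apply, LinearMap.baseChange_comp, LinearMap.comp_apply, hy'0, map_zero,
        sub_zero]
    have key : ∀ w : C ⊗[A] (A ⊗[R] M), cancelBaseChange R A C C M (p.baseChange C w) ∈
        Submodule.span C (jmap (R := R) C '' (N : Set (A ⊗[R] M))) := by
      intro w
      induction w using TensorProduct.induction_on with
      | zero => simp
      | tmul c z =>
        rw [LinearMap.baseChange_tmul, cancel_tmul]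
        exact Submodule.smul_mem _ _ (Submodule.subset_span ⟨p z, hpN z, rfl⟩)
      | add x y hx hy => rw [map_add, map_add]; exact Submodule.add_mem _ hx hy
    have := key y'
    rwa [hpy, hy', LinearEquiv.apply_symm_apply] at this
  · rw [Submodule.span_le]
    rintro _ ⟨z, hz, rfl⟩
    rw [SetLike.mem_coe, LinearMap.mem_ker, baseChangeMkQ_jmap]
    have : N.mkQ z = 0 := by rwa [Submodule.mkQ_apply, Submodule.Quotient.mk_eq_zero]
    rw [this, tmul_zero]

end Ker

section Stab

open Module.Grassmannian TensorProduct.AlgebraTensorModule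

variable {R : Type u} [CommRing R] {M : Type v} [AddCommGroup M] [Module R M]
  {ι : Type*} (T : ι → M →ₗ[R] M)

/-- Stability of a submodule of `C ⊗ M` under the base-changed endomorphisms. -/
def Stab (C : Type w) [CommRing C] [Algebra R C] (K : Submodule C (C ⊗[R] M)) : Prop :=
  ∀ b, ∀ y ∈ K, (T b).baseChange C y ∈ K

variable {A : Type w} [CommRing A] [Algebra R A]

/-- The ideal cutting out the stability condition. -/
def stabIdeal (N : Submodule A (A ⊗[R] M)) : Ideal A :=
  Ideal.span {x | ∃ (l : ((A ⊗[R] M) ⧸ N) →ₗ[A] A) (b : ι) (z : A ⊗[R] M),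
    z ∈ N ∧ x = l (N.mkQ ((T b).baseChange A z))}

section

variable {C : Type w} [CommRing C] [Algebra R C]
  [Algebra A C] [IsScalarTower R A C] (N : Submodule A (A ⊗[R] M))

theorem baseChange_jmap (b : ι) (z : A ⊗[R] M) :
    (T b).baseChange C (jmap (R := R) C z) = jmap (R := R) C ((T b).baseChange A z) := by
  induction z using TensorProduct.induction_on with
  | zero => simp
  | tmul a m => simp [LinearMap.baseChange_tmul]
  | add x y hx hy => rw [map_add, map_add, hx, hy, map_add, map_add]

theorem stab_ker_iff [Module.Projective A ((A ⊗[R] M) ⧸ N)] :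
    Stab T C (LinearMap.ker (baseChangeMkQ C N)) ↔
      ∀ b, ∀ z ∈ N, (1 : C) ⊗ₜ[A] N.mkQ ((T b).baseChange A z) = 0 := by
  constructor
  · intro h b z hz
    have h1 : jmap (R := R) C z ∈ LinearMap.ker (baseChangeMkQ C N) := by
      rw [ker_baseChangeMkQ]
      exact Submodule.subset_span ⟨z, hz, rfl⟩
    have h2 := h b _ h1
    rwa [baseChange_jmap, LinearMap.mem_ker, baseChangeMkQ_jmap] at h2
  · intro h b y hy
    rw [ker_baseChangeMkQ] at hy
    induction hy using Submodule.span_induction with
    | mem x hx =>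
      obtain ⟨z, hz, rfl⟩ := hx
      rw [baseChange_jmap, LinearMap.mem_ker, baseChangeMkQ_jmap]
      exact h b z hz
    | zero => rw [map_zero]; exact Submodule.zero_mem _
    | add x y _ _ hx hy => rw [map_add]; exact Submodule.add_mem _ hx hy
    | smul c x _ hx => rw [map_smul]; exact Submodule.smul_mem _ _ hx

theorem stab_ker_iff_le [Module.Projective A ((A ⊗[R] M) ⧸ N)] :
    Stab T C (LinearMap.ker (baseChangeMkQ C N)) ↔
      stabIdeal T N ≤ RingHom.ker (algebraMap A C) := by
  rw [stab_ker_iff, stabIdeal, Ideal.span_le]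
  constructor
  · rintro h _ ⟨l, b, z, hz, rfl⟩
    rw [SetLike.mem_coe, RingHom.mem_ker]
    exact (one_tmul_eq_zero_iff _).mp (h b z hz) l
  · intro h b z hz
    rw [one_tmul_eq_zero_iff]
    intro l
    have := h ⟨l, b, z, hz, rfl⟩
    rwa [SetLike.mem_coe, RingHom.mem_ker] at this

end

theorem stab_map_iff {k : ℕ} {C : Type w} [CommRing C] [Algebra R C]
    (N : Grassmannian A (A ⊗[R] M) k) (φ : A →ₐ[R] C) :
    Stab T C (Grassmannian.map φ N).toSubmodule ↔
      stabIdeal T N.toSubmodule ≤ RingHom.ker φ := by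
  letI : Algebra A C := φ.toAlgebra
  letI : IsScalarTower R A C :=
    IsScalarTower.of_algebraMap_eq' <| IsScalarTower.algebraMap_eq R A C
  rw [map_toSubmodule]
  exact stab_ker_iff_le T N.toSubmodule

/-- Uniqueness of ideals determined by their "functor of points". -/
theorem ideal_eq_of_forall_ker (I J : Ideal A)
    (h : ∀ (C : Type w) [CommRing C] [Algebra R C] (φ : A →ₐ[R] C),
      I ≤ RingHom.ker φ ↔ J ≤ RingHom.ker φ) : I = J := by
  have e : ∀ K : Ideal A, RingHom.ker (Ideal.Quotient.mkₐ R K) = K := fun K => by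
    ext x
    rw [RingHom.mem_ker, Ideal.Quotient.mkₐ_eq_mk, Ideal.Quotient.eq_zero_iff_mem]
  apply le_antisymm
  · have := (h (A ⧸ J) (Ideal.Quotient.mkₐ R J)).mpr (by rw [e])
    rwa [e] at this
  · have := (h (A ⧸ I) (Ideal.Quotient.mkₐ R I)).mp (by rw [e])
    rwa [e] at this

end Stab

end Groth.Agent.Lib.Helper54.GrassClosedAlg
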