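import Mathlib
import Groth.Agent.Lib.Helper54.GrassClosedAlg

set_option autoImplicit false
set_option linter.style.haveILetI false
universe u

open AlgebraicGeometry CategoryTheory Module TensorProduct Opposite
open Groth.Agent.Lib.Helper54.GrassClosedAlg

namespace Groth.Agent.Lib.Helper54.GrassClosed

variable {R : Type u} [CommRing R] (X : Over (Spec (CommRingCat.of R)))

/-- The structure map `R → Γ(X, W)`. -/
noncomputable def structMap (W : X.left.Opens) : CommRingCat.of R ⟶ Γ(X.left, W) :=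
  (Scheme.ΓSpecIso (CommRingCat.of R)).inv ≫
    X.hom.appLE ⊤ W (show W ≤ X.hom ⁻¹ᵁ ⊤ from fun _ _ => trivial)

/-- `Γ(X, W)` as an `R`-algebra. -/
noncomputable def AW (W : X.left.Opens) : CommAlgCat.{u} R :=
  letI := (structMap X W).hom.toAlgebra
  CommAlgCat.of R Γ(X.left, W)

theorem algebraMap_AW (W : X.left.Opens) :
    CommRingCat.ofHom (algebraMap R (AW X W)) = structMap X W := rfl

theorem fromSpec_hom (W : X.left.Opens) (hW : IsAffineOpen W) :
    hW.fromSpec ≫ X.hom = Spec.map (structMap X W) := by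
  rw [structMap, Spec.map_comp, ← Scheme.isoSpec_Spec_inv,
    ← IsAffineOpen.fromSpec_top, IsAffineOpen.SpecMap_appLE_fromSpec]

/-- The canonical point `Spec Γ(X, W) → X`. -/
noncomputable def gW (W : X.left.Opens) (hW : IsAffineOpen W) :
    Over.mk (Spec.map (CommRingCat.ofHom (algebraMap R (AW X W)))) ⟶ X :=
  Over.homMk hW.fromSpec (fromSpec_hom X W hW)

/-- Restriction as a map of `R`-algebras. -/
noncomputable def resAW {W W' : X.left.Opens} (h : W' ≤ W) : AW X W ⟶ AW X W' :=
  CommAlgCat.ofHom (R := R) (X := AW X W) (Y := AW X W')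
    { toRingHom := (X.left.presheaf.map (homOfLE h).op).hom
      commutes' := fun r => by
        change ((structMap X W) ≫ X.left.presheaf.map (homOfLE h).op).hom r = (structMap X W').hom r
        rw [structMap, Category.assoc, Scheme.Hom.appLE_map]
        rfl }

theorem gW_res {W W' : X.left.Opens} (h : W' ≤ W) (hW : IsAffineOpen W) (hW' : IsAffineOpen W') :
    (gW X W' hW').left = Spec.map (CommRingCat.ofHom (resAW X h).hom.toRingHom) ≫ (gW X W hW).left := by
  change hW'.fromSpec = Spec.map (X.left.presheaf.map (homOfLE h).op) ≫ hW.fromSpec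
  rw [IsAffineOpen.map_fromSpec]


section AffinePoint

variable (A : CommAlgCat.{u} R)

/-- `Spec A` as an object over `Spec R`. -/
noncomputable abbrev SA : Over (Spec (CommRingCat.of R)) :=
  Over.mk (Spec.map (CommRingCat.ofHom (algebraMap R A)))

instance : IsAffine (SA A).left := inferInstanceAs (IsAffine (Spec (CommRingCat.of A)))

/-- The ring map `A → Γ(Spec A, V)`. -/
noncomputable def rhoRing (V : (SA A).left.Opens) :
    CommRingCat.of A ⟶ Γ((SA A).left, V) :=
  (Scheme.ΓSpecIso (CommRingCat.of A)).inv ≫ (SA A).left.presheaf.map (homOfLE le_top).op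

theorem structMap_SA (V : (SA A).left.Opens) :
    structMap (SA A) V = CommRingCat.ofHom (algebraMap R A) ≫ rhoRing A V := by
  rw [structMap, rhoRing, ← Category.assoc, Scheme.ΓSpecIso_inv_naturality, Category.assoc]
  congr 1

/-- `A → Γ(Spec A, V)` as a map of `R`-algebras. -/
noncomputable def rho (V : (SA A).left.Opens) : A ⟶ AW (SA A) V :=
  CommAlgCat.ofHom (R := R) (X := A) (Y := AW (SA A) V)
    { toRingHom := (rhoRing A V).hom
      commutes' := fun r => by
        change (CommRingCat.ofHom (algebraMap R A) ≫ rhoRing A V).hom r = (structMap (SA A) V).hom r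
        rw [structMap_SA] }

theorem gW_SA (V : (SA A).left.Opens) (hV : IsAffineOpen V) :
    (gW (SA A) V hV).left = Spec.map (CommRingCat.ofHom (rho A V).hom.toRingHom) := by
  change hV.fromSpec = Spec.map (rhoRing A V)
  rw [rhoRing, Spec.map_comp, ← Scheme.isoSpec_Spec_inv, ← IsAffineOpen.fromSpec_top]
  exact (IsAffineOpen.map_fromSpec (isAffineOpen_top _) hV (homOfLE le_top).op).symm

end AffinePoint


section Psi

variable {X} {A : CommAlgCat.{u} R} (g : SA A ⟶ X)

theorem structMap_comp_appLE (W : X.left.Opens) (V : (SA A).left.Opens)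
    (h : V ≤ g.left ⁻¹ᵁ W) :
    structMap X W ≫ g.left.appLE W V h = structMap (SA A) V := by
  rw [structMap, structMap, Category.assoc, Scheme.Hom.appLE_comp_appLE]
  congr 1
  have key : ∀ (f₁ f₂ : (SA A).left ⟶ Spec (CommRingCat.of R)) (_ : f₁ = f₂)
      (e₁ : V ≤ f₁ ⁻¹ᵁ ⊤) (e₂ : V ≤ f₂ ⁻¹ᵁ ⊤), f₁.appLE ⊤ V e₁ = f₂.appLE ⊤ V e₂ := by
    intro f₁ f₂ hf e₁ e₂
    subst hf
    rfl
  exact key _ _ (Over.w g) _ _

/-- `g.appLE W V` as a map of `R`-algebras. -/
noncomputable def psi (W : X.left.Opens) (V : (SA A).left.Opens) (h : V ≤ g.left ⁻¹ᵁ W) :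
    AW X W ⟶ AW (SA A) V :=
  CommAlgCat.ofHom (R := R) (X := AW X W) (Y := AW (SA A) V)
    { toRingHom := (g.left.appLE W V h).hom
      commutes' := fun r => by
        change (structMap X W ≫ g.left.appLE W V h).hom r = (structMap (SA A) V).hom r
        rw [structMap_comp_appLE] }

theorem comp_left_eq_psi (W : X.left.Opens) (hW : IsAffineOpen W) (V : (SA A).left.Opens)
    (hV : IsAffineOpen V) (h : V ≤ g.left ⁻¹ᵁ W) :
    (gW (SA A) V hV ≫ g).left =
      Spec.map (CommRingCat.ofHom (psi g W V h).hom.toRingHom) ≫ (gW X W hW).left := by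
  change hV.fromSpec ≫ g.left = Spec.map (g.left.appLE W V h) ≫ hW.fromSpec
  rw [IsAffineOpen.SpecMap_appLE_fromSpec]

theorem comp_left_eq_rho (V : (SA A).left.Opens) (hV : IsAffineOpen V) :
    (gW (SA A) V hV ≫ g).left =
      Spec.map (CommRingCat.ofHom (rho A V).hom.toRingHom) ≫ g.left := by
  rw [Over.comp_left, gW_SA]

end Psi


section Grass

variable {X} {M : Type u} [AddCommGroup M] [Module R M] {k : ℕ} {ι : Type*} (T : ι → M →ₗ[R] M)
  (e : ∀ A : CommAlgCat.{u} R,
    (SA A ⟶ X) ≃ (Module.Grassmannian.functor (R := R) (M := M) k).obj A)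
  (he : ∀ (A B : CommAlgCat.{u} R) (φ : A ⟶ B) (g : SA A ⟶ X) (g' : SA B ⟶ X),
    g'.left = Spec.map (CommRingCat.ofHom φ.hom.toRingHom) ≫ g.left →
    e B g' = (Module.Grassmannian.functor (R := R) (M := M) k).map φ (e A g))

/-- The ideal attached to a point. -/
noncomputable def ptIdeal {A : CommAlgCat.{u} R} (g : SA A ⟶ X) : Ideal A :=
  stabIdeal T (e A g).toSubmodule

include he in
theorem pt_char {A B : CommAlgCat.{u} R} (φ : A ⟶ B) (g : SA A ⟶ X) (g' : SA B ⟶ X)
    (h : g'.left = Spec.map (CommRingCat.ofHom φ.hom.toRingHom) ≫ g.left) :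
    Stab T B (e B g').toSubmodule ↔ ptIdeal T e g ≤ RingHom.ker φ.hom := by
  rw [he A B φ g g' h]
  exact stab_map_iff T (e A g) φ.hom

include he in
theorem stab_iff_ptIdeal_eq_bot {A : CommAlgCat.{u} R} (g : SA A ⟶ X) :
    Stab T A (e A g).toSubmodule ↔ ptIdeal T e g = ⊥ := by
  have h : g.left = Spec.map (CommRingCat.ofHom (𝟙 A : A ⟶ A).hom.toRingHom) ≫ g.left := by
    have : CommRingCat.ofHom (𝟙 A : A ⟶ A).hom.toRingHom = 𝟙 (CommRingCat.of A) := rfl
    rw [this, Spec.map_id, Category.id_comp]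
  rw [pt_char T e he (𝟙 A) g g h, ← le_bot_iff]
  have : RingHom.ker (𝟙 A : A ⟶ A).hom = ⊥ := by
    ext x
    simp [RingHom.mem_ker]
  rw [this]

include he in
theorem ptIdeal_le_iff {A : CommAlgCat.{u} R} (g : SA A ⟶ X) (W : X.left.Opens)
    (hW : IsAffineOpen W) (V : (SA A).left.Opens) (hV : IsAffineOpen V) (h : V ≤ g.left ⁻¹ᵁ W) :
    ptIdeal T e (gW X W hW) ≤ RingHom.ker (psi g W V h).hom ↔
      ptIdeal T e g ≤ RingHom.ker (rho A V).hom := by
  rw [← pt_char T e he (psi g W V h) (gW X W hW) (gW (SA A) V hV ≫ g)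
      (comp_left_eq_psi g W hW V hV h),
    ← pt_char T e he (rho A V) g (gW (SA A) V hV ≫ g) (comp_left_eq_rho g V hV)]

include he in
theorem ptIdeal_map_res {W W' : X.left.Opens} (h : W' ≤ W) (hW : IsAffineOpen W)
    (hW' : IsAffineOpen W') :
    (ptIdeal T e (gW X W hW)).map (resAW X h).hom.toRingHom = ptIdeal T e (gW X W' hW') := by
  apply ideal_eq_of_forall_ker (R := R) (A := AW X W')
  intro C _ _ φ
  have hN : e (AW X W') (gW X W' hW') =
      Module.Grassmannian.map (resAW X h).hom (e (AW X W) (gW X W hW)) :=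
    he _ _ (resAW X h) _ _ (gW_res X h hW hW')
  rw [Ideal.map_le_iff_le_comap]
  have hk : Ideal.comap (resAW X h).hom.toRingHom (RingHom.ker φ) =
      RingHom.ker (φ.comp (resAW X h).hom) := by
    ext x
    simp [RingHom.mem_ker]
  rw [hk, ptIdeal, ptIdeal, ← stab_map_iff T _ φ, hN, ← Module.Grassmannian.map_comp,
    stab_map_iff]

/-- The ideal sheaf of the stable locus. -/
noncomputable def stabSheaf : X.left.IdealSheafData where
  ideal W := ptIdeal T e (gW X W.1 W.2)
  map_ideal_basicOpen W f :=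
    ptIdeal_map_res T e he (X.left.basicOpen_le f) W.2 (X.left.affineBasicOpen f).2

end Grass

theorem section_eq_zero_of_locally {Y : Scheme.{u}} {U : Y.Opens} (t : Γ(Y, U))
    (H : ∀ x ∈ U, ∃ (V : Y.Opens) (hVU : V ≤ U), x ∈ V ∧
      (Y.presheaf.map (homOfLE hVU).op).hom t = 0) : t = 0 := by
  choose V hVU hx ht using H
  refine Y.sheaf.eq_of_locally_eq' (fun i : U => V i.1 i.2) U (fun i => homOfLE (hVU i.1 i.2))
    ?_ t 0 fun i => ?_
  · intro x hxU
    exact TopologicalSpace.Opens.mem_iSup.mpr ⟨⟨x, hxU⟩, hx x hxU⟩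
  · rw [map_zero]
    exact ht i.1 i.2


section Main

variable {X} {M : Type u} [AddCommGroup M] [Module R M] {k : ℕ} {ι : Type*} (T : ι → M →ₗ[R] M)
  (e : ∀ A : CommAlgCat.{u} R,
    (SA A ⟶ X) ≃ (Module.Grassmannian.functor (R := R) (M := M) k).obj A)
  (he : ∀ (A B : CommAlgCat.{u} R) (φ : A ⟶ B) (g : SA A ⟶ X) (g' : SA B ⟶ X),
    g'.left = Spec.map (CommRingCat.ofHom φ.hom.toRingHom) ≫ g.left →
    e B g' = (Module.Grassmannian.functor (R := R) (M := M) k).map φ (e A g))

include he in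
theorem stab_of_le {A : CommAlgCat.{u} R} (g : SA A ⟶ X)
    (H : ∀ W : X.left.affineOpens,
      ptIdeal T e (gW X W.1 W.2) ≤ RingHom.ker (g.left.app W.1).hom) :
    Stab T A (e A g).toSubmodule := by
  rw [stab_iff_ptIdeal_eq_bot T e he, eq_bot_iff]
  intro s hs
  rw [Ideal.mem_bot]
  have hinj : Function.Injective (Scheme.ΓSpecIso (CommRingCat.of A)).inv.hom :=
    ((Scheme.ΓSpecIso (CommRingCat.of A)).symm.commRingCatIsoToRingEquiv).injective
  apply hinj
  rw [map_zero]
  apply section_eq_zero_of_locally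
  intro x _
  obtain ⟨W, hW, hxW, -⟩ :=
    exists_isAffineOpen_mem_and_subset (x := g.left x) (U := (⊤ : X.left.Opens)) trivial
  obtain ⟨V, hV, hxV, hVW⟩ :=
    exists_isAffineOpen_mem_and_subset (x := x) (U := g.left ⁻¹ᵁ W) hxW
  refine ⟨V, le_top, hxV, ?_⟩
  have h1 : ptIdeal T e (gW X W hW) ≤ RingHom.ker (psi g W V hVW).hom := by
    refine (H ⟨W, hW⟩).trans ?_
    intro y hy
    have hy' : (g.left.app W).hom y = 0 := hy
    change (g.left.appLE W V hVW).hom y = 0
    rw [Scheme.Hom.appLE, CommRingCat.hom_comp, RingHom.comp_apply, hy', map_zero]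
  exact (ptIdeal_le_iff T e he g W hW V hV hVW).mp h1 hs

include he in
theorem le_of_stab {A : CommAlgCat.{u} R} (g : SA A ⟶ X) (hs : Stab T A (e A g).toSubmodule)
    (W : X.left.affineOpens) :
    ptIdeal T e (gW X W.1 W.2) ≤ RingHom.ker (g.left.app W.1).hom := by
  rw [stab_iff_ptIdeal_eq_bot T e he] at hs
  intro s hsI
  change (g.left.app W.1).hom s = 0
  apply section_eq_zero_of_locally
  intro x hx
  obtain ⟨V, hV, hxV, hVW⟩ :=
    exists_isAffineOpen_mem_and_subset (x := x) (U := g.left ⁻¹ᵁ W.1) hx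
  refine ⟨V, hVW, hxV, ?_⟩
  have h1 : ptIdeal T e (gW X W.1 W.2) ≤ RingHom.ker (psi g W.1 V hVW).hom :=
    (ptIdeal_le_iff T e he g W.1 W.2 V hV hVW).mpr (by rw [hs]; exact bot_le)
  exact h1 hsI

include he in
/-- A stability condition on the Grassmannian functor is represented by a closed subscheme. -/
theorem exists_closed : ∃ (Z : Scheme.{u}) (i : Z ⟶ X.left), IsClosedImmersion i ∧
    ∀ (A : CommAlgCat.{u} R) (g : SA A ⟶ X),
      (∃ h : (SA A).left ⟶ Z, h ≫ i = g.left) ↔ Stab T A (e A g).toSubmodule := by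
  refine ⟨(stabSheaf T e he).subscheme, (stabSheaf T e he).subschemeι, inferInstance,
    fun A g => ?_⟩
  constructor
  · rintro ⟨h, hh⟩
    apply stab_of_le T e he g
    intro W
    have h1 : stabSheaf T e he ≤ g.left.ker := by
      rw [← hh]
      have := Scheme.Hom.le_ker_comp h (stabSheaf T e he).subschemeι
      rwa [Scheme.IdealSheafData.ker_subschemeι] at this
    exact (Scheme.IdealSheafData.le_ofIdeals_iff.mp h1) W
  · intro hs
    have h1 : stabSheaf T e he ≤ g.left.ker :=
      Scheme.IdealSheafData.le_ofIdeals_iff.mpr fun W => le_of_stab T e he g hs W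
    exact ⟨IsClosedImmersion.lift (stabSheaf T e he).subschemeι g.left
      (by rwa [Scheme.IdealSheafData.ker_subschemeι]), IsClosedImmersion.lift_fac _ _ _⟩

end Main

end Groth.Agent.Lib.Helper54.GrassClosed
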