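import Mathlib
import Groth.Agent.Lib.Helper54.GrassClosed

/-!
# Schemes over `Spec R` through their affine points (helper54)

Morphisms of `Spec R`-schemes are determined by, and can be constructed from, their effect on
`A`-valued points `SA A ⟶ X` for commutative `R`-algebras `A`.
-/

set_option autoImplicit false
set_option linter.style.haveILetI false
universe u

open AlgebraicGeometry CategoryTheory Opposite

namespace Groth.Agent.Lib.Helper54.AffPts

open Groth.Agent.Lib.Helper54.GrassClosed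

variable {R : Type u} [CommRing R] {X Y : Over (Spec (CommRingCat.of R))}

section Psi

variable (g : Y ⟶ X)

theorem structMap_comp_appLE' (W : X.left.Opens) (V : Y.left.Opens)
    (h : V ≤ g.left ⁻¹ᵁ W) :
    structMap X W ≫ g.left.appLE W V h = structMap Y V := by
  rw [structMap, structMap, Category.assoc, Scheme.Hom.appLE_comp_appLE]
  congr 1
  have key : ∀ (f₁ f₂ : Y.left ⟶ Spec (CommRingCat.of R)) (_ : f₁ = f₂)
      (e₁ : V ≤ f₁ ⁻¹ᵁ ⊤) (e₂ : V ≤ f₂ ⁻¹ᵁ ⊤), f₁.appLE ⊤ V e₁ = f₂.appLE ⊤ V e₂ := by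
    intro f₁ f₂ hf e₁ e₂
    subst hf
    rfl
  exact key _ _ (Over.w g) _ _

/-- `g.appLE W V` as a map of `R`-algebras, for a morphism of `Spec R`-schemes. -/
noncomputable def psi' (W : X.left.Opens) (V : Y.left.Opens) (h : V ≤ g.left ⁻¹ᵁ W) :
    AW X W ⟶ AW Y V :=
  CommAlgCat.ofHom (R := R) (X := AW X W) (Y := AW Y V)
    { toRingHom := (g.left.appLE W V h).hom
      commutes' := fun r => by
        change (structMap X W ≫ g.left.appLE W V h).hom r = (structMap Y V).hom r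
        rw [structMap_comp_appLE'] }

theorem comp_left_eq_psi' (W : X.left.Opens) (hW : IsAffineOpen W) (V : Y.left.Opens)
    (hV : IsAffineOpen V) (h : V ≤ g.left ⁻¹ᵁ W) :
    (gW Y V hV ≫ g).left =
      Spec.map (CommRingCat.ofHom (psi' g W V h).hom.toRingHom) ≫ (gW X W hW).left := by
  change hV.fromSpec ≫ g.left = Spec.map (g.left.appLE W V h) ≫ hW.fromSpec
  rw [IsAffineOpen.SpecMap_appLE_fromSpec]

end Psi

/-- Two morphisms agreeing on all affine points are equal. -/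
theorem hom_ext_points (c c' : Y ⟶ X)
    (h : ∀ (A : CommAlgCat.{u} R) (g : SA A ⟶ Y), g ≫ c = g ≫ c') : c = c' := by
  apply Over.OverMorphism.ext
  apply Scheme.hom_ext_of_forall
  intro x
  obtain ⟨U, hU, hxU, -⟩ :=
    exists_isAffineOpen_mem_and_subset (x := x) (U := (⊤ : Y.left.Opens)) trivial
  refine ⟨U, hxU, ?_⟩
  have h1 := congrArg (fun t => t.left) (h _ (gW Y U hU))
  have h2 : hU.fromSpec ≫ c.left = hU.fromSpec ≫ c'.left := h1
  have h3 : U.ι = hU.isoSpec.hom ≫ hU.fromSpec := by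
    rw [IsAffineOpen.fromSpec, Iso.hom_inv_id_assoc]
  rw [h3, Category.assoc, Category.assoc, h2]


theorem isoSpec_hom_fromSpec {Z : Scheme.{u}} {U : Z.Opens} (hU : IsAffineOpen U) :
    hU.isoSpec.hom ≫ hU.fromSpec = U.ι := by
  rw [IsAffineOpen.fromSpec, Iso.hom_inv_id_assoc]

theorem homOfLE_isoSpec {Z : Scheme.{u}} {U V : Z.Opens} (hU : IsAffineOpen U)
    (hV : IsAffineOpen V) (h : U ≤ V) :
    Z.homOfLE h ≫ hV.isoSpec.hom =
      hU.isoSpec.hom ≫ Spec.map (Z.presheaf.map (homOfLE h).op) := by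
  rw [← cancel_mono hV.fromSpec, Category.assoc, Category.assoc, isoSpec_hom_fromSpec,
    Scheme.homOfLE_ι, hV.map_fromSpec hU (homOfLE h).op, isoSpec_hom_fromSpec]

/-- A natural transformation on affine points is induced by a morphism. -/
theorem exists_of_natural
    (τ : ∀ A : CommAlgCat.{u} R, (SA A ⟶ Y) → (SA A ⟶ X))
    (hτ : ∀ (A B : CommAlgCat.{u} R) (φ : A ⟶ B) (g : SA A ⟶ Y) (g' : SA B ⟶ Y),
      g'.left = Spec.map (CommRingCat.ofHom φ.hom.toRingHom) ≫ g.left →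
      (τ B g').left = Spec.map (CommRingCat.ofHom φ.hom.toRingHom) ≫ (τ A g).left) :
    ∃ c : Y ⟶ X, ∀ (A : CommAlgCat.{u} R) (g : SA A ⟶ Y), g ≫ c = τ A g := by
  let 𝒰 := Y.left.directedAffineCover
  let gU : ∀ U : Y.left.affineOpens, (U.1 : Scheme.{u}) ⟶ X.left := fun U =>
    U.2.isoSpec.hom ≫ (τ _ (gW Y U.1 U.2)).left
  have hcompat : ∀ {U V : 𝒰.I₀} (hij : U ⟶ V), 𝒰.trans hij ≫ gU V = gU U := by
    intro U V hij
    have hle : U ≤ V := hij.le
    have h1 : 𝒰.trans hij = Y.left.homOfLE hle := rfl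
    have h2 := hτ _ _ (resAW Y hle) (gW Y V.1 V.2) (gW Y U.1 U.2) (gW_res Y hle V.2 U.2)
    have h3 : Spec.map (CommRingCat.ofHom (resAW Y hle).hom.toRingHom) =
        Spec.map (Y.left.presheaf.map (homOfLE hle).op) := rfl
    rw [h1]
    change Y.left.homOfLE hle ≫ V.2.isoSpec.hom ≫ _ = U.2.isoSpec.hom ≫ _
    rw [h2, h3, ← Category.assoc, homOfLE_isoSpec U.2 V.2 hle, Category.assoc]
    rfl
  have hw' : ∀ (U : Y.left.Opens) (hU : IsAffineOpen U),
      (hU.isoSpec.hom ≫ (τ _ (gW Y U hU)).left) ≫ X.hom = U.ι ≫ Y.hom := by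
    intro U hU
    have h1 : (τ _ (gW Y U hU)).left ≫ X.hom = Spec.map (structMap Y U) :=
      Over.w (τ _ (gW Y U hU))
    have h2 : hU.fromSpec ≫ Y.hom = Spec.map (structMap Y U) := fromSpec_hom Y U hU
    have h3 : (hU.isoSpec.hom ≫ (τ _ (gW Y U hU)).left) ≫ X.hom =
        hU.isoSpec.hom ≫ Spec.map (structMap Y U) :=
      (Category.assoc _ _ _).trans (congrArg (hU.isoSpec.hom ≫ ·) h1)
    rw [h3, ← h2, ← Category.assoc, isoSpec_hom_fromSpec]
  have hw : ∀ U : 𝒰.I₀, gU U ≫ X.hom = 𝒰.f U ≫ Y.hom := fun U => hw' U.1 U.2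
  let c : Y ⟶ X := 𝒰.glueMorphismsOverOfLocallyDirected gU hcompat hw
  have key₀ : ∀ (U : Y.left.Opens) (hU : IsAffineOpen U),
      hU.fromSpec ≫ c.left = (τ _ (gW Y U hU)).left := by
    intro U hU
    have := Scheme.OpenCover.map_glueMorphismsOverOfLocallyDirected_left 𝒰 gU hcompat hw ⟨U, hU⟩
    change U.ι ≫ c.left = hU.isoSpec.hom ≫ _ at this
    rw [IsAffineOpen.fromSpec, Category.assoc, this, Iso.inv_hom_id_assoc]
  refine ⟨c, fun A g => ?_⟩
  apply Over.OverMorphism.ext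
  apply Scheme.hom_ext_of_forall
  intro x
  obtain ⟨W, hW, hxW, -⟩ :=
    exists_isAffineOpen_mem_and_subset (x := g.left x) (U := (⊤ : Y.left.Opens)) trivial
  obtain ⟨V, hV, hxV, hVW⟩ :=
    exists_isAffineOpen_mem_and_subset (x := x) (U := g.left ⁻¹ᵁ W) hxW
  refine ⟨V, hxV, ?_⟩
  have e1 : hV.fromSpec ≫ (g ≫ c).left = (τ _ (gW (SA A) V hV ≫ g)).left := by
    have h1 := comp_left_eq_psi g W hW V hV hVW
    have h2 := hτ _ _ (psi g W V hVW) (gW Y W hW) (gW (SA A) V hV ≫ g) h1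
    calc hV.fromSpec ≫ (g ≫ c).left
        = (gW (SA A) V hV ≫ g).left ≫ c.left := by
          rw [Over.comp_left, Over.comp_left, Category.assoc]; rfl
      _ = (Spec.map (CommRingCat.ofHom (psi g W V hVW).hom.toRingHom) ≫ (gW Y W hW).left)
            ≫ c.left := by rw [h1]
      _ = Spec.map (CommRingCat.ofHom (psi g W V hVW).hom.toRingHom) ≫
            (hW.fromSpec ≫ c.left) := by rw [Category.assoc]; rfl
      _ = _ := by
          have k := key₀ W hW
          exact (congrArg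
            (Spec.map (CommRingCat.ofHom (psi g W V hVW).hom.toRingHom) ≫ ·) k).trans h2.symm
  have e2 : hV.fromSpec ≫ (τ A g).left = (τ _ (gW (SA A) V hV ≫ g)).left := by
    have h1 := comp_left_eq_rho g V hV
    have h2 := hτ _ _ (rho A V) g (gW (SA A) V hV ≫ g) h1
    rw [h2]
    congr 1
    exact gW_SA A V hV
  rw [← isoSpec_hom_fromSpec hV, Category.assoc, Category.assoc, e1, e2]

end Groth.Agent.Lib.Helper54.AffPts
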