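import Mathlib
import Groth.Prelude.Def_AlgSp4
import Groth.Prelude.Def_AlgSpMor5
import Groth.Prelude.Def_MoreMor
import Groth.Agent.Lib.Helper79.AlgSpChart
import Groth.Agent.Lib.Helper23.AlgSpMor
import Groth.Agent.Lib.Helper55.FlatDescent
import Groth.Agent.Lib.Helper54.CPFScheme

/-!
# Critère de platitude par fibres for algebraic spaces (helper54)
-/

set_option autoImplicit false
universe u
open CategoryTheory CategoryTheory.Limits AlgebraicGeometry

namespace Groth.Agent.Lib.Helper54.AlgSpCPF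

open AlgSp Groth.Agent.Lib.Helper79.AlgSpChart

variable {S : Scheme.{u}}

/-- chart of a fibre product: `R = U ×_Z T`, `P = F ×_Z T`, `a : h_U ⟶ F` etale; then the
induced `h_R ⟶ P` is etale. -/
theorem repWith_etale_of_fibre {F Zs P : Sp S} {U T R : Over S} {a : (yon S).obj U ⟶ F}
    (ha : RepWith @Etale a) {φ : F ⟶ Zs} {t : (yon S).obj T ⟶ Zs} {pX : P ⟶ F}
    {qX : P ⟶ (yon S).obj T} (hP : IsPullback pX qX φ t) {r1 : R ⟶ U} {r2 : R ⟶ T}
    (hR : IsPullback ((yon S).map r1) ((yon S).map r2) (a ≫ φ) t)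
    (A : (yon S).obj R ⟶ P) (hA1 : A ≫ pX = (yon S).map r1 ≫ a) (hA2 : A ≫ qX = (yon S).map r2) :
    RepWith @Etale A := by
  have s : IsPullback (A ≫ qX) ((yon S).map r1) t (a ≫ φ) := by
    rw [hA2]; exact hR.flip
  have sq : IsPullback A ((yon S).map r1) pX a := IsPullback.of_right s hA1 hP.flip
  exact (RepWith @Etale).of_isPullback sq.flip ha

section fib

variable {A W : Over S} (m : A ⟶ W) (w : W.left)

/-- the fibre of `m` over `w` as a scheme over `S`. -/
noncomputable def fibOver : Over S := Over.mk (m.left.fiberι w ≫ A.hom)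

/-- `Spec κ(w)` as a scheme over `S`. -/
noncomputable def specOver (W : Over S) (w : W.left) : Over S :=
  Over.mk (W.left.fromSpecResidueField w ≫ W.hom)

noncomputable def fibι : fibOver m w ⟶ A := Over.homMk (m.left.fiberι w) rfl

noncomputable def specι (W : Over S) (w : W.left) : specOver W w ⟶ W :=
  Over.homMk (W.left.fromSpecResidueField w) rfl

noncomputable def fibToSpec : fibOver m w ⟶ specOver W w :=
  Over.homMk (m.left.fiberToSpecResidueField w) (by
    show m.left.fiberToSpecResidueField w ≫ W.left.fromSpecResidueField w ≫ W.hom =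
      m.left.fiberι w ≫ A.hom
    rw [← Category.assoc, ← m.left.fiber_fac w, Category.assoc, Over.w m])

theorem isPullback_fib : IsPullback (fibι m w) (fibToSpec m w) m (specι W w) := by
  apply IsPullback.of_map (Over.forget S)
  · apply (Over.forget S).map_injective
    simp only [Functor.map_comp]
    exact m.left.fiber_fac w
  · exact IsPullback.of_hasPullback m.left (W.left.fromSpecResidueField w)

/-- the map of fibres as a morphism over `S`. -/
noncomputable def fibMapOver {A B W : Over S} (k : A ⟶ B) (p : B ⟶ W) (w : W.left) :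
    fibOver (k ≫ p) w ⟶ fibOver p w :=
  Over.homMk (MoreMor.fiberMap k.left p.left w) (by
    show MoreMor.fiberMap k.left p.left w ≫ p.left.fiberι w ≫ B.hom =
      (k.left ≫ p.left).fiberι w ≫ A.hom
    rw [← Category.assoc, Groth.Agent.Lib.Helper54.CPF.fiberMap_fiberι, Category.assoc, Over.w k])

theorem fibMapOver_fibι {A B W : Over S} (k : A ⟶ B) (p : B ⟶ W) (w : W.left) :
    fibMapOver k p w ≫ fibι p w = fibι (k ≫ p) w ≫ k := by
  apply (Over.forget S).map_injective
  simp only [Functor.map_comp]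
  exact Groth.Agent.Lib.Helper54.CPF.fiberMap_fiberι k.left p.left w

theorem fibMapOver_fibToSpec {A B W : Over S} (k : A ⟶ B) (p : B ⟶ W) (w : W.left) :
    fibMapOver k p w ≫ fibToSpec p w = fibToSpec (k ≫ p) w := by
  apply (Over.forget S).map_injective
  simp only [Functor.map_comp]
  exact pullback.lift_snd _ _ _

end fib

/-- The hypothesis on fibres in the fibre criterion for algebraic spaces. -/
def FibHyp {X Y Z : Space S} (f : X ⟶ Y) (h : Y ⟶ Z) : Prop :=
  ∀ (K : Type u) [Field K] (sK : Spec (CommRingCat.of K) ⟶ S)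
      (z : (AlgSp.yon S).obj (Over.mk sK) ⟶ Z.obj) (Xz Yz : AlgSp.Sp S)
      (pX : Xz ⟶ X.obj) (qX : Xz ⟶ (AlgSp.yon S).obj (Over.mk sK))
      (pY : Yz ⟶ Y.obj) (qY : Yz ⟶ (AlgSp.yon S).obj (Over.mk sK)) (fz : Xz ⟶ Yz),
      IsPullback pX qX (f ≫ h).hom z → IsPullback pY qY h.hom z → fz ≫ pY = pX ≫ f.hom →
      fz ≫ qY = qX → AlgSp.LocP @Flat fz

/-- Reduction of a chart diagram of `f` to a diagram of schemes `U' ⟶ V' ⟶ W` over an etale chart
`W` of `Z`, with flat maps of fibres. -/
theorem chart_reduction {X Y Z : Space S} (f : X ⟶ Y) (h : Y ⟶ Z) (hfib : FibHyp f h)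
    {U V : Over S} (a : (yon S).obj U ⟶ X.obj) (b : (yon S).obj V ⟶ Y.obj) (k : U ⟶ V)
    (ha : RepWith @Etale a) (hb : RepWith @Etale b) (comm : a ≫ f.hom = (yon S).map k ≫ b)
    {W : Over S} (c : (yon S).obj W ⟶ Z.obj) (hc : RepWith @Etale c)
    (hcs : RepWith @Surjective c) :
    ∃ (U' V' : Over S) (q : U' ⟶ U) (e : V' ⟶ V) (k' : U' ⟶ V') (pW : V' ⟶ W),
      Etale q.left ∧ Surjective q.left ∧ Etale e.left ∧ k' ≫ e = q ≫ k ∧
      RepWith @Etale ((yon S).map q ≫ a) ∧
      ((yon S).map q ≫ a) ≫ (f ≫ h).hom = (yon S).map (k' ≫ pW) ≫ c ∧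
      RepWith @Etale ((yon S).map e ≫ b) ∧
      ((yon S).map e ≫ b) ≫ h.hom = (yon S).map pW ≫ c ∧
      ∀ w : W.left, Flat (MoreMor.fiberMap k'.left pW.left w) := by
  obtain ⟨V', pW, e, sqV, he⟩ := exists_pullback_chart @Etale hc (b ≫ h.hom)
  have hes : Surjective e.left := hcs.property (b ≫ h.hom) _ e sqV
  have sqO : IsPullback (pullback.fst e k) (pullback.snd e k) e k := IsPullback.of_hasPullback e k
  have sqOl := sqO.map (Over.forget S)
  have hq : Etale (pullback.snd e k).left :=
    MorphismProperty.of_isPullback (P := @Etale) sqOl he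
  have hqs : Surjective (pullback.snd e k).left :=
    MorphismProperty.of_isPullback (P := @Surjective) sqOl hes
  have ha' : RepWith @Etale ((yon S).map (pullback.snd e k) ≫ a) :=
    repWith_map_comp @Etale _ hq ha
  have hb' : RepWith @Etale ((yon S).map e ≫ b) := repWith_map_comp @Etale _ he hb
  have hfh : (f ≫ h).hom = f.hom ≫ h.hom := rfl
  have comm2 : ((yon S).map e ≫ b) ≫ h.hom = (yon S).map pW ≫ c := by
    rw [Category.assoc]; exact sqV.w.symm
  have comm1 : ((yon S).map (pullback.snd e k) ≫ a) ≫ (f ≫ h).hom =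
      (yon S).map (pullback.fst e k ≫ pW) ≫ c := by
    calc ((yon S).map (pullback.snd e k) ≫ a) ≫ (f ≫ h).hom
        = (yon S).map (pullback.snd e k) ≫ (a ≫ f.hom) ≫ h.hom := by
          rw [hfh]; simp only [Category.assoc]
      _ = (yon S).map (pullback.snd e k) ≫ ((yon S).map k ≫ b) ≫ h.hom := by rw [comm]
      _ = (yon S).map (pullback.snd e k ≫ k) ≫ b ≫ h.hom := by
          rw [Functor.map_comp]; simp only [Category.assoc]
      _ = (yon S).map (pullback.fst e k ≫ e) ≫ b ≫ h.hom := by rw [sqO.w]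
      _ = (yon S).map (pullback.fst e k) ≫ ((yon S).map e ≫ b ≫ h.hom) := by
          rw [Functor.map_comp, Category.assoc]
      _ = (yon S).map (pullback.fst e k) ≫ ((yon S).map pW ≫ c) := by rw [← sqV.w]
      _ = (yon S).map (pullback.fst e k ≫ pW) ≫ c := by rw [Functor.map_comp, Category.assoc]
  refine ⟨_, V', pullback.snd e k, e, pullback.fst e k, pW, hq, hqs, he, sqO.w, ha', comm1, hb',
    comm2, ?_⟩
  intro w
  -- the big square `U' = U ×_Z W`
  have sqOy : IsPullback ((yon S).map (pullback.fst e k)) ((yon S).map (pullback.snd e k))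
      ((yon S).map e) ((yon S).map k) := sqO.map (yon S)
  have big : IsPullback ((yon S).map (pullback.fst e k) ≫ (yon S).map pW)
      ((yon S).map (pullback.snd e k)) c ((yon S).map k ≫ b ≫ h.hom) := sqOy.paste_horiz sqV
  -- the point
  let z : (yon S).obj (specOver W w) ⟶ Z.obj := (yon S).map (specι W w) ≫ c
  -- fibre squares
  have fU : IsPullback ((yon S).map (fibι (pullback.fst e k ≫ pW) w))
      ((yon S).map (fibToSpec (pullback.fst e k ≫ pW) w))
      ((yon S).map (pullback.fst e k ≫ pW)) ((yon S).map (specι W w)) :=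
    (isPullback_fib (pullback.fst e k ≫ pW) w).map (yon S)
  have fV : IsPullback ((yon S).map (fibι pW w)) ((yon S).map (fibToSpec pW w))
      ((yon S).map pW) ((yon S).map (specι W w)) := (isPullback_fib pW w).map (yon S)
  rw [Functor.map_comp] at fU
  have hRU : IsPullback
      ((yon S).map (fibι (pullback.fst e k ≫ pW) w) ≫ (yon S).map (pullback.snd e k))
      ((yon S).map (fibToSpec (pullback.fst e k ≫ pW) w)) ((yon S).map k ≫ b ≫ h.hom) z :=
    fU.paste_horiz big.flip
  have hRV : IsPullback ((yon S).map (fibι pW w) ≫ (yon S).map e)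
      ((yon S).map (fibToSpec pW w)) (b ≫ h.hom) z := fV.paste_horiz sqV.flip
  have hak : (yon S).map k ≫ b ≫ h.hom = a ≫ (f ≫ h).hom := by
    rw [hfh, ← Category.assoc, ← comm, Category.assoc]
  rw [hak, ← Functor.map_comp] at hRU
  rw [← Functor.map_comp] at hRV
  -- the fibres of the spaces
  have hXz : IsPullback (pullback.fst (f ≫ h).hom z) (pullback.snd (f ≫ h).hom z) (f ≫ h).hom z :=
    IsPullback.of_hasPullback _ _
  have hYz : IsPullback (pullback.fst h.hom z) (pullback.snd h.hom z) h.hom z :=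
    IsPullback.of_hasPullback _ _
  let fz : pullback (f ≫ h).hom z ⟶ pullback h.hom z :=
    hYz.lift (pullback.fst (f ≫ h).hom z ≫ f.hom) (pullback.snd (f ≫ h).hom z)
      (by rw [Category.assoc]; exact hXz.w)
  have hfz1 : fz ≫ pullback.fst h.hom z = pullback.fst (f ≫ h).hom z ≫ f.hom := hYz.lift_fst _ _ _
  have hfz2 : fz ≫ pullback.snd h.hom z = pullback.snd (f ≫ h).hom z := hYz.lift_snd _ _ _
  have hLoc : LocP @Flat fz :=
    hfib (W.left.residueField w) (specOver W w).hom z _ _ _ _ _ _ fz hXz hYz hfz1 hfz2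
  -- charts of the fibres
  let A : (yon S).obj (fibOver (pullback.fst e k ≫ pW) w) ⟶ pullback (f ≫ h).hom z :=
    hXz.lift _ _ (by rw [Category.assoc]; exact hRU.w)
  have hA1 : A ≫ pullback.fst (f ≫ h).hom z =
      (yon S).map (fibι (pullback.fst e k ≫ pW) w ≫ pullback.snd e k) ≫ a := hXz.lift_fst _ _ _
  have hA2 : A ≫ pullback.snd (f ≫ h).hom z =
      (yon S).map (fibToSpec (pullback.fst e k ≫ pW) w) := hXz.lift_snd _ _ _
  have hAet : RepWith @Etale A := repWith_etale_of_fibre ha hXz hRU A hA1 hA2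
  let B : (yon S).obj (fibOver pW w) ⟶ pullback h.hom z :=
    hYz.lift _ _ (by rw [Category.assoc]; exact hRV.w)
  have hB1 : B ≫ pullback.fst h.hom z = (yon S).map (fibι pW w ≫ e) ≫ b := hYz.lift_fst _ _ _
  have hB2 : B ≫ pullback.snd h.hom z = (yon S).map (fibToSpec pW w) := hYz.lift_snd _ _ _
  have hBet : RepWith @Etale B := repWith_etale_of_fibre hb hYz hRV B hB1 hB2
  have compat : A ≫ fz = (yon S).map (fibMapOver (pullback.fst e k) pW w) ≫ B := by
    apply hYz.hom_ext
    · rw [Category.assoc, hfz1, ← Category.assoc, hA1, Category.assoc, comm, Category.assoc, hB1,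
        ← Category.assoc, ← Category.assoc, ← Functor.map_comp, ← Functor.map_comp]
      congr 2
      rw [Category.assoc, ← sqO.w, ← Category.assoc, ← Category.assoc, fibMapOver_fibι]
    · rw [Category.assoc, hfz2, hA2, Category.assoc, hB2, ← Functor.map_comp,
        fibMapOver_fibToSpec]
  exact hLoc A B (fibMapOver (pullback.fst e k) pW w) hAet hBet compat

end Groth.Agent.Lib.Helper54.AlgSpCPF
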