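import Mathlib
import Groth.Prelude.Def_MoreMor
import Groth.Agent.Lib.Helper55.FlatDescent
import Groth.Agent.Lib.Helper54.CPFScheme

/-!
# Flatness at a point and base change (helper54)

`X ⟶ Y ⟶ S` with `X` flat and locally of finite presentation over `S`, `Y` locally of finite type
over `S`: the flat locus of `X ⟶ Y` commutes with arbitrary base change `S' ⟶ S`.
-/

set_option autoImplicit false
set_option linter.style.haveILetI false
universe u

open CategoryTheory CategoryTheory.Limits AlgebraicGeometry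

namespace Groth.Agent.Lib.Helper54.FlatBC

open Groth.Agent.Lib.Helper54.CPF Groth.Agent.Lib.Helper67.FiberTower

section A

variable {X X' Y Y' : Scheme.{u}} {pX : X' ⟶ X} {pY : Y' ⟶ Y} {f : X ⟶ Y} {f' : X' ⟶ Y'}

/-- flatness at a point passes to a base change (source locally of finite presentation). -/
theorem flat_stalkMap_of_isPullback (hXY : IsPullback pX f' f pY) [LocallyOfFinitePresentation f]
    (x' : X') (hx : (f.stalkMap (pX x')).hom.Flat) : (f'.stalkMap x').hom.Flat := by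
  let U : X.Opens := ⟨{x | (f.stalkMap x).hom.Flat},
    Groth.Agent.Lib.Helper55.FL.isOpen_stalkMap_flat f⟩
  have hU : Flat (U.ι ≫ f) := by
    refine Flat.of_stalkMap _ fun u => ?_
    rw [Scheme.Hom.stalkMap_comp]
    exact RingHom.Flat.comp (u.2 : (f.stalkMap (U.ι u)).hom.Flat) (Flat.stalkMap U.ι u)
  have sq : IsPullback (pX ∣_ U) ((pX ⁻¹ᵁ U).ι ≫ f') (U.ι ≫ f) pY :=
    (isPullback_morphismRestrict pX U).paste_vert hXY
  have hU' : Flat ((pX ⁻¹ᵁ U).ι ≫ f') := MorphismProperty.of_isPullback (P := @Flat) sq hU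
  let u' : ↥(pX ⁻¹ᵁ U) := ⟨x', hx⟩
  have h1 := Flat.stalkMap ((pX ⁻¹ᵁ U).ι ≫ f') u'
  rw [Scheme.Hom.stalkMap_comp] at h1
  exact Groth.Agent.Lib.Helper55.ringHom_flat_of_comp_of_faithfullyFlat
    (f'.stalkMap ((pX ⁻¹ᵁ U).ι u')).hom ((pX ⁻¹ᵁ U).ι.stalkMap u').hom
    (Flat.stalkMap (pX ⁻¹ᵁ U).ι u') h1

end A

section B

variable {X Y S : Scheme.{u}} (f : X ⟶ Y) (g : Y ⟶ S)

/-- the map of fibres through `x` is flat at `x`. -/
def FibFlatAt (x : X) : Prop :=
  ((MoreMor.fiberMap f g (g (f x))).stalkMap ((f ≫ g).asFiber x)).hom.Flat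

theorem fibFlatAt_aux (s : S) (x : X) (hx : (f ≫ g) x = s)
    (h : ((MoreMor.fiberMap f g s).stalkMap (((f ≫ g).fiberHomeo s).symm ⟨x, hx⟩)).hom.Flat) :
    FibFlatAt f g x := by
  subst hx
  exact h

theorem fibFlatAt_of_point (s : S) (ξ : (f ≫ g).fiber s)
    (h : ((MoreMor.fiberMap f g s).stalkMap ξ).hom.Flat) :
    FibFlatAt f g ((f ≫ g).fiberι s ξ) := by
  have e : ((f ≫ g).fiberHomeo s).symm
      ⟨((f ≫ g).fiberHomeo s ξ).1, ((f ≫ g).fiberHomeo s ξ).2⟩ = ξ :=
    ((f ≫ g).fiberHomeo s).symm_apply_apply ξ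
  exact fibFlatAt_aux f g s (((f ≫ g).fiberHomeo s ξ).1) (((f ≫ g).fiberHomeo s ξ).2)
    (by rw [e]; exact h)

theorem fibFlatAt_of_flat (x : X) (h : (f.stalkMap x).hom.Flat) : FibFlatAt f g x :=
  (fiberMap_stalkMap_flat_iff f g x).2 (flat_φ' _ _ h)

theorem flat_of_fibFlatAt [LocallyOfFinitePresentation (f ≫ g)] [LocallyOfFiniteType g] (x : X)
    (h1 : ((f ≫ g).stalkMap x).hom.Flat) (h2 : FibFlatAt f g x) : (f.stalkMap x).hom.Flat :=
  ((cpf_pointwise f g x).1 ⟨h1, h2⟩).2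

end B

section C

variable {X X' Y Y' S S' : Scheme.{u}} {pX : X' ⟶ X} {pY : Y' ⟶ Y} {φ : S' ⟶ S} {f : X ⟶ Y}
  {f' : X' ⟶ Y'} {g : Y ⟶ S} {g' : Y' ⟶ S'}

theorem flat_of_comp_stalk {A B C : Scheme.{u}} (Ψ : A ⟶ C) (a : A ⟶ B) (b : B ⟶ C) (e : Ψ = a ≫ b)
    (x : A) (ha : (a.stalkMap x).hom.Flat) (hb : (b.stalkMap (a x)).hom.Flat) :
    (Ψ.stalkMap x).hom.Flat := by
  subst e
  rw [Scheme.Hom.stalkMap_comp]
  exact RingHom.Flat.comp hb ha

theorem fibFlatAt_of_baseChange (hX : IsPullback pX (f' ≫ g') (f ≫ g) φ) (hY : IsPullback pY g' g φ)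
    (w : pX ≫ f = f' ≫ pY) (x' : X') (h : (f'.stalkMap x').hom.Flat) :
    FibFlatAt f g (pX x') := by
  have h1 : FibFlatAt f' g' x' := fibFlatAt_of_flat f' g' x' h
  have hp := isPullback_fiberToSpecResidueField_of_isPullback hX (g' (f' x'))
  have hq := isPullback_fiberToSpecResidueField_of_isPullback hY (g' (f' x'))
  obtain ⟨p, hp, hp1⟩ : ∃ p : (f' ≫ g').fiber (g' (f' x')) ⟶ (f ≫ g).fiber (φ (g' (f' x'))),
      IsPullback p ((f' ≫ g').fiberToSpecResidueField (g' (f' x')))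
        ((f ≫ g).fiberToSpecResidueField (φ (g' (f' x'))))
        (Spec.map (φ.residueFieldMap (g' (f' x')))) ∧
      p ≫ (f ≫ g).fiberι (φ (g' (f' x'))) = (f' ≫ g').fiberι (g' (f' x')) ≫ pX :=
    ⟨_, hp, pullback.lift_fst _ _ _⟩
  obtain ⟨q, hq, hq1⟩ : ∃ q : g'.fiber (g' (f' x')) ⟶ g.fiber (φ (g' (f' x'))),
      IsPullback q (g'.fiberToSpecResidueField (g' (f' x')))
        (g.fiberToSpecResidueField (φ (g' (f' x'))))
        (Spec.map (φ.residueFieldMap (g' (f' x')))) ∧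
      q ≫ g.fiberι (φ (g' (f' x'))) = g'.fiberι (g' (f' x')) ≫ pY :=
    ⟨_, hq, pullback.lift_fst _ _ _⟩
  have hflatp : Flat p := MorphismProperty.of_isPullback (P := @Flat) hp.flip inferInstance
  have hflatq : Flat q := MorphismProperty.of_isPullback (P := @Flat) hq.flip inferInstance
  have comm : p ≫ MoreMor.fiberMap f g (φ (g' (f' x'))) =
      MoreMor.fiberMap f' g' (g' (f' x')) ≫ q := by
    have e1 : MoreMor.fiberMap f g (φ (g' (f' x'))) ≫ g.fiberToSpecResidueField _ =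
        (f ≫ g).fiberToSpecResidueField _ := pullback.lift_snd _ _ _
    have e2 : MoreMor.fiberMap f' g' (g' (f' x')) ≫ g'.fiberToSpecResidueField _ =
        (f' ≫ g').fiberToSpecResidueField _ := pullback.lift_snd _ _ _
    apply pullback.hom_ext
    · show (p ≫ _) ≫ g.fiberι _ = (_ ≫ q) ≫ g.fiberι _
      rw [Category.assoc, Category.assoc, fiberMap_fiberι, hq1, ← Category.assoc p, hp1,
        Category.assoc, w, ← Category.assoc (MoreMor.fiberMap f' g' _), fiberMap_fiberι,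
        Category.assoc]
    · show (p ≫ _) ≫ g.fiberToSpecResidueField _ = (_ ≫ q) ≫ g.fiberToSpecResidueField _
      rw [Category.assoc, e1, hp.w, Category.assoc, hq.w, ← Category.assoc, e2]
  have h2 := flat_of_comp_stalk _ _ q comm ((f' ≫ g').asFiber x') h1
    (Flat.stalkMap q _)
  rw [Scheme.Hom.stalkMap_comp] at h2
  have h3 := Groth.Agent.Lib.Helper55.ringHom_flat_of_comp_of_faithfullyFlat _ _
    (Flat.stalkMap p ((f' ≫ g').asFiber x')) h2
  have h4 := fibFlatAt_of_point f g _ _ h3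
  have e : (f ≫ g).fiberι (φ (g' (f' x'))) (p ((f' ≫ g').asFiber x')) = pX x' := by
    have := congrArg (fun ψ : (f' ≫ g').fiber (g' (f' x')) ⟶ X => ψ ((f' ≫ g').asFiber x')) hp1
    simp only [Scheme.Hom.comp_apply] at this
    rw [this]
    exact congrArg pX ((f' ≫ g').fiberι_asFiber x')
  rw [e] at h4
  exact h4

/-- **Flatness at a point commutes with base change** of the base `S`. -/
theorem flat_stalkMap_baseChange_iff (hX : IsPullback pX (f' ≫ g') (f ≫ g) φ)
    (hY : IsPullback pY g' g φ) (w : pX ≫ f = f' ≫ pY) [Flat (f ≫ g)]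
    [LocallyOfFinitePresentation (f ≫ g)] [LocallyOfFiniteType g] (x' : X') :
    (f'.stalkMap x').hom.Flat ↔ (f.stalkMap (pX x')).hom.Flat := by
  have hXY : IsPullback pX f' f pY := IsPullback.of_bot hX w hY
  have : LocallyOfFinitePresentation f := lfp_of_comp f g
  constructor
  · intro h
    exact flat_of_fibFlatAt f g _ (Flat.stalkMap (f ≫ g) _) (fibFlatAt_of_baseChange hX hY w x' h)
  · intro h
    exact flat_stalkMap_of_isPullback hXY x' h

end C

end Groth.Agent.Lib.Helper54.FlatBC
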