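import Mathlib
import Groth.Agent.Lib.Helper55.FlatDescent
import Groth.Agent.Lib.Helper55.FL.StalkFlat

/-!
# Flatness at a point is étale local on source and target (helper54)
-/

set_option autoImplicit false
universe u

open CategoryTheory CategoryTheory.Limits AlgebraicGeometry

namespace Groth.Agent.Lib.Helper54.FlatChart

theorem hasOfPostcomp_flat_etale : MorphismProperty.HasOfPostcompProperty @Flat @Etale := by
  rw [MorphismProperty.hasOfPostcompProperty_iff_le_diagonal]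
  intro X Y f hf
  have : Etale f := hf
  exact inferInstanceAs (Flat (pullback.diagonal f))

/-- If `Ψ = a ≫ b` is flat at `x` with `b` étale and `Ψ` locally of finite presentation then `a`
is flat at `x`. -/
theorem flat_stalkMap_of_comp_etale {A B C : Scheme.{u}} (a : A ⟶ B) (b : B ⟶ C) [Etale b]
    [LocallyOfFinitePresentation (a ≫ b)] (x : A) (h : ((a ≫ b).stalkMap x).hom.Flat) :
    (a.stalkMap x).hom.Flat := by
  let O : A.Opens := ⟨{x | ((a ≫ b).stalkMap x).hom.Flat},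
    Groth.Agent.Lib.Helper55.FL.isOpen_stalkMap_flat (a ≫ b)⟩
  have hO : Flat ((O.ι ≫ a) ≫ b) := by
    rw [Category.assoc]
    refine Flat.of_stalkMap _ fun u => ?_
    rw [Scheme.Hom.stalkMap_comp]
    exact RingHom.Flat.comp (u.2 : ((a ≫ b).stalkMap (O.ι u)).hom.Flat) (Flat.stalkMap O.ι u)
  have hOa : Flat (O.ι ≫ a) :=
    hasOfPostcomp_flat_etale.of_postcomp (O.ι ≫ a) b ‹Etale b› hO
  let u : ↥O := ⟨x, h⟩
  have h1 := Flat.stalkMap (O.ι ≫ a) u
  rw [Scheme.Hom.stalkMap_comp] at h1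
  exact Groth.Agent.Lib.Helper55.ringHom_flat_of_comp_of_faithfullyFlat
    (a.stalkMap (O.ι u)).hom (O.ι.stalkMap u).hom (Flat.stalkMap O.ι u) h1

/-- transfer of flatness at a point between two chart diagrams dominated by a third. -/
theorem flat_stalkMap_transfer {U V U2 V2 U3 V3 : Scheme.{u}} (k : U ⟶ V) (k2 : U2 ⟶ V2)
    (k3 : U3 ⟶ V3) (q1 : U3 ⟶ U) (q2 : U3 ⟶ U2) (p1 : V3 ⟶ V) (p2 : V3 ⟶ V2)
    [Etale q1] [Etale q2] [Etale p1] [Etale p2] [LocallyOfFinitePresentation k]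
    (e1 : k3 ≫ p1 = q1 ≫ k) (e2 : k3 ≫ p2 = q2 ≫ k2) (u3 : U3)
    (h : (k.stalkMap (q1 u3)).hom.Flat) : (k2.stalkMap (q2 u3)).hom.Flat := by
  have h1 : ((q1 ≫ k).stalkMap u3).hom.Flat := by
    rw [Scheme.Hom.stalkMap_comp]
    exact RingHom.Flat.comp h (Flat.stalkMap q1 u3)
  have : LocallyOfFinitePresentation (k3 ≫ p1) := by rw [e1]; infer_instance
  have h2 : ((k3 ≫ p1).stalkMap u3).hom.Flat := by
    have key : ∀ Ψ : U3 ⟶ V, Ψ = q1 ≫ k → (Ψ.stalkMap u3).hom.Flat := by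
      rintro _ rfl; exact h1
    exact key _ e1
  have h3 : (k3.stalkMap u3).hom.Flat := flat_stalkMap_of_comp_etale k3 p1 u3 h2
  have h4 : ((q2 ≫ k2).stalkMap u3).hom.Flat := by
    have key : ∀ Ψ : U3 ⟶ V2, Ψ = k3 ≫ p2 → (Ψ.stalkMap u3).hom.Flat := by
      rintro _ rfl
      rw [Scheme.Hom.stalkMap_comp]
      exact RingHom.Flat.comp (Flat.stalkMap p2 _) h3
    exact key _ e2.symm
  rw [Scheme.Hom.stalkMap_comp] at h4
  exact Groth.Agent.Lib.Helper55.ringHom_flat_of_comp_of_faithfullyFlat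
    (k2.stalkMap (q2 u3)).hom (q2.stalkMap u3).hom (Flat.stalkMap q2 u3) h4

end Groth.Agent.Lib.Helper54.FlatChart
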