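import Mathlib
import Groth.Prelude.Def_AlgSp4
import Groth.Prelude.Def_AlgSpMor5
import Groth.Agent.Lib.Helper79.AlgSpChart
import Groth.Agent.Lib.Helper37.AlgSpPoints
import Groth.Agent.Lib.Helper54.FlatChart
import Groth.Agent.Lib.Helper54.FlatBC

/-!
# The flat locus of a morphism of algebraic spaces (helper54)
-/

set_option autoImplicit false
universe u
open CategoryTheory CategoryTheory.Limits AlgebraicGeometry

namespace Groth.Agent.Lib.Helper54.AlgSpFlatLocus

open AlgSp Groth.Agent.Lib.Helper79.AlgSpChart Groth.Agent.Lib.Helper37.AlgSpPoints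
open Groth.Agent.Lib.Helper54.FlatChart

variable {S : Scheme.{u}}

/-- One chart principle for flatness at a point. -/
theorem isFlatAtMor_of_chart {F G : Sp S} (f : F ⟶ G) {U V : Over S} (a : (yon S).obj U ⟶ F)
    (b : (yon S).obj V ⟶ G) (k : U ⟶ V) (ha : RepWith @Etale a) (hb : RepWith @Etale b)
    (comm : a ≫ f = (yon S).map k ≫ b) [LocallyOfFinitePresentation k.left] (u : U.left)
    (hu : (k.left.stalkMap u).hom.Flat) : IsFlatAtMor f (Points.ofPt a u) := by
  intro U2 V2 a2 b2 k2 u2 ha2 hb2 comm2 hpt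
  obtain ⟨V3, p1, p2, sqV, hp2⟩ := exists_pullback_chart @Etale hb b2
  have hp1 : Etale p1.left := fst_property_of_isPullback @Etale hb2 sqV
  obtain ⟨U3, q1, q2, sqU, hq2⟩ := exists_pullback_chart @Etale ha a2
  have hq1 : Etale q1.left := fst_property_of_isPullback @Etale ha2 sqU
  obtain ⟨u3, hu3a, hu3b⟩ := (ofPt_eq_ofPt_iff sqU u u2).1 hpt.symm
  have hcomm : (yon S).map (q1 ≫ k) ≫ b = (yon S).map (q2 ≫ k2) ≫ b2 := by
    rw [Functor.map_comp, Category.assoc, ← comm, ← Category.assoc, sqU.w, Category.assoc, comm2,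
      ← Category.assoc, ← Functor.map_comp]
  obtain ⟨k3, hk31, hk32⟩ : ∃ k3 : U3 ⟶ V3, k3 ≫ p1 = q1 ≫ k ∧ k3 ≫ p2 = q2 ≫ k2 := by
    refine ⟨(yon S).preimage (sqV.lift _ _ hcomm), ?_, ?_⟩
    · apply (yon S).map_injective
      rw [Functor.map_comp, Functor.map_preimage, sqV.lift_fst]
    · apply (yon S).map_injective
      rw [Functor.map_comp, Functor.map_preimage, sqV.lift_snd]
  have e1 : k3.left ≫ p1.left = q1.left ≫ k.left := by
    rw [← Over.comp_left, hk31, Over.comp_left]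
  have e2 : k3.left ≫ p2.left = q2.left ≫ k2.left := by
    rw [← Over.comp_left, hk32, Over.comp_left]
  have := flat_stalkMap_transfer k.left k2.left k3.left q1.left q2.left p1.left p2.left e1 e2 u3
    (by rw [hu3a]; exact hu)
  rw [hu3b] at this
  exact this

/-- chart of a fibre product: `R = U ×_Z T`, `P = F ×_Z T`, `a : h_U ⟶ F` with `P`; then the
induced `h_R ⟶ P` has `P`. -/
theorem repWith_of_fibre (Q : MorphismProperty Scheme.{u}) {F Zs P : Sp S} {U T R : Over S}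
    {a : (yon S).obj U ⟶ F}
    (ha : RepWith Q a) {φ : F ⟶ Zs} {t : (yon S).obj T ⟶ Zs} {pX : P ⟶ F}
    {qX : P ⟶ (yon S).obj T} (hP : IsPullback pX qX φ t) {r1 : R ⟶ U} {r2 : R ⟶ T}
    (hR : IsPullback ((yon S).map r1) ((yon S).map r2) (a ≫ φ) t)
    (A : (yon S).obj R ⟶ P) (hA1 : A ≫ pX = (yon S).map r1 ≫ a) (hA2 : A ≫ qX = (yon S).map r2) :
    RepWith Q A := by
  have s : IsPullback (A ≫ qX) ((yon S).map r1) t (a ≫ φ) := by
    rw [hA2]; exact hR.flip
  have sq : IsPullback A ((yon S).map r1) pX a := IsPullback.of_right s hA1 hP.flip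
  exact (RepWith Q).of_isPullback sq.flip ha

/-- An atlas tower `U ⟶ V ⟶ W` for `X ⟶ Y ⟶ Z`. -/
theorem exists_atlas_tower {X Y Z : Space S} (f : X ⟶ Y) (h : Y ⟶ Z) :
    ∃ (U V W : Over S) (a : (yon S).obj U ⟶ X.obj) (b : (yon S).obj V ⟶ Y.obj)
      (c : (yon S).obj W ⟶ Z.obj) (k : U ⟶ V) (pW : V ⟶ W),
      (RepWith @Etale a ∧ RepWith @Surjective a) ∧ (RepWith @Etale b ∧ RepWith @Surjective b) ∧
      (RepWith @Etale c ∧ RepWith @Surjective c) ∧
      a ≫ f.hom = (yon S).map k ≫ b ∧ b ≫ h.hom = (yon S).map pW ≫ c := by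
  obtain ⟨W, c, hc, hcs⟩ := Z.property.atlas
  obtain ⟨V0, b0, hb0, hb0s⟩ := Y.property.atlas
  obtain ⟨U0, a0, ha0, ha0s⟩ := X.property.atlas
  obtain ⟨V, pW, e, sqV, he⟩ := exists_pullback_chart @Etale hc (b0 ≫ h.hom)
  have hes : Surjective e.left := hcs.property (b0 ≫ h.hom) _ e sqV
  have hb : RepWith @Etale ((yon S).map e ≫ b0) := repWith_map_comp @Etale _ he hb0
  have hbs : RepWith @Surjective ((yon S).map e ≫ b0) := repWith_map_comp @Surjective _ hes hb0s
  obtain ⟨U, k, e', sqU, he'⟩ := exists_pullback_chart @Etale hb (a0 ≫ f.hom)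
  have hes' : Surjective e'.left := hbs.property (a0 ≫ f.hom) _ e' sqU
  have ha : RepWith @Etale ((yon S).map e' ≫ a0) := repWith_map_comp @Etale _ he' ha0
  have has : RepWith @Surjective ((yon S).map e' ≫ a0) :=
    repWith_map_comp @Surjective _ hes' ha0s
  refine ⟨U, V, W, _, _, c, k, pW, ⟨ha, has⟩, ⟨hb, hbs⟩, ⟨hc, hcs⟩, ?_, ?_⟩
  · rw [Category.assoc]; exact sqU.w.symm
  · rw [Category.assoc]; exact sqV.w.symm

theorem isOpen_flatLocus {X Y Z : Space S} (f : X ⟶ Y) (h : Y ⟶ Z)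
    (hfp : LocP @LocallyOfFinitePresentation (f ≫ h).hom)
    (hft : LocP @LocallyOfFiniteType h.hom) :
    IsOpen {x : Points X.obj | IsFlatAtMor f.hom x} := by
  obtain ⟨U, V, W, a, b, c, k, pW, ⟨ha, has⟩, ⟨hb, hbs⟩, ⟨hc, hcs⟩, comm1, comm2⟩ :=
    exists_atlas_tower f h
  have hfh : (f ≫ h).hom = f.hom ≫ h.hom := rfl
  have comm3 : a ≫ (f ≫ h).hom = (yon S).map (k ≫ pW) ≫ c := by
    rw [hfh, ← Category.assoc, comm1, Category.assoc, comm2, Functor.map_comp, Category.assoc]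
  have h2 : LocallyOfFinitePresentation (k.left ≫ pW.left) := hfp a c (k ≫ pW) ha hc comm3
  have h3 : LocallyOfFiniteType pW.left := hft b c pW hb hc comm2
  have h4 : LocallyOfFinitePresentation k.left :=
    Groth.Agent.Lib.Helper54.CPF.lfp_of_comp k.left pW.left
  rw [← (isQuotientMap_ofPt a ha has).isOpen_preimage]
  have : Points.ofPt a ⁻¹' {x | IsFlatAtMor f.hom x} = {u | (k.left.stalkMap u).hom.Flat} := by
    ext u
    constructor
    · intro hu
      exact hu a b k u ha hb comm1 rfl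
    · intro hu
      exact isFlatAtMor_of_chart f.hom a b k ha hb comm1 u hu
  rw [this]
  exact Groth.Agent.Lib.Helper55.FL.isOpen_stalkMap_flat k.left

set_option maxHeartbeats 1600000 in
theorem flatLocus_baseChange {X Y Z X' Y' Z' : Space S} (f : X ⟶ Y) (h : Y ⟶ Z)
    (hfp : LocP @LocallyOfFinitePresentation (f ≫ h).hom) (hfl : LocP @Flat (f ≫ h).hom)
    (hft : LocP @LocallyOfFiniteType h.hom)
    (g : Z' ⟶ Z) (f' : X' ⟶ Y') (h' : Y' ⟶ Z') (pX : X' ⟶ X) (pY : Y' ⟶ Y)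
    (hY' : IsPullback pY.hom h'.hom h.hom g.hom) (hX' : IsPullback pX.hom f'.hom f.hom pY.hom) :
    {x' : Points X'.obj | IsFlatAtMor f'.hom x'} =
      Points.map pX.hom ⁻¹' {x : Points X.obj | IsFlatAtMor f.hom x} := by
  obtain ⟨U, V, W, a, b, c, k, pW, ⟨ha, has⟩, ⟨hb, hbs⟩, ⟨hc, hcs⟩, comm1, comm2⟩ :=
    exists_atlas_tower f h
  have hfh : (f ≫ h).hom = f.hom ≫ h.hom := rfl
  have hfh' : (f' ≫ h').hom = f'.hom ≫ h'.hom := rfl
  have comm3 : a ≫ (f ≫ h).hom = (yon S).map (k ≫ pW) ≫ c := by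
    rw [hfh, ← Category.assoc, comm1, Category.assoc, comm2, Functor.map_comp, Category.assoc]
  have i1 : Flat (k.left ≫ pW.left) := hfl a c (k ≫ pW) ha hc comm3
  have i2 : LocallyOfFinitePresentation (k.left ≫ pW.left) := hfp a c (k ≫ pW) ha hc comm3
  have i3 : LocallyOfFiniteType pW.left := hft b c pW hb hc comm2
  have i4 : LocallyOfFinitePresentation k.left :=
    Groth.Agent.Lib.Helper54.CPF.lfp_of_comp k.left pW.left
  obtain ⟨W0', c0', hc0', hc0's⟩ := Z'.property.atlas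
  obtain ⟨W', ω, ε, sqW, hε⟩ := exists_pullback_chart @Etale hc (c0' ≫ g.hom)
  obtain ⟨V', pV, pW', sqV'⟩ : ∃ (V' : Over S) (pV : V' ⟶ V) (pW' : V' ⟶ W'),
      IsPullback pV pW' pW ω := ⟨_, _, _, IsPullback.of_hasPullback pW ω⟩
  obtain ⟨U', pU, rU, sqU'⟩ : ∃ (U' : Over S) (pU : U' ⟶ U) (rU : U' ⟶ W'),
      IsPullback pU rU (k ≫ pW) ω := ⟨_, _, _, IsPullback.of_hasPullback (k ≫ pW) ω⟩
  obtain ⟨k', hk'1, hk'2⟩ : ∃ k' : U' ⟶ V', k' ≫ pV = pU ≫ k ∧ k' ≫ pW' = rU :=
    ⟨sqV'.lift (pU ≫ k) rU (by rw [Category.assoc]; exact sqU'.w), sqV'.lift_fst _ _ _,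
      sqV'.lift_snd _ _ _⟩
  -- scheme level
  have hYs : IsPullback pV.left pW'.left pW.left ω.left := sqV'.map (Over.forget S)
  have hXs : IsPullback pU.left (k'.left ≫ pW'.left) (k.left ≫ pW.left) ω.left := by
    have := sqU'.map (Over.forget S)
    rw [← hk'2] at this
    exact this
  have ws : pU.left ≫ k.left = k'.left ≫ pV.left := by
    rw [← Over.comp_left, ← hk'1, Over.comp_left]
  have BC := fun u' => Groth.Agent.Lib.Helper54.FlatBC.flat_stalkMap_baseChange_iff hXs hYs ws u'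
  have i5 : LocallyOfFinitePresentation k'.left :=
    MorphismProperty.of_isPullback (P := @LocallyOfFinitePresentation)
      (IsPullback.of_bot hXs ws hYs) i4
  -- sheaf level: `V' = V ×_Z W0'`, `U' = U ×_Z W0'`
  have sV : IsPullback ((yon S).map pV) ((yon S).map (pW' ≫ ε)) (b ≫ h.hom) (c0' ≫ g.hom) := by
    have := (sqV'.map (yon S)).paste_vert sqW
    rw [← comm2, ← Functor.map_comp] at this
    exact this
  have sU : IsPullback ((yon S).map pU) ((yon S).map (rU ≫ ε)) (a ≫ (f ≫ h).hom)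
      (c0' ≫ g.hom) := by
    have := (sqU'.map (yon S)).paste_vert sqW
    rw [← comm3, ← Functor.map_comp] at this
    exact this
  -- charts of `Y'`
  have hP1 : IsPullback (pullback.fst h'.hom c0') (pullback.snd h'.hom c0') h'.hom c0' :=
    IsPullback.of_hasPullback _ _
  have hP1Y : IsPullback (pullback.fst h'.hom c0' ≫ pY.hom) (pullback.snd h'.hom c0') h.hom
      (c0' ≫ g.hom) := hP1.paste_horiz hY'
  obtain ⟨B1, hB11, hB12⟩ : ∃ B1 : (yon S).obj V' ⟶ pullback h'.hom c0',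
      B1 ≫ (pullback.fst h'.hom c0' ≫ pY.hom) = (yon S).map pV ≫ b ∧
      B1 ≫ pullback.snd h'.hom c0' = (yon S).map (pW' ≫ ε) :=
    ⟨hP1Y.lift _ _ (by rw [Category.assoc]; exact sV.w), hP1Y.lift_fst _ _ _,
      hP1Y.lift_snd _ _ _⟩
  have hB1e : RepWith @Etale B1 := repWith_of_fibre @Etale hb hP1Y sV B1 hB11 hB12
  have hB1s : RepWith @Surjective B1 := repWith_of_fibre @Surjective hbs hP1Y sV B1 hB11 hB12
  have hπ1e : RepWith @Etale (pullback.fst h'.hom c0') :=
    (RepWith @Etale).of_isPullback hP1.flip hc0'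
  have hb'e : RepWith @Etale (B1 ≫ pullback.fst h'.hom c0') :=
    (RepWith @Etale).comp_mem _ _ hB1e hπ1e
  -- charts of `X'`
  have hX'Z : IsPullback pX.hom (f' ≫ h').hom (f ≫ h).hom g.hom := hX'.paste_vert hY'
  have hQ1 : IsPullback (pullback.fst (f' ≫ h').hom c0') (pullback.snd (f' ≫ h').hom c0')
      (f' ≫ h').hom c0' := IsPullback.of_hasPullback _ _
  have hQ1X : IsPullback (pullback.fst (f' ≫ h').hom c0' ≫ pX.hom)
      (pullback.snd (f' ≫ h').hom c0') (f ≫ h).hom (c0' ≫ g.hom) := hQ1.paste_horiz hX'Z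
  obtain ⟨A1, hA11, hA12⟩ : ∃ A1 : (yon S).obj U' ⟶ pullback (f' ≫ h').hom c0',
      A1 ≫ (pullback.fst (f' ≫ h').hom c0' ≫ pX.hom) = (yon S).map pU ≫ a ∧
      A1 ≫ pullback.snd (f' ≫ h').hom c0' = (yon S).map (rU ≫ ε) :=
    ⟨hQ1X.lift _ _ (by rw [Category.assoc]; exact sU.w), hQ1X.lift_fst _ _ _,
      hQ1X.lift_snd _ _ _⟩
  have hA1e : RepWith @Etale A1 := repWith_of_fibre @Etale ha hQ1X sU A1 hA11 hA12
  have hA1s : RepWith @Surjective A1 := repWith_of_fibre @Surjective has hQ1X sU A1 hA11 hA12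
  have hρ1e : RepWith @Etale (pullback.fst (f' ≫ h').hom c0') :=
    (RepWith @Etale).of_isPullback hQ1.flip hc0'
  have hρ1s : RepWith @Surjective (pullback.fst (f' ≫ h').hom c0') :=
    (RepWith @Surjective).of_isPullback hQ1.flip hc0's
  have ha'e : RepWith @Etale (A1 ≫ pullback.fst (f' ≫ h').hom c0') :=
    (RepWith @Etale).comp_mem _ _ hA1e hρ1e
  have ha's : RepWith @Surjective (A1 ≫ pullback.fst (f' ≫ h').hom c0') :=
    (RepWith @Surjective).comp_mem _ _ hA1s hρ1s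
  have ha'X : (A1 ≫ pullback.fst (f' ≫ h').hom c0') ≫ pX.hom = (yon S).map pU ≫ a := by
    rw [Category.assoc]; exact hA11
  have comm' : (A1 ≫ pullback.fst (f' ≫ h').hom c0') ≫ f'.hom =
      (yon S).map k' ≫ (B1 ≫ pullback.fst h'.hom c0') := by
    apply hY'.hom_ext
    · rw [Category.assoc, ← hX'.w, ← Category.assoc, ha'X, Category.assoc, comm1,
        Category.assoc, Category.assoc, hB11, ← Category.assoc, ← Category.assoc,
        ← Functor.map_comp, ← Functor.map_comp, hk'1]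
    · rw [Category.assoc, Category.assoc, ← hfh', hQ1.w, ← Category.assoc, hA12,
        Category.assoc, Category.assoc, hP1.w, ← Category.assoc B1, hB12, ← Category.assoc,
        ← Functor.map_comp, ← Category.assoc, hk'2]
  -- the equality
  ext x'
  obtain ⟨u', rfl⟩ := ofPt_surjective _ ha's x'
  have hx : Points.map pX.hom (Points.ofPt (A1 ≫ pullback.fst (f' ≫ h').hom c0') u') =
      Points.ofPt a (pU.left u') := by
    rw [Points.map_ofPt, ha'X, ofPt_map_comp]
  simp only [Set.mem_ofPred_eq, Set.mem_preimage]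
  rw [hx]
  constructor
  · intro hf'
    have h1 : (k'.left.stalkMap u').hom.Flat := hf' _ _ k' u' ha'e hb'e comm' rfl
    exact isFlatAtMor_of_chart f.hom a b k ha hb comm1 _ ((BC u').1 h1)
  · intro hf
    have h1 : (k.left.stalkMap (pU.left u')).hom.Flat := hf a b k _ ha hb comm1 rfl
    exact isFlatAtMor_of_chart f'.hom _ _ k' ha'e hb'e comm' u' ((BC u').2 h1)

end Groth.Agent.Lib.Helper54.AlgSpFlatLocus
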