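import Mathlib
import Groth.Prelude.Def_AlgSp4
import Groth.Prelude.Def_AlgSpMor5
import Groth.Prelude.Def_AlgSpInf
import Groth.Agent.Lib.Helper79.AlgSpChart
import Groth.Agent.Lib.Helper37.AlgSpPoints
import Groth.Agent.Lib.Helper23.AlgSpMor
import Groth.Agent.Lib.Helper54.AlgSpFlatLocus

/-!
# Flatness at points of morphisms of algebraic spaces: global/pointwise dictionary, thickenings
(helper54)
-/

set_option autoImplicit false
set_option linter.style.haveILetI false
universe u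
open CategoryTheory CategoryTheory.Limits AlgebraicGeometry

namespace Groth.Agent.Lib.Helper54.AlgSpFlatPt

open AlgSp Groth.Agent.Lib.Helper79.AlgSpChart Groth.Agent.Lib.Helper37.AlgSpPoints
open Groth.Agent.Lib.Helper54.AlgSpFlatLocus

variable {S : Scheme.{u}}

theorem isFlatAtMor_of_locP {F G : Sp S} (f : F ⟶ G) (hf : LocP @Flat f) (x : Points F) :
    IsFlatAtMor f x := by
  intro U V a b k u ha hb comm _
  have : Flat k.left := hf a b k ha hb comm
  exact Flat.stalkMap k.left u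

theorem locP_flat_of_forall {F G : Sp S} (f : F ⟶ G) (hf : ∀ x, IsFlatAtMor f x) :
    LocP @Flat f := by
  intro U V a b k ha hb comm
  exact Flat.of_stalkMap _ fun u => hf _ a b k u ha hb comm rfl

theorem locP_flat_iff_forall {F G : Sp S} (f : F ⟶ G) :
    LocP @Flat f ↔ ∀ x, IsFlatAtMor f x :=
  ⟨isFlatAtMor_of_locP f, locP_flat_of_forall f⟩

/-- if `a ≫ b` and `a` are flat at `x`, then `b` is flat at `a x`. -/
theorem flat_stalkMap_of_comp_of_flat {A B C : Scheme.{u}} (a : A ⟶ B) (b : B ⟶ C) (x : A)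
    (h1 : ((a ≫ b).stalkMap x).hom.Flat) (h2 : (a.stalkMap x).hom.Flat) :
    (b.stalkMap (a x)).hom.Flat := by
  have h1' : ((a.stalkMap x).hom.comp (b.stalkMap (a x)).hom).Flat := by
    have h := h1
    rw [Scheme.Hom.stalkMap_comp] at h
    exact h
  have hff : (a.stalkMap x).hom.FaithfullyFlat := by
    letI : Algebra (B.presheaf.stalk (a x)) (A.presheaf.stalk x) := (a.stalkMap x).hom.toAlgebra
    haveI : IsLocalHom (algebraMap (B.presheaf.stalk (a x)) (A.presheaf.stalk x)) :=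
      inferInstanceAs (IsLocalHom (a.stalkMap x).hom)
    haveI : Module.Flat (B.presheaf.stalk (a x)) (A.presheaf.stalk x) := h2
    exact Module.FaithfullyFlat.of_flat_of_isLocalHom
  exact Groth.Agent.Lib.Helper19.RingHom.Flat.of_comp_of_faithfullyFlat _ _ hff h1'

/-- a thickening of sheaves is surjective on points. -/
theorem isSurjectiveMor_of_isThickMor {F G : Sp S} (i : F ⟶ G) (hi : IsThickMor i) :
    IsSurjectiveMor i := by
  refine Groth.Agent.Lib.Helper23.AlgSpMor.isSurjectiveMor_of_repWith_surjective i ?_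
  refine MorphismProperty.relative_monotone ?_ _ hi
  intro A B φ hφ
  exact hφ.2

/-- `X ⟶ Y ⟶ Z` morphisms of algebraic spaces, `X` flat over `Z`, `f` flat: then `Y ⟶ Z` is flat
at all points of the image of `f`. -/
theorem isFlatAtMor_map_of_flat {X Y Z : Space S} (f : X ⟶ Y) (h : Y ⟶ Z)
    (hfl : LocP @Flat (f ≫ h).hom) (hf : LocP @Flat f.hom) (x : Points X.obj) :
    IsFlatAtMor h.hom (Points.map f.hom x) := by
  intro V2 W2 b2 c2 m2 v2 hb2 hc2 comm2 hpt
  obtain ⟨U0, a0, ha0, ha0s⟩ := X.property.atlas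
  obtain ⟨u0, rfl⟩ := ofPt_surjective a0 ha0s x
  obtain ⟨U2, k2, e, sq, he⟩ := exists_pullback_chart @Etale hb2 (a0 ≫ f.hom)
  have ha2 : RepWith @Etale ((yon S).map e ≫ a0) := repWith_map_comp @Etale _ he ha0
  have comm_a : ((yon S).map e ≫ a0) ≫ f.hom = (yon S).map k2 ≫ b2 := by
    rw [Category.assoc]; exact sq.w.symm
  have hfh : (f ≫ h).hom = f.hom ≫ h.hom := rfl
  have comm_c : ((yon S).map e ≫ a0) ≫ (f ≫ h).hom = (yon S).map (k2 ≫ m2) ≫ c2 := by
    rw [hfh, ← Category.assoc, comm_a, Category.assoc, comm2, Functor.map_comp, Category.assoc]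
  have i1 : Flat k2.left := hf _ b2 k2 ha2 hb2 comm_a
  have i2 : Flat (k2.left ≫ m2.left) := hfl _ c2 (k2 ≫ m2) ha2 hc2 comm_c
  rw [Points.map_ofPt] at hpt
  obtain ⟨u2, hu2a, hu2b⟩ := (ofPt_eq_ofPt_iff sq v2 u0).1 hpt
  subst hu2a
  exact flat_stalkMap_of_comp_of_flat k2.left m2.left u2 (Flat.stalkMap _ u2) (Flat.stalkMap _ u2)

end Groth.Agent.Lib.Helper54.AlgSpFlatPt
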