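import Mathlib
import Groth.Prelude.Def_MoreMor
import Groth.Agent.Lib.Helper54.CPFScheme
import Groth.Agent.S1381

/-!
# Deformation of morphisms along a thickening (helper54)

Setup: `iS : S ⟶ S'` thickening, `f' : X' ⟶ Y'`, `g' : Y' ⟶ S'` with `f' ≫ g'` flat and l.f.p.,
`g'` l.f.t.; `f : X ⟶ Y`, `g : Y ⟶ S` the base change.
-/

set_option autoImplicit false
universe u

open CategoryTheory CategoryTheory.Limits AlgebraicGeometry

namespace Groth.Agent.Lib.Helper54.DeformFp

open Groth.Agent.Lib.Helper54.CPF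

section

variable {X X' Y Y' S S' : Scheme.{u}} {iX : X ⟶ X'} {iY : Y ⟶ Y'} {iS : S ⟶ S'}
    {f : X ⟶ Y} {f' : X' ⟶ Y'} {g : Y ⟶ S} {g' : Y' ⟶ S'}

theorem thick_left {A B C D : Scheme.{u}} {a : A ⟶ B} {b : A ⟶ C} {c : B ⟶ D} {d : C ⟶ D}
    (h : IsPullback a b c d) (hd : MoreMor.IsThickening d) : MoreMor.IsThickening a :=
  ⟨MorphismProperty.of_isPullback (P := @IsClosedImmersion) h.flip hd.1,
    MorphismProperty.of_isPullback (P := @Surjective) h.flip hd.2⟩

/-- the fibre of `f'` over `iY y` is a base change of `f`. -/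
theorem exists_isPullback_fiber (hXY : IsPullback iX f f' iY) [IsClosedImmersion iY] (y : Y) :
    ∃ (v : f'.fiber (iY y) ⟶ X) (t : Spec (Y'.residueField (iY y)) ⟶ Y),
      IsPullback v (f'.fiberToSpecResidueField (iY y)) f t := by
  have := Groth.Agent.S1381.isIso_residueFieldMap iY y
  obtain ⟨t, ht⟩ : ∃ t : Spec (Y'.residueField (iY y)) ⟶ Y,
      t ≫ iY = Y'.fromSpecResidueField (iY y) := by
    refine ⟨Spec.map (inv (iY.residueFieldMap y)) ≫ Y.fromSpecResidueField y, ?_⟩
    rw [Category.assoc, ← Scheme.Hom.SpecMap_residueFieldMap_fromSpecResidueField,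
      ← Category.assoc, ← Spec.map_comp, IsIso.hom_inv_id, Spec.map_id, Category.id_comp]
  let v : f'.fiber (iY y) ⟶ X :=
    hXY.lift (f'.fiberι (iY y)) (f'.fiberToSpecResidueField (iY y) ≫ t)
      (by rw [Category.assoc, ht]; exact f'.fiber_fac (iY y))
  have hv : v ≫ iX = f'.fiberι (iY y) := hXY.lift_fst _ _ _
  have hv2 : v ≫ f = f'.fiberToSpecResidueField (iY y) ≫ t := hXY.lift_snd _ _ _
  refine ⟨v, t, ?_⟩
  have h1 : IsPullback (f'.fiberι (iY y)) (f'.fiberToSpecResidueField (iY y)) f'
      (Y'.fromSpecResidueField (iY y)) := IsPullback.of_hasPullback _ _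
  rw [← hv, ← ht] at h1
  exact IsPullback.of_right h1 hv2 hXY

theorem smooth_of_smooth (hS : MoreMor.IsThickening iS)
    (hcX : IsPullback iX (f ≫ g) (f' ≫ g') iS) (hcY : IsPullback iY g g' iS)
    (w : iX ≫ f' = f ≫ iY) [Flat (f' ≫ g')] [LocallyOfFinitePresentation (f' ≫ g')]
    [LocallyOfFiniteType g'] [Smooth f] : Smooth f' := by
  have hXY : IsPullback iX f f' iY := IsPullback.of_bot hcX w hcY
  have hiY := thick_left hcY hS
  have := hiY.1
  have : Flat f' := (Groth.Agent.S1381.result iX iY iS f f' g g' hS hcX hcY w).1 inferInstance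
  have : LocallyOfFinitePresentation f' := lfp_of_comp f' g'
  refine Smooth.of_smooth_fiberToSpecResidueField f' ?_
  intro y'
  obtain ⟨y, rfl⟩ := hiY.2.surj y'
  obtain ⟨v, t, h⟩ := exists_isPullback_fiber hXY y
  exact MorphismProperty.of_isPullback (P := @Smooth) h inferInstance

/-- mono case: a flat base change to `S` forces `f'` to be an open immersion. -/
theorem isOpenImmersion_of_mono (hS : MoreMor.IsThickening iS)
    (hcX : IsPullback iX (f ≫ g) (f' ≫ g') iS) (hcY : IsPullback iY g g' iS)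
    (w : iX ≫ f' = f ≫ iY) [Flat (f' ≫ g')] [LocallyOfFinitePresentation (f' ≫ g')]
    [LocallyOfFiniteType g'] [Mono f'] [Flat f] : IsOpenImmersion f' := by
  have : Flat f' := (Groth.Agent.S1381.result iX iY iS f f' g g' hS hcX hcY w).1 inferInstance
  have : LocallyOfFinitePresentation f' := lfp_of_comp f' g'
  exact IsOpenImmersion.of_flat_of_mono f'

/-- the map between the self fibre products. -/
noncomputable abbrev iP (iX : X ⟶ X') (iY : Y ⟶ Y') (f : X ⟶ Y) (f' : X' ⟶ Y')
    (w : iX ≫ f' = f ≫ iY) : pullback f f ⟶ pullback f' f' :=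
  pullback.map f f f' f' iX iX iY w.symm w.symm

theorem diag_comm (w : iX ≫ f' = f ≫ iY) :
    iX ≫ pullback.diagonal f' = pullback.diagonal f ≫ iP iX iY f f' w := by
  have e1 : iP iX iY f f' w ≫ pullback.snd f' f' = pullback.snd f f ≫ iX :=
    pullback.lift_snd _ _ _
  have e2 : iP iX iY f f' w ≫ pullback.fst f' f' = pullback.fst f f ≫ iX :=
    pullback.lift_fst _ _ _
  apply pullback.hom_ext
  · rw [Category.assoc, Category.assoc, e2, pullback.diagonal_fst, pullback.diagonal_fst_assoc,
      Category.comp_id]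
  · rw [Category.assoc, Category.assoc, e1, pullback.diagonal_snd, pullback.diagonal_snd_assoc,
      Category.comp_id]

theorem isPullback_iP_fst (hXY : IsPullback iX f f' iY) (w : iX ≫ f' = f ≫ iY) :
    IsPullback (iP iX iY f f' w) (pullback.fst f f) (pullback.fst f' f') iX := by
  -- outer rectangle
  have h1 : IsPullback (pullback.snd f f) (pullback.fst f f) f f :=
    (IsPullback.of_hasPullback f f).flip
  have h2 : IsPullback (pullback.snd f f ≫ iX) (pullback.fst f f) f' (f ≫ iY) :=
    h1.paste_horiz hXY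
  have h3 : IsPullback (pullback.snd f' f') (pullback.fst f' f') f' f' :=
    (IsPullback.of_hasPullback f' f').flip
  have e1 : iP iX iY f f' w ≫ pullback.snd f' f' = pullback.snd f f ≫ iX :=
    pullback.lift_snd _ _ _
  have e2 : iP iX iY f f' w ≫ pullback.fst f' f' = pullback.fst f f ≫ iX :=
    pullback.lift_fst _ _ _
  rw [← e1, ← w] at h2
  exact IsPullback.of_right h2 e2 h3

theorem diag_setup (hcX : IsPullback iX (f ≫ g) (f' ≫ g') iS) (hcY : IsPullback iY g g' iS)
    (w : iX ≫ f' = f ≫ iY) :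
    IsPullback iX (pullback.diagonal f ≫ (pullback.fst f f ≫ (f ≫ g)))
      (pullback.diagonal f' ≫ (pullback.fst f' f' ≫ (f' ≫ g'))) iS ∧
    IsPullback (iP iX iY f f' w) (pullback.fst f f ≫ (f ≫ g))
      (pullback.fst f' f' ≫ (f' ≫ g')) iS := by
  have hXY : IsPullback iX f f' iY := IsPullback.of_bot hcX w hcY
  refine ⟨?_, (isPullback_iP_fst hXY w).paste_vert hcX⟩
  rw [pullback.diagonal_fst_assoc, pullback.diagonal_fst_assoc]
  exact hcX

/-- the diagonal of `f'` is an open immersion if that of `f` is. -/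
theorem isOpenImmersion_diagonal (hS : MoreMor.IsThickening iS)
    (hcX : IsPullback iX (f ≫ g) (f' ≫ g') iS) (hcY : IsPullback iY g g' iS)
    (w : iX ≫ f' = f ≫ iY) [Flat (f' ≫ g')] [LocallyOfFinitePresentation (f' ≫ g')]
    [LocallyOfFiniteType g'] [IsOpenImmersion (pullback.diagonal f)] :
    IsOpenImmersion (pullback.diagonal f') := by
  obtain ⟨h1, h2⟩ := diag_setup hcX hcY w
  have : LocallyOfFinitePresentation f' := lfp_of_comp f' g'
  have e : pullback.diagonal f' ≫ (pullback.fst f' f' ≫ (f' ≫ g')) = f' ≫ g' := by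
    rw [pullback.diagonal_fst_assoc]
  have : Flat (pullback.diagonal f' ≫ (pullback.fst f' f' ≫ (f' ≫ g'))) := by
    rw [e]; infer_instance
  have : LocallyOfFinitePresentation
      (pullback.diagonal f' ≫ (pullback.fst f' f' ≫ (f' ≫ g'))) := by
    rw [e]; infer_instance
  have : LocallyOfFiniteType (pullback.fst f' f' ≫ (f' ≫ g')) := inferInstance
  exact isOpenImmersion_of_mono hS h1 h2 (diag_comm w)

theorem surjective_diagonal (hS : MoreMor.IsThickening iS)
    (hcX : IsPullback iX (f ≫ g) (f' ≫ g') iS) (hcY : IsPullback iY g g' iS)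
    (w : iX ≫ f' = f ≫ iY) [Surjective (pullback.diagonal f)] :
    Surjective (pullback.diagonal f') := by
  obtain ⟨h1, h2⟩ := diag_setup hcX hcY w
  have hP := thick_left h2 hS
  have := hP.2
  have h : Surjective (iX ≫ pullback.diagonal f') := by
    rw [diag_comm w]; infer_instance
  exact Surjective.of_comp iX (pullback.diagonal f')

end

end Groth.Agent.Lib.Helper54.DeformFp
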