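import Mathlib
import Groth.Prelude.Def_AlgSpMor5
import Groth.Prelude.Def_AlgSpInf
import Groth.Agent.Lib.Helper36.ThickFT
import Groth.Agent.Lib.Helper36.AlgSpHasAtMor
import Groth.Agent.Lib.Helper46.LocPChart
import Groth.Agent.Lib.Helper30.AlgSpEtaleMor
import Groth.Agent.Lib.Helper30.EtLocalInst
import Groth.Agent.Lib.Helper30.EtaleSourceSmooth
import Groth.Agent.Lib.Helper54.AlgSpFlatPt
import Groth.Agent.Lib.Helper54.DeformFp
import Groth.Agent.S1312
import Groth.Agent.S1314

/-!
# Deformation of local properties of morphisms of algebraic spaces along thickenings (helper54)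
-/

set_option autoImplicit false
universe u
open CategoryTheory CategoryTheory.Limits AlgebraicGeometry

namespace Groth.Agent.Lib.Helper54.AlgSpDeformFp

open AlgSp Groth.Agent.Lib.Helper79.AlgSpChart Groth.Agent.Lib.Helper37.AlgSpPoints
open Groth.Agent.Lib.Helper54.AlgSpFlatLocus Groth.Agent.Lib.Helper54.AlgSpFlatPt
open Groth.Agent.Lib.Helper46 Groth.Agent.Lib.Helper46.LocPChart

section Sch

variable {U U' V V' : Scheme.{u}} {k : U ⟶ V} {iU : U ⟶ U'} {jV : V ⟶ V'} {k' : U' ⟶ V'}

/-- smoothness deforms along a cartesian morphism of thickenings once flatness is known. -/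
theorem smooth_of_thick (sq : IsPullback k iU jV k') (hV : thick jV) [Flat k']
    [LocallyOfFinitePresentation k'] [Smooth k] : Smooth k' := by
  have := hV.1
  refine Smooth.of_smooth_fiberToSpecResidueField k' ?_
  intro y'
  obtain ⟨y, rfl⟩ := hV.2.surj y'
  obtain ⟨v, t, h⟩ := Groth.Agent.Lib.Helper54.DeformFp.exists_isPullback_fiber sq.flip y
  exact MorphismProperty.of_isPullback (P := @Smooth) h inferInstance

theorem lft_of_thick (sq : IsPullback k iU jV k') [LocallyOfFiniteType k'] :
    LocallyOfFiniteType k :=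
  MorphismProperty.of_isPullback (P := @LocallyOfFiniteType) sq.flip inferInstance

theorem unramified_of_thick (sq : IsPullback k iU jV k') (hV : thick jV)
    [LocallyOfFiniteType k'] [FormallyUnramified k] : FormallyUnramified k' := by
  have := lft_of_thick sq
  exact (Groth.Agent.S1314.result iU jV k k' hV sq.flip).1 inferInstance

theorem lqf_of_thick (sq : IsPullback k iU jV k') (hV : thick jV)
    [LocallyOfFiniteType k'] [LocallyQuasiFinite k] : LocallyQuasiFinite k' := by
  have := lft_of_thick sq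
  exact (Groth.Agent.S1312.result iU jV k k' hV sq.flip).1 inferInstance

theorem etale_of_thick (sq : IsPullback k iU jV k') (hV : thick jV) [Flat k']
    [LocallyOfFinitePresentation k'] [Etale k] : Etale k' := by
  have := unramified_of_thick sq hV
  exact Etale.of_formallyUnramified_of_flat k'

end Sch

variable {S : Scheme.{u}}

/-- The chart data for deformation along a thickening of the base (fp over ft setting). -/
theorem exists_deform_charts {X X' Y Y' B B' : Space S} (iX : X ⟶ X') (iY : Y ⟶ Y') (iB : B ⟶ B')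
    (f : X ⟶ Y) (f' : X' ⟶ Y') (g : Y ⟶ B) (g' : Y' ⟶ B')
    (hcX : IsPullback iX.hom (f ≫ g).hom (f' ≫ g').hom iB.hom)
    (hcY : IsPullback iY.hom g.hom g'.hom iB.hom)
    (w : iX ≫ f' = f ≫ iY) (hB : IsThickMor iB.hom)
    (hg' : LocP @LocallyOfFiniteType g'.hom)
    (hfp : LocP @LocallyOfFinitePresentation (f' ≫ g').hom) :
    ∃ (U' V' U V : Over S) (a' : (yon S).obj U' ⟶ X'.obj) (b' : (yon S).obj V' ⟶ Y'.obj)
      (k' : U' ⟶ V') (a : (yon S).obj U ⟶ X.obj) (b : (yon S).obj V ⟶ Y.obj) (k : U ⟶ V)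
      (iU : U ⟶ U') (jV : V ⟶ V'),
      (RepWith @Etale a' ∧ RepWith @Surjective a') ∧ RepWith @Etale b' ∧
      a' ≫ f'.hom = (yon S).map k' ≫ b' ∧
      (RepWith @Etale a ∧ RepWith @Surjective a) ∧ RepWith @Etale b ∧
      a ≫ f.hom = (yon S).map k ≫ b ∧
      IsPullback k.left iU.left jV.left k'.left ∧ thick iU.left ∧ thick jV.left ∧
      LocallyOfFinitePresentation k'.left ∧
      (∀ u : U.left, Points.map iX.hom (Points.ofPt a u) = Points.ofPt a' (iU.left u)) := by
  have hw : iX.hom ≫ f'.hom = f.hom ≫ iY.hom := congrArg (fun φ => φ.hom) w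
  have hXY : IsPullback iX.hom f.hom f'.hom iY.hom := IsPullback.of_bot hcX hw hcY
  have hiX : IsThickMor iX.hom :=
    MorphismProperty.of_isPullback (P := RepWith thick) hcX.flip hB
  have hiY : IsThickMor iY.hom :=
    MorphismProperty.of_isPullback (P := RepWith thick) hcY.flip hB
  obtain ⟨U', V', W', a', b', c, k', pW', ⟨ha', has'⟩, ⟨hb', hbs'⟩, ⟨hc, hcs⟩, comm1, comm2⟩ :=
    exists_atlas_tower f' g'
  have hfh : (f' ≫ g').hom = f'.hom ≫ g'.hom := rfl
  have comm3 : a' ≫ (f' ≫ g').hom = (yon S).map (k' ≫ pW') ≫ c := by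
    rw [hfh, ← Category.assoc, comm1, Category.assoc, comm2, Functor.map_comp, Category.assoc]
  have i2 : LocallyOfFinitePresentation (k'.left ≫ pW'.left) := hfp a' c (k' ≫ pW') ha' hc comm3
  have i3 : LocallyOfFiniteType pW'.left := hg' b' c pW' hb' hc comm2
  have i4 : LocallyOfFinitePresentation k'.left :=
    Groth.Agent.Lib.Helper54.CPF.lfp_of_comp k'.left pW'.left
  obtain ⟨U, V, a, b, k, iU, jV, hae, hbe, comm, sqa, sqb, sqk, hthU, hthV⟩ :=
    Groth.Agent.Lib.Helper36.ThickFT.exists_pullback_chart_diagram iX.hom iY.hom f.hom f'.hom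
      hiX hiY hXY a' b' k' ha' hb' comm1
  have has : RepWith @Surjective a :=
    MorphismProperty.of_isPullback (P := RepWith @Surjective) sqa.flip has'
  refine ⟨U', V', U, V, a', b', k', a, b, k, iU, jV, ⟨ha', has'⟩, hb', comm1, ⟨hae, has⟩, hbe,
    comm, sqk, hthU, hthV, i4, ?_⟩
  intro u
  rw [Points.map_ofPt, sqa.w, ofPt_map_comp]

end Groth.Agent.Lib.Helper54.AlgSpDeformFp
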