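import Mathlib
import Groth.Prelude.Def_AlgSpMor5
import Groth.Prelude.Def_AlgSpInf
import Groth.Agent.Lib.Helper23.AlgSpMor2
import Groth.Agent.Lib.Helper54.AlgSpFlatPt

/-!
# Affine chart towers at a point and their base change along a thickening (helper54)
-/

set_option autoImplicit false
universe u
open CategoryTheory CategoryTheory.Limits AlgebraicGeometry

namespace Groth.Agent.Lib.Helper54.AlgSpDeformTower

open AlgSp Groth.Agent.Lib.Helper79.AlgSpChart Groth.Agent.Lib.Helper37.AlgSpPoints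
open Groth.Agent.Lib.Helper54.AlgSpFlatLocus Groth.Agent.Lib.Helper54.AlgSpFlatPt
open Groth.Agent.Lib.Helper23.AlgSpMor

variable {S : Scheme.{u}}

/-- a chart tower `U ⟶ V ⟶ W` of `X ⟶ Y ⟶ Z` through a given point of `X`, with `W` affine. -/
theorem exists_affine_tower_at {X Y Z : Space S} (f : X ⟶ Y) (h : Y ⟶ Z) (x : Points X.obj) :
    ∃ (U V W : Over S) (a : (yon S).obj U ⟶ X.obj) (b : (yon S).obj V ⟶ Y.obj)
      (c : (yon S).obj W ⟶ Z.obj) (k : U ⟶ V) (pW : V ⟶ W) (u : U.left),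
      RepWith @Etale a ∧ RepWith @Etale b ∧ RepWith @Etale c ∧ IsAffine W.left ∧
      a ≫ f.hom = (yon S).map k ≫ b ∧ b ≫ h.hom = (yon S).map pW ≫ c ∧ Points.ofPt a u = x := by
  obtain ⟨W0, c0, hc0, hc0s⟩ := Z.property.atlas
  obtain ⟨V0, b0, hb0, hb0s⟩ := Y.property.atlas
  obtain ⟨U0, a0, ha0, ha0s⟩ := X.property.atlas
  obtain ⟨u0, rfl⟩ := ofPt_surjective a0 ha0s x
  obtain ⟨v0, hv0⟩ := ofPt_surjective b0 hb0s (Points.map f.hom (Points.ofPt a0 u0))
  obtain ⟨w0, hw0⟩ := ofPt_surjective c0 hc0s (Points.map h.hom (Points.ofPt b0 v0))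
  obtain ⟨_, ⟨O, hO, rfl⟩, hw0O, -⟩ :=
    W0.left.isBasis_affineOpens.exists_subset_of_mem_open (Set.mem_univ w0) isOpen_univ
  have hcO : RepWith @Etale ((yon S).map (overOpensι W0 O) ≫ c0) :=
    (RepWith @Etale).comp_mem _ _ (repWith_etale_overOpensι W0 O) hc0
  have hAff : IsAffine (overOpens W0 O).left := hO
  obtain ⟨V, pW, e, sqV, he⟩ := exists_pullback_chart @Etale hcO (b0 ≫ h.hom)
  have hb : RepWith @Etale ((yon S).map e ≫ b0) := repWith_map_comp @Etale _ he hb0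
  obtain ⟨U, k, e', sqU, he'⟩ := exists_pullback_chart @Etale hb (a0 ≫ f.hom)
  have ha : RepWith @Etale ((yon S).map e' ≫ a0) := repWith_map_comp @Etale _ he' ha0
  -- the point
  have h1 : Points.ofPt ((yon S).map (overOpensι W0 O) ≫ c0) (⟨w0, hw0O⟩ : ↥O) =
      Points.ofPt (b0 ≫ h.hom) v0 := by
    rw [ofPt_overOpensι_comp, ← Points.map_ofPt]
    exact hw0
  obtain ⟨v, hv1, hv2⟩ := (ofPt_eq_ofPt_iff sqV _ _).1 h1
  have h2 : Points.ofPt ((yon S).map e ≫ b0) v = Points.ofPt (a0 ≫ f.hom) u0 := by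
    rw [ofPt_map_comp, hv2, hv0, Points.map_ofPt]
  obtain ⟨u, hu1, hu2⟩ := (ofPt_eq_ofPt_iff sqU _ _).1 h2
  refine ⟨U, V, overOpens W0 O, _, _, _, k, pW, u, ha, hb, hcO, hAff, ?_, ?_, ?_⟩
  · rw [Category.assoc]; exact sqU.w.symm
  · rw [Category.assoc]; exact sqV.w.symm
  · rw [ofPt_map_comp, hu2]

/-- The chart data for deformation along a thickening of the base, through a given point, with an
affine chart of the base. -/
theorem exists_deform_tower_at {X X' Y Y' B B' : Space S} (iX : X ⟶ X') (iY : Y ⟶ Y') (iB : B ⟶ B')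
    (f : X ⟶ Y) (f' : X' ⟶ Y') (g : Y ⟶ B) (g' : Y' ⟶ B')
    (hcX : IsPullback iX.hom (f ≫ g).hom (f' ≫ g').hom iB.hom)
    (hcY : IsPullback iY.hom g.hom g'.hom iB.hom)
    (w : iX ≫ f' = f ≫ iY) (hB : IsThickMor iB.hom) (x' : Points X'.obj) :
    ∃ (U' V' W' U V W0 : Over S) (a' : (yon S).obj U' ⟶ X'.obj) (b' : (yon S).obj V' ⟶ Y'.obj)
      (c : (yon S).obj W' ⟶ B'.obj) (k' : U' ⟶ V') (p' : V' ⟶ W')
      (a : (yon S).obj U ⟶ X.obj) (b : (yon S).obj V ⟶ Y.obj) (c0 : (yon S).obj W0 ⟶ B.obj)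
      (k : U ⟶ V) (p : V ⟶ W0) (iU : U ⟶ U') (jV : V ⟶ V') (j : W0 ⟶ W') (u : U.left),
      RepWith @Etale a' ∧ RepWith @Etale b' ∧ RepWith @Etale c ∧ IsAffine W'.left ∧
      a' ≫ f'.hom = (yon S).map k' ≫ b' ∧ b' ≫ g'.hom = (yon S).map p' ≫ c ∧
      RepWith @Etale a ∧ RepWith @Etale b ∧ a ≫ f.hom = (yon S).map k ≫ b ∧
      IsPullback c0 ((yon S).map j) iB.hom c ∧
      IsPullback iU.left (k.left ≫ p.left) (k'.left ≫ p'.left) j.left ∧
      IsPullback jV.left p.left p'.left j.left ∧ iU.left ≫ k'.left = k.left ≫ jV.left ∧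
      Points.ofPt a' (iU.left u) = x' ∧
      Points.map iX.hom (Points.ofPt a u) = Points.ofPt a' (iU.left u) := by
  have hw : iX.hom ≫ f'.hom = f.hom ≫ iY.hom := congrArg (fun φ => φ.hom) w
  obtain ⟨U', V', W', a', b', c, k', p', u', ha', hb', hc, hAff, comm1, comm2, hu'⟩ :=
    exists_affine_tower_at f' g' x'
  have hfh' : (f' ≫ g').hom = f'.hom ≫ g'.hom := rfl
  have hfh : (f ≫ g).hom = f.hom ≫ g.hom := rfl
  have comm3 : a' ≫ (f' ≫ g').hom = (yon S).map (k' ≫ p') ≫ c := by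
    rw [hfh', ← Category.assoc, comm1, Category.assoc, comm2, Functor.map_comp, Category.assoc]
  obtain ⟨W0, c0, j, sqW⟩ : ∃ (W0 : Over S) (c0 : (yon S).obj W0 ⟶ B.obj) (j : W0 ⟶ W'),
      IsPullback c0 ((yon S).map j) iB.hom c := ⟨_, hB.rep.fst c, hB.rep.snd c, hB.rep.isPullback c⟩
  have hj : thick j.left := hB.property c c0 j sqW
  obtain ⟨V, jV, p, sqV⟩ : ∃ (V : Over S) (jV : V ⟶ V') (p : V ⟶ W0), IsPullback jV p p' j :=
    ⟨_, _, _, IsPullback.of_hasPullback p' j⟩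
  obtain ⟨U, iU, rU, sqU⟩ : ∃ (U : Over S) (iU : U ⟶ U') (rU : U ⟶ W0),
      IsPullback iU rU (k' ≫ p') j := ⟨_, _, _, IsPullback.of_hasPullback (k' ≫ p') j⟩
  obtain ⟨k, hk1, hk2⟩ : ∃ k : U ⟶ V, k ≫ jV = iU ≫ k' ∧ k ≫ p = rU :=
    ⟨sqV.lift (iU ≫ k') rU (by rw [Category.assoc]; exact sqU.w), sqV.lift_fst _ _ _,
      sqV.lift_snd _ _ _⟩
  -- sheaf level
  have sV : IsPullback ((yon S).map jV) ((yon S).map p ≫ c0) (b' ≫ g'.hom) iB.hom := by
    have := (sqV.map (yon S)).paste_vert sqW.flip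
    rw [← comm2] at this
    exact this
  have sU : IsPullback ((yon S).map iU) ((yon S).map rU ≫ c0) (a' ≫ (f' ≫ g').hom) iB.hom := by
    have := (sqU.map (yon S)).paste_vert sqW.flip
    rw [← comm3] at this
    exact this
  obtain ⟨b, hb1, hb2⟩ : ∃ b : (yon S).obj V ⟶ Y.obj,
      b ≫ iY.hom = (yon S).map jV ≫ b' ∧ b ≫ g.hom = (yon S).map p ≫ c0 :=
    ⟨hcY.lift _ _ (by rw [Category.assoc]; exact sV.w), hcY.lift_fst _ _ _, hcY.lift_snd _ _ _⟩
  obtain ⟨a, ha1, ha2⟩ : ∃ a : (yon S).obj U ⟶ X.obj,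
      a ≫ iX.hom = (yon S).map iU ≫ a' ∧ a ≫ (f ≫ g).hom = (yon S).map rU ≫ c0 :=
    ⟨hcX.lift _ _ (by rw [Category.assoc]; exact sU.w), hcX.lift_fst _ _ _, hcX.lift_snd _ _ _⟩
  have sqb : IsPullback b ((yon S).map jV) iY.hom b' := by
    refine IsPullback.of_right ?_ hb1 hcY.flip
    rw [hb2]
    exact sV.flip
  have sqa : IsPullback a ((yon S).map iU) iX.hom a' := by
    refine IsPullback.of_right (h₁₂ := (f ≫ g).hom) (h₂₂ := (f' ≫ g').hom) ?_ ha1 hcX.flip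
    rw [ha2]
    exact sU.flip
  have hbe : RepWith @Etale b := MorphismProperty.of_isPullback (P := RepWith @Etale) sqb.flip hb'
  have hae : RepWith @Etale a := MorphismProperty.of_isPullback (P := RepWith @Etale) sqa.flip ha'
  have comm : a ≫ f.hom = (yon S).map k ≫ b := by
    apply hcY.hom_ext
    · rw [Category.assoc, ← hw, ← Category.assoc, ha1, Category.assoc, comm1, Category.assoc, hb1,
        ← Category.assoc, ← Category.assoc, ← Functor.map_comp, ← Functor.map_comp, hk1]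
    · rw [Category.assoc, ← hfh, ha2, Category.assoc, hb2, ← Category.assoc, ← Functor.map_comp, hk2]
  -- scheme level
  have sqVs : IsPullback jV.left p.left p'.left j.left := sqV.map (Over.forget S)
  have sqUs : IsPullback iU.left (k.left ≫ p.left) (k'.left ≫ p'.left) j.left := by
    have := sqU.map (Over.forget S)
    rw [← hk2] at this
    exact this
  have ws : iU.left ≫ k'.left = k.left ≫ jV.left := by
    rw [← Over.comp_left, ← hk1, Over.comp_left]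
  have hiUs : Surjective iU.left :=
    MorphismProperty.of_isPullback (P := @Surjective) sqUs.flip hj.2
  obtain ⟨u, rfl⟩ := hiUs.surj u'
  refine ⟨U', V', W', U, V, W0, a', b', c, k', p', a, b, c0, k, p, iU, jV, j, u, ha', hb', hc, hAff,
    comm1, comm2, hae, hbe, comm, sqW, sqUs, sqVs, ws, hu', ?_⟩
  rw [Points.map_ofPt, ha1, ofPt_map_comp]

end Groth.Agent.Lib.Helper54.AlgSpDeformTower
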