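import Mathlib
import Groth.Prelude.Def_AlgSp4
import Groth.Prelude.Def_AlgSpMor5
import Groth.Agent.Lib.Helper79.AlgSpChart
import Groth.Agent.Lib.Helper37.AlgSpPoints
import Groth.Agent.Lib.Helper54.AlgSpFlatLocus
import Groth.Agent.Lib.Helper54.AlgSpFlatPt

/-!
# The image of the flat locus is open (helper54)
-/

set_option autoImplicit false
universe u
open CategoryTheory CategoryTheory.Limits AlgebraicGeometry

namespace Groth.Agent.Lib.Helper54.AlgSpFlatImage

open AlgSp Groth.Agent.Lib.Helper79.AlgSpChart Groth.Agent.Lib.Helper37.AlgSpPoints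
open Groth.Agent.Lib.Helper54.AlgSpFlatLocus Groth.Agent.Lib.Helper54.AlgSpFlatPt

variable {S : Scheme.{u}}

/-- scheme level: the image of the flat locus of a morphism locally of finite presentation is
open. -/
theorem isOpen_image_flat {A B : Scheme.{u}} (k : A ⟶ B) [LocallyOfFinitePresentation k] :
    IsOpen (k '' {x : A | (k.stalkMap x).hom.Flat}) := by
  let U : A.Opens := ⟨{x | (k.stalkMap x).hom.Flat},
    Groth.Agent.Lib.Helper55.FL.isOpen_stalkMap_flat k⟩
  have hU : Flat (U.ι ≫ k) := by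
    refine Flat.of_stalkMap _ fun u => ?_
    rw [Scheme.Hom.stalkMap_comp]
    exact RingHom.Flat.comp (u.2 : (k.stalkMap (U.ι u)).hom.Flat) (Flat.stalkMap U.ι u)
  have hopen : IsOpenMap (U.ι ≫ k) := (U.ι ≫ k).isOpenMap
  have := hopen.isOpen_range
  convert this using 1
  ext y
  constructor
  · rintro ⟨x, hx, rfl⟩
    exact ⟨⟨x, hx⟩, rfl⟩
  · rintro ⟨u, rfl⟩
    exact ⟨U.ι u, u.2, rfl⟩

theorem isOpen_image_flatLocus {X Y Z : Space S} (f : X ⟶ Y) (h : Y ⟶ Z)
    (hfp : LocP @LocallyOfFinitePresentation (f ≫ h).hom)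
    (hft : LocP @LocallyOfFiniteType h.hom) :
    IsOpen (Points.map f.hom '' {x : Points X.obj | IsFlatAtMor f.hom x}) := by
  obtain ⟨U, V, W, a, b, c, k, pW, ⟨ha, has⟩, ⟨hb, hbs⟩, ⟨hc, hcs⟩, comm1, comm2⟩ :=
    exists_atlas_tower f h
  have hfh : (f ≫ h).hom = f.hom ≫ h.hom := rfl
  have comm3 : a ≫ (f ≫ h).hom = (yon S).map (k ≫ pW) ≫ c := by
    rw [hfh, ← Category.assoc, comm1, Category.assoc, comm2, Functor.map_comp, Category.assoc]
  have h2 : LocallyOfFinitePresentation (k.left ≫ pW.left) := hfp a c (k ≫ pW) ha hc comm3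
  have h3 : LocallyOfFiniteType pW.left := hft b c pW hb hc comm2
  have h4 : LocallyOfFinitePresentation k.left :=
    Groth.Agent.Lib.Helper54.CPF.lfp_of_comp k.left pW.left
  have hpre : Points.ofPt a ⁻¹' {x | IsFlatAtMor f.hom x} = {u | (k.left.stalkMap u).hom.Flat} := by
    ext u
    constructor
    · intro hu
      exact hu a b k u ha hb comm1 rfl
    · intro hu
      exact isFlatAtMor_of_chart f.hom a b k ha hb comm1 u hu
  have himg : Points.map f.hom '' {x | IsFlatAtMor f.hom x} =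
      Points.ofPt b '' (k.left '' {u | (k.left.stalkMap u).hom.Flat}) := by
    rw [← hpre]
    ext y
    constructor
    · rintro ⟨x, hx, rfl⟩
      obtain ⟨u, rfl⟩ := ofPt_surjective a has x
      refine ⟨k.left u, ⟨u, hx, rfl⟩, ?_⟩
      rw [Points.map_ofPt, comm1, ofPt_map_comp]
    · rintro ⟨_, ⟨u, hu, rfl⟩, rfl⟩
      refine ⟨Points.ofPt a u, hu, ?_⟩
      rw [Points.map_ofPt, comm1, ofPt_map_comp]
  rw [himg]
  exact isOpenMap_ofPt b hb _ (isOpen_image_flat k.left)

/-- the image of the flat locus commutes with base change. -/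
theorem image_flatLocus_baseChange {X Y Z X' Y' Z' : Space S} (f : X ⟶ Y) (h : Y ⟶ Z)
    (hfp : LocP @LocallyOfFinitePresentation (f ≫ h).hom) (hfl : LocP @Flat (f ≫ h).hom)
    (hft : LocP @LocallyOfFiniteType h.hom)
    (g : Z' ⟶ Z) (f' : X' ⟶ Y') (h' : Y' ⟶ Z') (pX : X' ⟶ X) (pY : Y' ⟶ Y)
    (hY' : IsPullback pY.hom h'.hom h.hom g.hom) (hX' : IsPullback pX.hom f'.hom f.hom pY.hom) :
    Points.map f'.hom '' {x' : Points X'.obj | IsFlatAtMor f'.hom x'} =
      Points.map pY.hom ⁻¹' (Points.map f.hom '' {x : Points X.obj | IsFlatAtMor f.hom x}) := by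
  have hloc := flatLocus_baseChange f h hfp hfl hft g f' h' pX pY hY' hX'
  ext y'
  constructor
  · rintro ⟨x', hx', rfl⟩
    rw [hloc] at hx'
    refine ⟨Points.map pX.hom x', hx', ?_⟩
    rw [← Points.map_comp, ← Points.map_comp, hX'.w]
  · rintro ⟨x, hx, hxy⟩
    obtain ⟨x', hx'1, hx'2⟩ := points_exists_of_isPullback hX' x y' hxy
    refine ⟨x', ?_, hx'2⟩
    rw [hloc]
    show Points.map pX.hom x' ∈ {x | IsFlatAtMor f.hom x}
    rw [hx'1]
    exact hx

end Groth.Agent.Lib.Helper54.AlgSpFlatImage
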