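import Mathlib

/-!
# Flat modules over local rings with nilpotent maximal ideal are free (no finiteness)

Nakayama for a nilpotent ideal needs no finiteness hypothesis; with Mathlib's
`IsLocalRing.linearIndependent_of_flat` this gives freeness of arbitrary flat modules over a local
ring whose maximal ideal is nilpotent (e.g. a local Artinian ring).
-/

set_option autoImplicit false
universe u v

open TensorProduct IsLocalRing Module

namespace Groth.Agent.Lib.Helper54.ArtinFlat

section Nak

variable {R : Type*} [CommRing R] {M : Type*} [AddCommGroup M] [Module R M]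

/-- Nakayama for a nilpotent ideal, no finiteness needed. -/
theorem eq_top_of_sup_smul_eq_top_of_isNilpotent (I : Ideal R) (hI : IsNilpotent I)
    (N : Submodule R M) (h : N ⊔ I • (⊤ : Submodule R M) = ⊤) : N = ⊤ := by
  obtain ⟨n, hn⟩ := hI
  have key : ∀ k : ℕ, N ⊔ (I ^ k) • (⊤ : Submodule R M) = ⊤ := by
    intro k
    induction k with
    | zero => simp
    | succ k ih =>
      rw [eq_top_iff]
      calc (⊤ : Submodule R M) = N ⊔ (I ^ k) • (⊤ : Submodule R M) := ih.symm
        _ ≤ N ⊔ (I ^ (k + 1)) • (⊤ : Submodule R M) := by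
          refine sup_le le_sup_left ?_
          calc (I ^ k) • (⊤ : Submodule R M)
              = (I ^ k) • (N ⊔ I • (⊤ : Submodule R M)) := by rw [h]
            _ = (I ^ k) • N ⊔ (I ^ k) • (I • (⊤ : Submodule R M)) := Submodule.smul_sup _ _ _
            _ ≤ N ⊔ (I ^ (k + 1)) • (⊤ : Submodule R M) := by
              refine sup_le_sup Submodule.smul_le_right ?_
              rw [← Submodule.mul_smul, pow_succ]
  have := key n
  rw [hn] at this
  simpa using this

end Nak

section Local

variable {R : Type*} [CommRing R] [IsLocalRing R] {M : Type*} [AddCommGroup M] [Module R M]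

local notation "k" => ResidueField R
local notation "𝔪" => maximalIdeal R

theorem map_mkQ_eq_top (hnil : IsNilpotent 𝔪) {N : Submodule R M}
    (hN : N.map (Submodule.mkQ (𝔪 • (⊤ : Submodule R M))) = ⊤) : N = ⊤ := by
  apply eq_top_of_sup_smul_eq_top_of_isNilpotent 𝔪 hnil
  have := congrArg (Submodule.comap (Submodule.mkQ (𝔪 • (⊤ : Submodule R M)))) hN
  rw [Submodule.comap_map_eq, Submodule.ker_mkQ, Submodule.comap_top] at this
  exact this

theorem map_tensorProduct_mk_eq_top (hnil : IsNilpotent 𝔪) {N : Submodule R M}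
    (hN : N.map (TensorProduct.mk R k M 1) = ⊤) : N = ⊤ := by
  let : Module k (M ⧸ (𝔪 • ⊤ : Submodule R M)) :=
    inferInstanceAs (Module (R ⧸ 𝔪) (M ⧸ 𝔪 • (⊤ : Submodule R M)))
  let : IsScalarTower R k (M ⧸ (𝔪 • ⊤ : Submodule R M)) :=
    inferInstanceAs (IsScalarTower R (R ⧸ 𝔪) (M ⧸ 𝔪 • (⊤ : Submodule R M)))
  let f := AlgebraTensorModule.lift (((LinearMap.ringLmapEquivSelf k k _).symm
    (Submodule.mkQ (𝔪 • ⊤ : Submodule R M))).restrictScalars R)
  have : f.comp (TensorProduct.mk R k M 1) = Submodule.mkQ (𝔪 • ⊤) := by ext; simp [f]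
  have hf : Function.Surjective f := by
    intro x; obtain ⟨x, rfl⟩ := Submodule.mkQ_surjective _ x
    rw [← this, LinearMap.comp_apply]; exact ⟨_, rfl⟩
  apply_fun Submodule.map f at hN
  rw [← Submodule.map_comp, this, Submodule.map_top, LinearMap.range_eq_top.2 hf] at hN
  exact map_mkQ_eq_top hnil hN

theorem span_eq_top_of_tmul_eq_basis (hnil : IsNilpotent 𝔪) {ι : Type*}
    (f : ι → M) (b : Basis ι k (k ⊗[R] M))
    (hb : ∀ i, (1 : k) ⊗ₜ[R] f i = b i) : Submodule.span R (Set.range f) = ⊤ := by
  apply map_tensorProduct_mk_eq_top hnil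
  rw [Submodule.map_span, ← Submodule.restrictScalars_span R k
    Ideal.Quotient.mk_surjective, Submodule.restrictScalars_eq_top_iff,
    ← b.span_eq, ← Set.range_comp]
  simp only [Function.comp_def, mk_apply, hb, Basis.span_eq]

end Local

/-- A flat module over a local ring with nilpotent maximal ideal is free. -/
theorem free_of_flat_of_isNilpotent_maximalIdeal {R : Type u} [CommRing R] [IsLocalRing R]
    (hnil : IsNilpotent (maximalIdeal R)) (P : Type v) [AddCommGroup P] [Module R P]
    [Module.Flat R P] : Module.Free R P :=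
  let w := Free.chooseBasis (ResidueField R) (ResidueField R ⊗[R] P)
  have ⟨v, eq⟩ := (TensorProduct.mk_surjective R P (ResidueField R)
    Ideal.Quotient.mk_surjective).comp_left w
  .of_basis <| .mk (IsLocalRing.linearIndependent_of_flat _ (eq ▸ w.linearIndependent)) <| by
    exact (span_eq_top_of_tmul_eq_basis hnil _ w <| congr_fun eq).ge

end Groth.Agent.Lib.Helper54.ArtinFlat

namespace Groth.Agent.Lib.Helper54.ArtinFlat

/-- A flat module over an Artinian ring with a single prime is free. -/
theorem free_of_flat_of_isArtinianRing_of_subsingleton (B : Type u) [CommRing B] [IsArtinianRing B]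
    [Nontrivial B] [Subsingleton (PrimeSpectrum B)] (M : Type v) [AddCommGroup M] [Module B M]
    [Module.Flat B M] : Module.Free B M := by
  haveI : Subsingleton (MaximalSpectrum B) :=
    (MaximalSpectrum.toPrimeSpectrum_injective).subsingleton
  haveI : IsLocalRing B := .of_singleton_maximalSpectrum
  exact free_of_flat_of_isNilpotent_maximalIdeal
    ((isArtinianRing_iff_isNilpotent_maximalIdeal B).mp inferInstance) M

end Groth.Agent.Lib.Helper54.ArtinFlat
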