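import Mathlib
import Groth.Agent.Lib.Helper6.LocalFlat2

/-!
# Fibre criterion of flatness for modules over Noetherian local rings (helper54)
-/

set_option autoImplicit false
set_option linter.style.haveILetI false
universe u

open TensorProduct

namespace Groth.Agent.Lib.Helper54.CPF

section

variable {A M : Type u} [CommRing A] [AddCommGroup M] [Module A M] (I : Ideal A)

/-- `(A/I) ⊗_A M ≃ M / I M` as `A/I`-modules. -/
noncomputable def quotTensorEquivQuot :
    ((A ⧸ I) ⊗[A] M) ≃ₗ[A ⧸ I] (M ⧸ (I • ⊤ : Submodule A M)) :=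
  LinearEquiv.extendScalarsOfSurjective Ideal.Quotient.mk_surjective
    (TensorProduct.quotTensorEquivQuotSMul M I)

theorem flat_quot_iff :
    Module.Flat (A ⧸ I) (M ⧸ (I • ⊤ : Submodule A M)) ↔
      Module.Flat (A ⧸ I) ((A ⧸ I) ⊗[A] M) :=
  ⟨fun _ => Module.Flat.of_linearEquiv (quotTensorEquivQuot I),
    fun _ => Module.Flat.of_linearEquiv (quotTensorEquivQuot I).symm⟩

end

section

variable {R A B M : Type u} [CommRing R] [CommRing A] [CommRing B] [IsLocalRing R]
  [IsLocalRing A] [IsLocalRing B] [IsNoetherianRing A] [IsNoetherianRing B]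
  (γ : R →+* A) (φ : A →+* B) [IsLocalHom γ] [IsLocalHom φ]
  [AddCommGroup M] [Module B M] [Module.Finite B M] [Nontrivial M]
  [Module A M] [Module R M]

theorem cpf_module_noeth (hA : ∀ (a : A) (m : M), a • m = φ a • m)
    (hR : ∀ (r : R) (m : M), r • m = φ (γ r) • m) :
    (Module.Flat R M ∧
      Module.Flat (A ⧸ Ideal.map γ (IsLocalRing.maximalIdeal R))
        (M ⧸ (Ideal.map γ (IsLocalRing.maximalIdeal R) • ⊤ : Submodule A M))) ↔
    (γ.Flat ∧ Module.Flat A M) := by
  letI : Algebra R A := γ.toAlgebra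
  letI : Algebra A B := φ.toAlgebra
  haveI : IsLocalHom (algebraMap R A) := ‹IsLocalHom γ›
  haveI : IsLocalHom (algebraMap A B) := ‹IsLocalHom φ›
  haveI t1 : IsScalarTower A B M := ⟨fun a b m => by
    rw [hA, Algebra.smul_def, mul_smul]; rfl⟩
  haveI t2 : IsScalarTower R A M := ⟨fun r a m => by
    rw [hR, hA, hA, Algebra.smul_def, map_mul, mul_smul]; rfl⟩
  rw [flat_quot_iff]
  constructor
  · rintro ⟨h1, h2⟩
    haveI := h1
    have hM : Module.Flat A M :=
      Groth.Agent.Lib.Helper6.LocalFlat.flat_of_fibre (R := R) (S := A) B (M := M) h2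
    haveI := hM
    haveI : Module.FaithfullyFlat A M :=
      Groth.Agent.Lib.Helper6.LocalFlat.faithfullyFlat_of_flat_of_finite (S := A) B (M := M)
    have hRA : Module.Flat R A :=
      Groth.Agent.Lib.Helper6.LocalFlat.flat_of_faithfullyFlat_of_flat (R := R) (S := A) (M := M)
    exact ⟨hRA, hM⟩
  · rintro ⟨h1, h2⟩
    haveI : Module.Flat R A := h1
    haveI := h2
    exact ⟨Module.Flat.trans R A M, inferInstance⟩

end

end Groth.Agent.Lib.Helper54.CPF
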