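import Mathlib
import Groth.Prelude.Def_MoreMor
import Groth.Agent.Lib.Helper6.LocalFlat2
import Groth.Agent.Lib.Helper54.CPFScheme

/-!
# Critère de platitude par fibres, locally Noetherian schemes (helper54)
-/

set_option autoImplicit false
set_option linter.style.haveILetI false
universe u

open CategoryTheory CategoryTheory.Limits AlgebraicGeometry TensorProduct

namespace Groth.Agent.Lib.Helper54.CPF

open Groth.Agent.Lib.Helper67.FiberTower

section local_

variable {C A B : Type u} [CommRing C] [CommRing A] [CommRing B] [IsLocalRing C] [IsLocalRing A]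
  [IsLocalRing B] [IsNoetherianRing A] [IsNoetherianRing B]
  (γ : C →+* A) (φ : A →+* B) [IsLocalHom γ] [IsLocalHom φ]

theorem cpf_abstract_noeth (h1 : (φ.comp γ).Flat) (h2 : (φ' γ φ).Flat) : φ.Flat := by
  letI : Algebra C A := γ.toAlgebra
  letI : Algebra A B := φ.toAlgebra
  letI : Algebra C B := (φ.comp γ).toAlgebra
  haveI : IsScalarTower C A B := IsScalarTower.of_algebraMap_eq fun _ => rfl
  haveI : IsLocalHom (algebraMap C A) := ‹IsLocalHom γ›
  haveI : IsLocalHom (algebraMap A B) := ‹IsLocalHom φ›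
  haveI : Module.Flat C B := h1
  have key : ∀ (J : Ideal B) (hJ : (IA γ).map φ = J) (hle : IA γ ≤ J.comap φ),
      (Ideal.quotientMap J φ hle).Flat → Module.Flat (A ⧸ IA γ) ((A ⧸ IA γ) ⊗[A] B) := by
    intro J hJ hle h
    subst hJ
    let e := Algebra.TensorProduct.quotIdealMapEquivQuotTensor B (IA γ)
    have h' := RingHom.Flat.respectsIso.1 _ e.toRingEquiv h
    have he : e.toRingEquiv.toRingHom.comp (Ideal.quotientMap ((IA γ).map φ) φ hle) =
        algebraMap (A ⧸ IA γ) ((A ⧸ IA γ) ⊗[A] B) := RingHom.ext fun x => e.commutes x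
    rw [he] at h'
    exact RingHom.flat_algebraMap_iff.1 h'
  have h3 := key (IB γ φ) (IA_map γ φ) (IA_le_comap γ φ) h2
  exact Groth.Agent.Lib.Helper6.LocalFlat.flat_of_fibre (R := C) (S := A) B (M := B) h3

end local_

variable {X Y S : Scheme.{u}} (f : X ⟶ Y) (g : Y ⟶ S)

theorem stalk_cpf_noeth [IsLocallyNoetherian X] [IsLocallyNoetherian Y] (x : X)
    (h1 : ((f ≫ g).stalkMap x).hom.Flat)
    (h2 : (φ' (g.stalkMap (f x)).hom (f.stalkMap x).hom).Flat) :
    (f.stalkMap x).hom.Flat := by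
  have h1' : ((f.stalkMap x).hom.comp (g.stalkMap (f x)).hom).Flat := by
    have h := h1
    rw [Scheme.Hom.stalkMap_comp] at h
    exact h
  exact cpf_abstract_noeth (g.stalkMap (f x)).hom (f.stalkMap x).hom h1' h2

theorem cpf_pointwise_noeth [IsLocallyNoetherian X] [IsLocallyNoetherian Y] (x : X)
    (h1 : ((f ≫ g).stalkMap x).hom.Flat)
    (h2 : ((MoreMor.fiberMap f g (g (f x))).stalkMap ((f ≫ g).asFiber x)).hom.Flat) :
    (f.stalkMap x).hom.Flat :=
  stalk_cpf_noeth f g x h1 ((fiberMap_stalkMap_flat_iff f g x).1 h2)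

end Groth.Agent.Lib.Helper54.CPF
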