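import Mathlib
import Groth.Agent.Lib.Helper54.GrassClosed

/-!
# Closed conditions on an arbitrary functor of points (helper54)

Abstract version of `GrassClosed.exists_closed`: a condition `P` on points of the Grassmannian
functor which is cut out by ideals `J` (in the sense `P (map φ N) ↔ J N ≤ ker φ`) is represented
by a closed subscheme of any scheme representing the Grassmannian functor.
-/

set_option autoImplicit false
set_option linter.style.haveILetI false
universe u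

open AlgebraicGeometry CategoryTheory Module TensorProduct Opposite
open Groth.Agent.Lib.Helper54.GrassClosedAlg Groth.Agent.Lib.Helper54.GrassClosed

namespace Groth.Agent.Lib.Helper54.ClosedFun

variable {R : Type u} [CommRing R] (X : Over (Spec (CommRingCat.of R)))

section Grass

variable {X} (F : CommAlgCat.{u} R → Type u)
  (Fmap : ∀ {A B : CommAlgCat.{u} R}, (A ⟶ B) → F A → F B)
  (Fcomp : ∀ {A B C : CommAlgCat.{u} R} (φ : A ⟶ B) (ψ : B ⟶ C) (x : F A),
    Fmap (φ ≫ ψ) x = Fmap ψ (Fmap φ x))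
  (P : ∀ A : CommAlgCat.{u} R, F A → Prop)
  (J : ∀ A : CommAlgCat.{u} R, F A → Ideal A)
  (hPJ : ∀ (A C : CommAlgCat.{u} R) (x : F A) (φ : A ⟶ C),
      P C (Fmap φ x) ↔ J A x ≤ RingHom.ker φ.hom)
  (e : ∀ A : CommAlgCat.{u} R, (SA A ⟶ X) → F A)
  (he : ∀ (A B : CommAlgCat.{u} R) (φ : A ⟶ B) (g : SA A ⟶ X) (g' : SA B ⟶ X),
    g'.left = Spec.map (CommRingCat.ofHom φ.hom.toRingHom) ≫ g.left →
    e B g' = Fmap φ (e A g))

/-- The ideal attached to a point. -/
noncomputable def ptIdeal {A : CommAlgCat.{u} R} (g : SA A ⟶ X) : Ideal A :=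
  J A (e A g)

include hPJ he in
theorem pt_char {A B : CommAlgCat.{u} R} (φ : A ⟶ B) (g : SA A ⟶ X) (g' : SA B ⟶ X)
    (h : g'.left = Spec.map (CommRingCat.ofHom φ.hom.toRingHom) ≫ g.left) :
    P B (e B g') ↔ ptIdeal F J e g ≤ RingHom.ker φ.hom := by
  rw [he A B φ g g' h]
  exact hPJ A B (e A g) φ

include hPJ he in
theorem stab_iff_ptIdeal_eq_bot {A : CommAlgCat.{u} R} (g : SA A ⟶ X) :
    P A (e A g) ↔ ptIdeal F J e g = ⊥ := by
  have h : g.left = Spec.map (CommRingCat.ofHom (𝟙 A : A ⟶ A).hom.toRingHom) ≫ g.left := by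
    have : CommRingCat.ofHom (𝟙 A : A ⟶ A).hom.toRingHom = 𝟙 (CommRingCat.of A) := rfl
    rw [this, Spec.map_id, Category.id_comp]
  rw [pt_char F Fmap P J hPJ e he (𝟙 A) g g h, ← le_bot_iff]
  have : RingHom.ker (𝟙 A : A ⟶ A).hom = ⊥ := by
    ext x
    simp [RingHom.mem_ker]
  rw [this]

include hPJ he in
theorem ptIdeal_le_iff {A : CommAlgCat.{u} R} (g : SA A ⟶ X) (W : X.left.Opens)
    (hW : IsAffineOpen W) (V : (SA A).left.Opens) (hV : IsAffineOpen V) (h : V ≤ g.left ⁻¹ᵁ W) :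
    ptIdeal F J e (gW X W hW) ≤ RingHom.ker (psi g W V h).hom ↔
      ptIdeal F J e g ≤ RingHom.ker (rho A V).hom := by
  rw [← pt_char F Fmap P J hPJ e he (psi g W V h) (gW X W hW) (gW (SA A) V hV ≫ g)
      (comp_left_eq_psi g W hW V hV h),
    ← pt_char F Fmap P J hPJ e he (rho A V) g (gW (SA A) V hV ≫ g) (comp_left_eq_rho g V hV)]

include Fcomp hPJ he in
theorem ptIdeal_map_res {W W' : X.left.Opens} (h : W' ≤ W) (hW : IsAffineOpen W)
    (hW' : IsAffineOpen W') :
    (ptIdeal F J e (gW X W hW)).map (resAW X h).hom.toRingHom = ptIdeal F J e (gW X W' hW') := by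
  apply ideal_eq_of_forall_ker (R := R) (A := AW X W')
  intro C _ _ φ
  let Cc : CommAlgCat.{u} R := CommAlgCat.of R C
  let φc : AW X W' ⟶ Cc := CommAlgCat.ofHom (R := R) (X := AW X W') (Y := Cc) φ
  have hN : e (AW X W') (gW X W' hW') = Fmap (resAW X h) (e (AW X W) (gW X W hW)) :=
    he _ _ (resAW X h) _ _ (gW_res X h hW hW')
  rw [Ideal.map_le_iff_le_comap]
  have hk : Ideal.comap (resAW X h).hom.toRingHom (RingHom.ker φ) =
      RingHom.ker (resAW X h ≫ φc).hom := by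
    ext x
    rw [Ideal.mem_comap, RingHom.mem_ker, RingHom.mem_ker]
    rfl
  have h1 := hPJ (AW X W) Cc (e (AW X W) (gW X W hW)) (resAW X h ≫ φc)
  have h2 := hPJ (AW X W') Cc (e (AW X W') (gW X W' hW')) φc
  rw [hk, ptIdeal, ptIdeal, ← h1]
  change _ ↔ J (AW X W') (e (AW X W') (gW X W' hW')) ≤ RingHom.ker φc.hom
  rw [← h2, hN, Fcomp]

/-- The ideal sheaf of the stable locus. -/
noncomputable def stabSheaf : X.left.IdealSheafData where
  ideal W := ptIdeal F J e (gW X W.1 W.2)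
  map_ideal_basicOpen W f :=
    ptIdeal_map_res F Fmap Fcomp P J hPJ e he (X.left.basicOpen_le f) W.2
      (X.left.affineBasicOpen f).2

end Grass

section Main

variable {X} (F : CommAlgCat.{u} R → Type u)
  (Fmap : ∀ {A B : CommAlgCat.{u} R}, (A ⟶ B) → F A → F B)
  (Fcomp : ∀ {A B C : CommAlgCat.{u} R} (φ : A ⟶ B) (ψ : B ⟶ C) (x : F A),
    Fmap (φ ≫ ψ) x = Fmap ψ (Fmap φ x))
  (P : ∀ A : CommAlgCat.{u} R, F A → Prop)
  (J : ∀ A : CommAlgCat.{u} R, F A → Ideal A)
  (hPJ : ∀ (A C : CommAlgCat.{u} R) (x : F A) (φ : A ⟶ C),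
      P C (Fmap φ x) ↔ J A x ≤ RingHom.ker φ.hom)
  (e : ∀ A : CommAlgCat.{u} R, (SA A ⟶ X) → F A)
  (he : ∀ (A B : CommAlgCat.{u} R) (φ : A ⟶ B) (g : SA A ⟶ X) (g' : SA B ⟶ X),
    g'.left = Spec.map (CommRingCat.ofHom φ.hom.toRingHom) ≫ g.left →
    e B g' = Fmap φ (e A g))

include hPJ he in
theorem stab_of_le {A : CommAlgCat.{u} R} (g : SA A ⟶ X)
    (H : ∀ W : X.left.affineOpens,
      ptIdeal F J e (gW X W.1 W.2) ≤ RingHom.ker (g.left.app W.1).hom) :
    P A (e A g) := by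
  rw [stab_iff_ptIdeal_eq_bot F Fmap P J hPJ e he, eq_bot_iff]
  intro s hs
  rw [Ideal.mem_bot]
  have hinj : Function.Injective (Scheme.ΓSpecIso (CommRingCat.of A)).inv.hom :=
    ((Scheme.ΓSpecIso (CommRingCat.of A)).symm.commRingCatIsoToRingEquiv).injective
  apply hinj
  rw [map_zero]
  apply section_eq_zero_of_locally
  intro x _
  obtain ⟨W, hW, hxW, -⟩ :=
    exists_isAffineOpen_mem_and_subset (x := g.left x) (U := (⊤ : X.left.Opens)) trivial
  obtain ⟨V, hV, hxV, hVW⟩ :=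
    exists_isAffineOpen_mem_and_subset (x := x) (U := g.left ⁻¹ᵁ W) hxW
  refine ⟨V, le_top, hxV, ?_⟩
  have h1 : ptIdeal F J e (gW X W hW) ≤ RingHom.ker (psi g W V hVW).hom := by
    refine (H ⟨W, hW⟩).trans ?_
    intro y hy
    have hy' : (g.left.app W).hom y = 0 := hy
    change (g.left.appLE W V hVW).hom y = 0
    rw [Scheme.Hom.appLE, CommRingCat.hom_comp, RingHom.comp_apply, hy', map_zero]
  exact (ptIdeal_le_iff F Fmap P J hPJ e he g W hW V hV hVW).mp h1 hs

include hPJ he in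
theorem le_of_stab {A : CommAlgCat.{u} R} (g : SA A ⟶ X) (hs : P A (e A g))
    (W : X.left.affineOpens) :
    ptIdeal F J e (gW X W.1 W.2) ≤ RingHom.ker (g.left.app W.1).hom := by
  rw [stab_iff_ptIdeal_eq_bot F Fmap P J hPJ e he] at hs
  intro s hsI
  change (g.left.app W.1).hom s = 0
  apply section_eq_zero_of_locally
  intro x hx
  obtain ⟨V, hV, hxV, hVW⟩ :=
    exists_isAffineOpen_mem_and_subset (x := x) (U := g.left ⁻¹ᵁ W.1) hx
  refine ⟨V, hVW, hxV, ?_⟩
  have h1 : ptIdeal F J e (gW X W.1 W.2) ≤ RingHom.ker (psi g W.1 V hVW).hom :=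
    (ptIdeal_le_iff F Fmap P J hPJ e he g W.1 W.2 V hV hVW).mpr (by rw [hs]; exact bot_le)
  exact h1 hsI

include Fcomp hPJ he in
/-- A stability condition on the Grassmannian functor is represented by a closed subscheme. -/
theorem exists_closed : ∃ (Z : Scheme.{u}) (i : Z ⟶ X.left), IsClosedImmersion i ∧
    ∀ (A : CommAlgCat.{u} R) (g : SA A ⟶ X),
      (∃ h : (SA A).left ⟶ Z, h ≫ i = g.left) ↔ P A (e A g) := by
  refine ⟨(stabSheaf F Fmap Fcomp P J hPJ e he).subscheme, (stabSheaf F Fmap Fcomp P J hPJ e he).subschemeι, inferInstance,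
    fun A g => ?_⟩
  constructor
  · rintro ⟨h, hh⟩
    apply stab_of_le F Fmap P J hPJ e he g
    intro W
    have h1 : stabSheaf F Fmap Fcomp P J hPJ e he ≤ g.left.ker := by
      rw [← hh]
      have := Scheme.Hom.le_ker_comp h (stabSheaf F Fmap Fcomp P J hPJ e he).subschemeι
      rwa [Scheme.IdealSheafData.ker_subschemeι] at this
    exact (Scheme.IdealSheafData.le_ofIdeals_iff.mp h1) W
  · intro hs
    have h1 : stabSheaf F Fmap Fcomp P J hPJ e he ≤ g.left.ker :=
      Scheme.IdealSheafData.le_ofIdeals_iff.mpr fun W => le_of_stab F Fmap P J hPJ e he g hs W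
    exact ⟨IsClosedImmersion.lift (stabSheaf F Fmap Fcomp P J hPJ e he).subschemeι g.left
      (by rwa [Scheme.IdealSheafData.ker_subschemeι]), IsClosedImmersion.lift_fac _ _ _⟩

end Main

end Groth.Agent.Lib.Helper54.ClosedFun
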