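import Mathlib
import Groth.Prelude.Def_Cyc
import Groth.Agent.Lib.Helper64.CycLen2

/-!
# Q4 for S1940/S1856: length of the fibre ring at a generization, read in the stalk at a specialization
-/

set_option autoImplicit false
set_option linter.style.haveILetI false
universe u
open AlgebraicGeometry CategoryTheory IsLocalRing
open Groth.Agent.Lib.Helper64.StalkSpec Groth.Agent.Lib.Helper64.StalkIdeal

namespace Groth.Agent.Lib.Helper54.Cyc1940Q4

/-- length of a quotient ring over the ring, through a ring isomorphism matching the ideals -/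
theorem length_quotient_of_ringEquiv {L B : Type u} [CommRing L] [CommRing B] (e : L ≃+* B)
    (I : Ideal L) (J : Ideal B) (hIJ : J = I.map (e : L →+* B)) :
    Module.length L (L ⧸ I) = Module.length B (B ⧸ J) := by
  rw [Module.length_eq_of_surjective (S := L) (R := L ⧸ I) (M := L ⧸ I)
      Ideal.Quotient.mk_surjective,
    Module.length_eq_of_surjective (S := B) (R := B ⧸ J) (M := B ⧸ J)
      Ideal.Quotient.mk_surjective]
  exact Groth.Agent.Lib.Helper99.LenPow.length_eq_of_ringEquiv (Ideal.quotientEquiv I J e hIJ)

theorem length_localization_quotient_map_eq {X X' : Scheme.{u}} (p : X' ⟶ X) {x' ξ' : X'}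
    (h' : ξ' ⤳ x') :
    Module.length (Localization.AtPrime (primeOf h'))
      (Localization.AtPrime (primeOf h') ⧸
        ((primeOf (h'.map p.continuous)).map (p.stalkMap x').hom).map
          (algebraMap (X'.presheaf.stalk x') (Localization.AtPrime (primeOf h')))) =
    Module.length (X'.presheaf.stalk ξ')
      (X'.presheaf.stalk ξ' ⧸
        Ideal.map (p.stalkMap ξ').hom (maximalIdeal (X.presheaf.stalk (p ξ')))) := by
  letI : Algebra (X'.presheaf.stalk x') (X'.presheaf.stalk ξ') :=
    (X'.presheaf.stalkSpecializes h').hom.toAlgebra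
  haveI := isLocalization_stalkSpecializes h'
  let e : Localization.AtPrime (primeOf h') ≃ₐ[X'.presheaf.stalk x'] X'.presheaf.stalk ξ' :=
    IsLocalization.algEquiv (primeOf h').primeCompl _ _
  refine length_quotient_of_ringEquiv e.toRingEquiv _ _ ?_
  -- the two ideals of `O_{ξ'}` agree
  have hsp : p ξ' ⤳ p x' := h'.map p.continuous
  letI : Algebra (X.presheaf.stalk (p x')) (X.presheaf.stalk (p ξ')) :=
    (X.presheaf.stalkSpecializes hsp).hom.toAlgebra
  haveI := isLocalization_stalkSpecializes hsp
  have hmax : (primeOf hsp).map (X.presheaf.stalkSpecializes hsp).hom =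
      maximalIdeal (X.presheaf.stalk (p ξ')) :=
    IsLocalization.AtPrime.map_eq_maximalIdeal (primeOf hsp) (X.presheaf.stalk (p ξ'))
  have hnat : (p.stalkMap ξ').hom.comp (X.presheaf.stalkSpecializes hsp).hom =
      (X'.presheaf.stalkSpecializes h').hom.comp (p.stalkMap x').hom := by
    have := Scheme.Hom.stalkSpecializes_stalkMap p ξ' x' h'
    rw [← CommRingCat.hom_comp, ← CommRingCat.hom_comp]
    exact congrArg CommRingCat.Hom.hom this
  rw [← hmax, Ideal.map_map, hnat, ← Ideal.map_map, Ideal.map_map (algebraMap _ _)]
  congr 1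
  exact (e.toAlgHom.comp_algebraMap).symm
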