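import Mathlib.CategoryTheory.Limits.Shapes.Diagonal

/-!
# Base change of the diagonal versus monomorphy of the base change (helper54)

For `f : X ⟶ Y`, `q : Y ⟶ Z` and a base change `g : Z' ⟶ Z`, with `f' : X' ⟶ Y'` the base change of
`f` along `g`, and `δ' : X'' ⟶ D'` the base change along `g` of the diagonal `Δ : X ⟶ X ×_Y X`
(seen over `Z`):

* `isIso_diag_baseChange_of_mono` : if `f'` is a monomorphism then `δ'` is an isomorphism;
* `mono_of_isIso_diag_baseChange` : if `δ'` is an isomorphism then `f'` is a monomorphism.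
-/

set_option autoImplicit false
universe v u
open CategoryTheory CategoryTheory.Limits

namespace Groth.Agent.Lib.Helper54.DiagBC

variable {C : Type u} [Category.{v} C] [HasPullbacks C]

/-- If the base change `f'` of `f` is mono, the base change `δ'` of the diagonal of `f` is an
isomorphism. -/
theorem isIso_diag_baseChange_of_mono {X Y Z Z' Y' X' D' X'' : C} (f : X ⟶ Y) (q : Y ⟶ Z)
    (g : Z' ⟶ Z)
    {gY : Y' ⟶ Y} {q' : Y' ⟶ Z'} (hY : IsPullback gY q' q g)
    {gX' : X' ⟶ X} {f' : X' ⟶ Y'} (hX : IsPullback gX' f' f gY) [Mono f']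
    {gD : D' ⟶ pullback f f} {q2' : D' ⟶ Z'}
    (hD : IsPullback gD q2' (pullback.fst f f ≫ f ≫ q) g)
    {gX : X'' ⟶ X} {δ' : X'' ⟶ D'} (hX'' : IsPullback gX δ' (pullback.diagonal f) gD) :
    IsIso δ' := by
  have hcond : pullback.fst f f ≫ f = pullback.snd f f ≫ f := pullback.condition
  -- the two projections agree on `D'`
  have key : gD ≫ pullback.fst f f = gD ≫ pullback.snd f f := by
    have w1 : (gD ≫ pullback.fst f f ≫ f) ≫ q = q2' ≫ g := by
      rw [Category.assoc, Category.assoc]; exact hD.w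
    have w2 : (gD ≫ pullback.snd f f ≫ f) ≫ q = q2' ≫ g := by
      rw [← hcond]; exact w1
    have e1 : (gD ≫ pullback.fst f f) ≫ f = hY.lift (gD ≫ pullback.fst f f ≫ f) q2' w1 ≫ gY := by
      rw [hY.lift_fst, Category.assoc]
    have e2 : (gD ≫ pullback.snd f f) ≫ f = hY.lift (gD ≫ pullback.fst f f ≫ f) q2' w1 ≫ gY := by
      rw [hY.lift_fst, Category.assoc, hcond]
    have hu : hX.lift (gD ≫ pullback.fst f f) _ e1 = hX.lift (gD ≫ pullback.snd f f) _ e2 := by
      rw [← cancel_mono f', hX.lift_snd, hX.lift_snd]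
    have := congrArg (· ≫ gX') hu
    simpa only [hX.lift_fst] using this
  have hΔ : (gD ≫ pullback.fst f f) ≫ pullback.diagonal f = 𝟙 D' ≫ gD := by
    rw [Category.id_comp]
    apply pullback.hom_ext
    · rw [Category.assoc, pullback.diagonal_fst, Category.comp_id]
    · rw [Category.assoc, pullback.diagonal_snd, Category.comp_id, key]
  have hmonoΔ : Mono (pullback.diagonal f) :=
    mono_of_mono_fac (pullback.diagonal_fst f)
  have hmono : Mono δ' := by
    refine ⟨fun {T} a b hab => ?_⟩
    apply hX''.hom_ext _ hab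
    rw [← cancel_mono (pullback.diagonal f), Category.assoc, Category.assoc, hX''.w,
      ← Category.assoc, ← Category.assoc, hab]
  refine ⟨hX''.lift (gD ≫ pullback.fst f f) (𝟙 D') hΔ, ?_, hX''.lift_snd _ _ _⟩
  rw [← cancel_mono δ', Category.assoc, hX''.lift_snd, Category.comp_id, Category.id_comp]

/-- If the base change `δ'` of the diagonal of `f` is an isomorphism, the base change `f'` of `f` is
mono. -/
theorem mono_of_isIso_diag_baseChange {X Y Z Z' Y' X' D' X'' : C} (f : X ⟶ Y) (q : Y ⟶ Z)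
    (g : Z' ⟶ Z)
    {gY : Y' ⟶ Y} {q' : Y' ⟶ Z'} (hY : IsPullback gY q' q g)
    {gX' : X' ⟶ X} {f' : X' ⟶ Y'} (hX : IsPullback gX' f' f gY)
    {gD : D' ⟶ pullback f f} {q2' : D' ⟶ Z'}
    (hD : IsPullback gD q2' (pullback.fst f f ≫ f ≫ q) g)
    {gX : X'' ⟶ X} {δ' : X'' ⟶ D'} (hX'' : IsPullback gX δ' (pullback.diagonal f) gD)
    [IsIso δ'] : Mono f' := by
  refine ⟨fun {T} a b hab => ?_⟩
  have hw : (a ≫ gX') ≫ f = (b ≫ gX') ≫ f := by
    rw [Category.assoc, Category.assoc, hX.w, ← Category.assoc, ← Category.assoc, hab]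
  have hw2 : pullback.lift (a ≫ gX') (b ≫ gX') hw ≫ pullback.fst f f ≫ f ≫ q =
      (a ≫ f' ≫ q') ≫ g := by
    rw [← Category.assoc, pullback.lift_fst, Category.assoc, Category.assoc, Category.assoc,
      ← hY.w, ← Category.assoc gX', hX.w, Category.assoc]
  set d : T ⟶ D' := hD.lift (pullback.lift (a ≫ gX') (b ≫ gX') hw) (a ≫ f' ≫ q') hw2 with hd
  have hdD : d ≫ gD = pullback.lift (a ≫ gX') (b ≫ gX') hw := hD.lift_fst _ _ _
  have hde : d ≫ gD = ((d ≫ inv δ') ≫ gX) ≫ pullback.diagonal f := by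
    rw [Category.assoc, Category.assoc, hX''.w, ← Category.assoc (inv δ'), IsIso.inv_hom_id,
      Category.id_comp]
  have h1 : a ≫ gX' = (d ≫ inv δ') ≫ gX := by
    have := congrArg (· ≫ pullback.fst f f) hde
    simp only [Category.assoc, pullback.diagonal_fst, Category.comp_id] at this
    rw [← Category.assoc, hdD, pullback.lift_fst] at this
    simpa only [Category.assoc] using this
  have h2 : b ≫ gX' = (d ≫ inv δ') ≫ gX := by
    have := congrArg (· ≫ pullback.snd f f) hde
    simp only [Category.assoc, pullback.diagonal_snd, Category.comp_id] at this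
    rw [← Category.assoc, hdD, pullback.lift_snd] at this
    simpa only [Category.assoc] using this
  exact hX.hom_ext (h1.trans h2.symm) hab

end Groth.Agent.Lib.Helper54.DiagBC
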