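import Mathlib
import Groth.Prelude.Def_Coh
import Groth.Agent.Lib.Helper53.SchemeTower

/-!
# `Ext^{p+1}(O, F) = 0` for `F` quasi-coherent on `Spec R`, with `O = tilde(R)`

`tilde(R)` corepresents global sections (`homTildeEquiv`), hence is isomorphic to helper53's free
module `Tm ⊤` on the top open (`nonempty_iso`); then `SchemeTower.hvan` gives the vanishing.
-/

universe u
open CategoryTheory Limits AlgebraicGeometry Opposite TopologicalSpace

namespace Groth.Agent.Lib.Helper54.ExtTildeSelf

open Groth.Agent.Lib.Helper53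

variable (R : CommRingCat.{u})

/-- `Hom(tilde R, G) ≃ G(⊤)` -/
noncomputable def homTildeEquiv (G : (Spec (CommRingCat.of R)).Modules) :
    ((tilde.functor R).obj (ModuleCat.of R R) ⟶ G) ≃
      ((SheafOfModules.toSheaf (Spec (CommRingCat.of R)).ringCatSheaf).obj G).obj.obj (op ⊤) :=
  ((tilde.adjunction (R := R)).homEquiv (ModuleCat.of R R) G).trans
    ((ModuleCat.homEquiv).trans
      (LinearMap.ringLmapEquivSelf R R ((moduleSpecΓFunctor (R := R)).obj G)).toEquiv)

lemma homTildeEquiv_right {G G' : (Spec (CommRingCat.of R)).Modules} (φ : G ⟶ G')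
    (x : (tilde.functor R).obj (ModuleCat.of R R) ⟶ G) :
    homTildeEquiv R G' (x ≫ φ) =
      ((SheafOfModules.toSheaf (Spec (CommRingCat.of R)).ringCatSheaf).map φ).hom.app (op ⊤)
        (homTildeEquiv R G x) := by
  simp only [homTildeEquiv, Equiv.trans_apply]
  rw [Adjunction.homEquiv_naturality_right]
  rfl

/-- `tilde(R)` is the free module `Tm ⊤` on the top open. -/
theorem nonempty_iso :
    Nonempty ((tilde.functor R).obj (ModuleCat.of R R) ≅
      ModLoc.Tm (Opens.grothendieckTopology (Spec (CommRingCat.of R)))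
        (Spec (CommRingCat.of R)).ringCatSheaf ⊤) := by
  refine ModLoc.nonempty_iso_of_natural_equiv _ _
    (fun G => (homTildeEquiv R G).trans (ModLoc.sec₀ _ _ ⊤ G).symm) ?_
  intro G G' φ x
  simp only [Equiv.trans_apply]
  rw [homTildeEquiv_right]
  apply (ModLoc.sec₀ _ _ ⊤ G').injective
  refine (Equiv.apply_symm_apply _ _).trans ?_
  refine Eq.trans ?_ (ModLoc.sec₀_right _ _ ⊤ φ _).symm
  exact congrArg _ (Equiv.apply_symm_apply _ _).symm

/-- transport of vanishing of `Ext` along an isomorphism in the first variable -/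
lemma subsingleton_ext_of_iso {C : Type*} [Category C] [Abelian C] [HasExt.{u} C] {A B : C}
    (e : A ≅ B) (F : C) (k : ℕ) (h : Subsingleton (Abelian.Ext.{u} B F k)) :
    Subsingleton (Abelian.Ext.{u} A F k) := by
  have key : ∀ z : Abelian.Ext.{u} A F k, z = 0 := by
    intro z
    have h1 : z = (Abelian.Ext.mk₀ e.hom).comp ((Abelian.Ext.mk₀ e.inv).comp z (zero_add _))
        (zero_add _) := by
      rw [← Abelian.Ext.comp_assoc_of_second_deg_zero, Abelian.Ext.mk₀_comp_mk₀, e.hom_inv_id,
        Abelian.Ext.mk₀_id_comp]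
    have h2 : (Abelian.Ext.mk₀ e.inv).comp z (zero_add _) = 0 := Subsingleton.elim _ _
    rw [h1, h2, Abelian.Ext.comp_zero]
  exact ⟨fun x y => by rw [key x, key y]⟩

theorem subsingleton_ext_tilde_self (R : CommRingCat.{u})
    (F : (Spec (CommRingCat.of R)).Modules) (hF : Coh.IsQCoh F) (p : ℕ)
    [HasExt.{u} (Spec (CommRingCat.of R)).Modules] :
    Subsingleton (Abelian.Ext.{u} ((tilde.functor R).obj (ModuleCat.of R R)) F (p + 1)) := by
  obtain ⟨e⟩ := nonempty_iso R
  exact subsingleton_ext_of_iso e F (p + 1)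
    (SchemeTower.hvan (X := Spec (CommRingCat.of R)) ⊤ (isAffineOpen_top _) F hF p)

end Groth.Agent.Lib.Helper54.ExtTildeSelf
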