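import Groth.Agent.Lib.Helper54.FSchCompl

/-! helper54: adic morphisms of systems transport `IsFormal` and `IsAdic` from the target to the source. -/
set_option autoImplicit false
universe u
open AlgebraicGeometry CategoryTheory CategoryTheory.Limits
open Groth.Agent.Lib.Helper54.FSchSpf

namespace Groth.Agent.Lib.Helper54.FSchSpf

section AdicHom

variable {𝔛 𝔖 : FSch.Sys.{u}} (f : 𝔛 ⟶ 𝔖)

theorem isClosedImmersion_toX (h𝔖 : 𝔖.IsFormal) (n : ℕ) : IsClosedImmersion (𝔖.toX n) := by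
  induction n with
  | zero => exact inferInstanceAs (IsClosedImmersion (𝟙 (𝔖.X 0)))
  | succ n ih =>
    have := (h𝔖 n).1
    exact inferInstanceAs (IsClosedImmersion (𝔖.toX n ≫ 𝔖.ι n))

theorem isPullback_toX (hf : FSch.IsAdicHom f) (n : ℕ) :
    IsPullback (𝔛.toX n) ((f : FSch.Hom 𝔛 𝔖).app 0) ((f : FSch.Hom 𝔛 𝔖).app n) (𝔖.toX n) := by
  induction n with
  | zero => exact IsPullback.id_horiz _
  | succ n ih => exact ih.paste_horiz (hf n)

theorem isFormal_of_isAdicHom (hf : FSch.IsAdicHom f) (h𝔖 : 𝔖.IsFormal) : 𝔛.IsFormal := by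
  intro n
  constructor
  · exact MorphismProperty.of_isPullback (P := @IsClosedImmersion) (hf n).flip (h𝔖 n).1
  · have h1 : Surjective (𝔖.ι n) := ⟨(h𝔖 n).2⟩
    have h2 : Surjective (𝔛.ι n) :=
      MorphismProperty.of_isPullback (P := @Surjective) (hf n).flip h1
    exact h2.surj

theorem isAdic_of_isAdicHom (hf : FSch.IsAdicHom f) (h𝔖F : 𝔖.IsFormal) (h𝔖A : 𝔖.IsAdic) :
    𝔛.IsAdic := by
  intro n
  have i1 : IsClosedImmersion (𝔖.ι n) := (h𝔖F n).1
  have i2 : IsClosedImmersion (𝔖.toX (n + 1)) := isClosedImmersion_toX h𝔖F (n + 1)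
  rw [ker_fst_of_isPullback (hf n), ker_fst_of_isPullback (isPullback_toX f hf (n + 1)), h𝔖A n,
    comap_pow]

end AdicHom

end Groth.Agent.Lib.Helper54.FSchSpf
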