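import Groth.Agent.Lib.Helper54.FSchComap

/-! helper54: `FSch.completionAlong X 𝓘` is a locally Noetherian adic formal system; kernel of `inclusion`. -/
set_option autoImplicit false
universe u
open AlgebraicGeometry CategoryTheory CategoryTheory.Limits
open Groth.Agent.Lib.Helper54.FSchSpf

namespace Groth.Agent.Lib.Helper54.FSchSpf

/-- kernel of the inclusion of closed subschemes `V(J) ⟶ V(I)` for `I ≤ J`. -/
theorem ker_inclusion {X : Scheme.{u}} {I J : X.IdealSheafData} (h : I ≤ J) :
    (Scheme.IdealSheafData.inclusion h).ker = J.comap I.subschemeι := by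
  have sq : CommSq (Scheme.IdealSheafData.inclusion h) (𝟙 J.subscheme) I.subschemeι J.subschemeι :=
    ⟨by rw [Scheme.IdealSheafData.inclusion_subschemeι, Category.id_comp]⟩
  have hp := IsPullback.of_vert_isIso_mono sq
  rw [ker_fst_of_isPullback hp, Scheme.IdealSheafData.ker_subschemeι]

theorem isClosedImmersion_inclusion {X : Scheme.{u}} {I J : X.IdealSheafData} (h : I ≤ J) :
    IsClosedImmersion (Scheme.IdealSheafData.inclusion h) := by
  have : IsClosedImmersion (Scheme.IdealSheafData.inclusion h ≫ I.subschemeι) := by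
    rw [Scheme.IdealSheafData.inclusion_subschemeι]
    infer_instance
  exact IsClosedImmersion.of_comp_isClosedImmersion (Scheme.IdealSheafData.inclusion h) I.subschemeι

theorem surjective_inclusion {X : Scheme.{u}} {I J : X.IdealSheafData} (h : I ≤ J)
    (hs : I.support = J.support) :
    Function.Surjective (Scheme.IdealSheafData.inclusion h).base := by
  intro p
  have hp : I.subschemeι p ∈ (J.support : Set X) := by
    rw [← hs, ← Scheme.IdealSheafData.range_subschemeι]
    exact ⟨p, rfl⟩
  rw [← Scheme.IdealSheafData.range_subschemeι] at hp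
  obtain ⟨q, hq⟩ := hp
  refine ⟨q, ?_⟩
  have hinj : Function.Injective I.subschemeι.base := I.subschemeι.isEmbedding.injective
  apply hinj
  rw [← hq]
  show (Scheme.IdealSheafData.inclusion h ≫ I.subschemeι).base q = _
  rw [Scheme.IdealSheafData.inclusion_subschemeι]

section completion

variable (X : Scheme.{u}) (𝓘 : X.IdealSheafData)

theorem pow_succ_le_one (n : ℕ) : 𝓘 ^ (n + 1) ≤ 𝓘 ^ (0 + 1) :=
  pow_le_pow_of_le_one bot_le le_top (by omega)

theorem toX_completionAlong (n : ℕ) : (FSch.completionAlong X 𝓘).toX n =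
    Scheme.IdealSheafData.inclusion (pow_succ_le_one X 𝓘 n) := by
  induction n with
  | zero => exact (Scheme.IdealSheafData.inclusion_id _).symm
  | succ n ih =>
    have h : (FSch.completionAlong X 𝓘).toX (n + 1) =
      (FSch.completionAlong X 𝓘).toX n ≫ (FSch.completionAlong X 𝓘).ι n := rfl
    rw [h, ih]
    exact Scheme.IdealSheafData.inclusion_comp _ _

theorem isFormal_completionAlong : (FSch.completionAlong X 𝓘).IsFormal := fun _ =>
  ⟨isClosedImmersion_inclusion _, surjective_inclusion _ rfl⟩

theorem ker_inclusion_pow (n : ℕ) :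
    (Scheme.IdealSheafData.inclusion (FSch.pow_succ_le X 𝓘 n)).ker =
      (Scheme.IdealSheafData.inclusion (pow_succ_le_one X 𝓘 (n + 1))).ker ^ (n + 1) := by
  rw [ker_inclusion, ker_inclusion, ← comap_pow, zero_add, pow_one]

theorem isAdic_completionAlong : (FSch.completionAlong X 𝓘).IsAdic := by
  intro n
  have h1 := toX_completionAlong X 𝓘 (n + 1)
  show ((FSch.completionAlong X 𝓘).ι n).ker = ((FSch.completionAlong X 𝓘).toX (n + 1)).ker ^ (n + 1)
  rw [h1]
  exact ker_inclusion_pow X 𝓘 n

theorem isLocNoethFormal_completionAlong [IsLocallyNoetherian X] :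
    (FSch.completionAlong X 𝓘).IsLocNoethFormal :=
  ⟨isFormal_completionAlong X 𝓘, isAdic_completionAlong X 𝓘, fun n => by
    show IsLocallyNoetherian (𝓘 ^ (n + 1)).subscheme
    exact LocallyOfFiniteType.isLocallyNoetherian (𝓘 ^ (n + 1)).subschemeι⟩

end completion

end Groth.Agent.Lib.Helper54.FSchSpf
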