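import Groth.Agent.Lib.Helper54.FSchAdic

/-! helper54: Noetherianity of thickenings; source of an adic morphism to a locally Noetherian formal system. -/
set_option autoImplicit false
universe u
open AlgebraicGeometry CategoryTheory CategoryTheory.Limits
open Groth.Agent.Lib.Helper54.FSchSpf

namespace Groth.Agent.Lib.Helper54.FSchSpf

/-- A ring surjecting onto a Noetherian ring with finitely generated nilpotent kernel is Noetherian. -/
theorem isNoetherianRing_of_surjective_of_nilpotent_ker {A B : Type*} [CommRing A] [CommRing B]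
    (φ : A →+* B) (hφ : Function.Surjective φ) [IsNoetherianRing B] (hfg : (RingHom.ker φ).FG)
    (k : ℕ) (hk : (RingHom.ker φ) ^ k = ⊥) : IsNoetherianRing A := by
  apply IsNoetherianRing.of_prime
  intro P hP
  have hJP : RingHom.ker φ ≤ P := hP.le_of_pow_le (hk ▸ bot_le)
  refine Ideal.fg_of_fg_map_of_fg_inf_ker_of_surjective (f := φ) (IsNoetherian.noetherian _) ?_ hφ
  rw [inf_eq_right.mpr hJP]
  exact hfg

theorem comap_bot {X Y : Scheme.{u}} (f : X ⟶ Y) : (⊥ : Y.IdealSheafData).comap f = ⊥ := by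
  have h := IsPullback.of_horiz_isIso (fst := 𝟙 X) (snd := f ≫ inv (⊥ : Y.IdealSheafData).subschemeι)
    (f := f) (g := (⊥ : Y.IdealSheafData).subschemeι) ⟨by simp⟩
  have h2 := ker_fst_of_isPullback h
  rw [Scheme.IdealSheafData.ker_subschemeι] at h2
  rw [← h2]
  exact Scheme.Hom.ker_eq_bot_of_isIso _

theorem ker_comap_self {X Y : Scheme.{u}} (i : X ⟶ Y) [IsClosedImmersion i] : i.ker.comap i = ⊥ := by
  have h : IsPullback (𝟙 X) (𝟙 X) i i := IsPullback.of_vert_isIso_mono ⟨rfl⟩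
  rw [← ker_fst_of_isPullback h]
  exact Scheme.Hom.ker_eq_bot_of_isIso _

theorem ker_toX_eq_comap {𝔖 : FSch.Sys.{u}} (h𝔖 : 𝔖.IsFormal) (n : ℕ) :
    (𝔖.toX n).ker = (𝔖.toX (n + 1)).ker.comap (𝔖.ι n) := by
  have i1 : IsClosedImmersion (𝔖.ι n) := (h𝔖 n).1
  have i2 : IsClosedImmersion (𝔖.toX (n + 1)) := isClosedImmersion_toX h𝔖 (n + 1)
  have h : IsPullback (𝔖.toX n) (𝟙 _) (𝔖.ι n) (𝔖.toX (n + 1)) :=
    IsPullback.of_vert_isIso_mono ⟨by rw [Category.id_comp]; rfl⟩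
  exact ker_fst_of_isPullback h

theorem ker_toX_pow_eq_bot {𝔖 : FSch.Sys.{u}} (hF : 𝔖.IsFormal) (hA : 𝔖.IsAdic) (n : ℕ) :
    (𝔖.toX n).ker ^ (n + 1) = ⊥ := by
  have i1 : IsClosedImmersion (𝔖.ι n) := (hF n).1
  rw [ker_toX_eq_comap hF, ← comap_pow, ← hA n, ker_comap_self]

theorem fg_comap_iso_inv {R S : CommRingCat.{u}} (i : R ≅ S) (K : Ideal R) :
    (K.comap i.inv.hom).FG ↔ K.FG := by
  rw [comap_iso_inv]
  constructor
  · intro h
    have h2 := h.map i.inv.hom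
    rw [Ideal.map_map, ← CommRingCat.hom_comp, Iso.hom_inv_id] at h2
    simpa using h2
  · intro h
    exact h.map _

theorem fg_ideal_comap_of_isOpenImmersion {X Y : Scheme.{u}} (j : X ⟶ Y) [IsOpenImmersion j]
    (I : Y.IdealSheafData) (W : X.affineOpens) (V : Y.affineOpens) (hV : j ''ᵁ W.1 = V.1) :
    ((I.comap j).ideal W).FG ↔ (I.ideal V).FG := by
  rw [Scheme.IdealSheafData.ideal_comap_of_isOpenImmersion, fg_comap_iso_inv]
  have aux : ∀ V' V : Y.affineOpens, V' = V → ((I.ideal V').FG ↔ (I.ideal V).FG) := by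
    rintro V' _ rfl
    exact Iff.rfl
  exact aux _ _ (Subtype.ext hV)

/-- top as an affine open of an affine scheme -/
abbrev topAff (X : Scheme.{u}) [IsAffine X] : X.affineOpens := ⟨⊤, isAffineOpen_top X⟩

theorem fg_idl_top (R : CommRingCat.{u}) (K : Ideal R) :
    ((idl R K).ideal (topAff (Spec R))).FG ↔ K.FG := by
  have h : (idl R K).ideal (topAff (Spec R)) = K.comap (Scheme.ΓSpecIso R).hom.hom :=
    (Scheme.IdealSheafData.equivOfIsAffine (X := Spec R)).apply_symm_apply _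
  rw [h]
  exact fg_comap_iso_inv (Scheme.ΓSpecIso R).symm K

theorem image_top_of_isIso {X Y : Scheme.{u}} (e : X ⟶ Y) [IsIso e] : e ''ᵁ (⊤ : X.Opens) = ⊤ := by
  rw [Scheme.Hom.image_top_eq_opensRange]
  exact Scheme.Hom.opensRange_of_isIso e

theorem fg_top_comap_of_isIso {X Y : Scheme.{u}} [IsAffine X] [IsAffine Y] (e : X ⟶ Y) [IsIso e]
    (I : Y.IdealSheafData) :
    ((I.comap e).ideal (topAff X)).FG ↔ (I.ideal (topAff Y)).FG :=
  fg_ideal_comap_of_isOpenImmersion e I (topAff X) (topAff Y) (image_top_of_isIso e)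

theorem fg_top_comap_SpecMap {A B : CommRingCat.{u}} (φ : B ⟶ A) (I : (Spec B).IdealSheafData)
    (h : (I.ideal (topAff (Spec B))).FG) :
    ((I.comap (Spec.map φ)).ideal (topAff (Spec A))).FG := by
  obtain ⟨K, rfl⟩ := exists_idl B I
  rw [idl_comap, fg_idl_top]
  rw [fg_idl_top] at h
  exact h.map _

theorem fg_top_comap_of_isAffine {X Y : Scheme.{u}} [IsAffine X] [IsAffine Y] (g : X ⟶ Y)
    (I : Y.IdealSheafData) (h : (I.ideal (topAff Y)).FG) :
    ((I.comap g).ideal (topAff X)).FG := by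
  have hnat : X.isoSpec.hom ≫ Spec.map g.appTop = g ≫ Y.isoSpec.hom :=
    Scheme.isoSpec_hom_naturality g
  have key : I.comap g =
      ((I.comap Y.isoSpec.inv).comap (Spec.map g.appTop)).comap X.isoSpec.hom := by
    rw [← Scheme.IdealSheafData.comap_comp, ← Scheme.IdealSheafData.comap_comp, hnat,
      Category.assoc, Iso.hom_inv_id, Category.comp_id]
  rw [key, fg_top_comap_of_isIso]
  apply fg_top_comap_SpecMap
  rw [fg_top_comap_of_isIso]
  exact h

/-- Finite generation of the pullback ideal on an affine open mapping into an affine open. -/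
theorem fg_ideal_comap {X Y : Scheme.{u}} (f : X ⟶ Y) (I : Y.IdealSheafData)
    (U : Y.affineOpens) (V : X.affineOpens) (hVU : V.1 ≤ f ⁻¹ᵁ U.1) (h : (I.ideal U).FG) :
    ((I.comap f).ideal V).FG := by
  have : IsAffine V.1.toScheme := V.2
  have : IsAffine U.1.toScheme := U.2
  have hres : f.resLE U.1 V.1 hVU ≫ U.1.ι = V.1.ι ≫ f := Scheme.Hom.resLE_comp_ι f hVU
  have key : (I.comap f).comap V.1.ι = (I.comap U.1.ι).comap (f.resLE U.1 V.1 hVU) := by
    rw [← Scheme.IdealSheafData.comap_comp, ← Scheme.IdealSheafData.comap_comp, hres]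
  rw [← fg_ideal_comap_of_isOpenImmersion V.1.ι (I.comap f) (topAff V.1.toScheme) V
    (Scheme.Opens.ι_image_top V.1), key]
  apply fg_top_comap_of_isAffine
  rw [fg_ideal_comap_of_isOpenImmersion U.1.ι I (topAff U.1.toScheme) U
    (Scheme.Opens.ι_image_top U.1)]
  exact h

/-- A scheme with a locally Noetherian closed subscheme defined by a nilpotent ideal which is finitely
generated on an affine cover is locally Noetherian. -/
theorem isLocallyNoetherian_of_thickening {Z W : Scheme.{u}} (i : Z ⟶ W) [IsClosedImmersion i]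
    [IsLocallyNoetherian Z] (k : ℕ) (hk : i.ker ^ k = ⊥) {ι : Type*} (V : ι → W.affineOpens)
    (hV : (⨆ a, (V a : W.Opens)) = ⊤) (hfg : ∀ a, (i.ker.ideal (V a)).FG) :
    IsLocallyNoetherian W := by
  apply isLocallyNoetherian_of_affine_cover hV
  intro a
  have hsurj := i.app_surjective (V a).1 (V a).2
  have haff : IsAffineOpen (i ⁻¹ᵁ (V a).1) := (V a).2.preimage i
  have : IsNoetherianRing Γ(Z, i ⁻¹ᵁ (V a).1) :=
    IsLocallyNoetherian.component_noetherian ⟨_, haff⟩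
  have hker : RingHom.ker (i.app (V a).1).hom = i.ker.ideal (V a) :=
    (Scheme.Hom.ker_apply i (V a)).symm
  apply isNoetherianRing_of_surjective_of_nilpotent_ker (i.app (V a).1).hom hsurj
    (hker ▸ hfg a) k
  rw [hker]
  have := congrArg (fun K : W.IdealSheafData => K.ideal (V a)) hk
  simpa using this

theorem iSup_affine_pairs {X Y : Scheme.{u}} (f : X ⟶ Y) :
    (⨆ p : {p : X.affineOpens × Y.affineOpens // p.1.1 ≤ f ⁻¹ᵁ p.2.1}, (p.1.1 : X.Opens)) = ⊤ := by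
  rw [eq_top_iff]
  intro x _
  obtain ⟨U, hU, hxU, -⟩ := TopologicalSpace.Opens.isBasis_iff_nbhd.mp Y.isBasis_affineOpens
    (show f x ∈ (⊤ : Y.Opens) from trivial)
  obtain ⟨V, hV, hxV, hVU⟩ := TopologicalSpace.Opens.isBasis_iff_nbhd.mp X.isBasis_affineOpens
    (show x ∈ f ⁻¹ᵁ U from hxU)
  exact TopologicalSpace.Opens.mem_iSup.mpr ⟨⟨(⟨V, hV⟩, ⟨U, hU⟩), hVU⟩, hxV⟩

/-- Levels of the source of an adic morphism to a locally Noetherian adic formal system are locally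
Noetherian as soon as level `0` is. -/
theorem isLocallyNoetherian_of_isAdicHom {𝔛 𝔖 : FSch.Sys.{u}} (f : 𝔛 ⟶ 𝔖)
    (h𝔖 : 𝔖.IsLocNoethFormal) (hf : FSch.IsAdicHom f) [IsLocallyNoetherian (𝔛.X 0)] (n : ℕ) :
    IsLocallyNoetherian (𝔛.X n) := by
  have hF : 𝔛.IsFormal := isFormal_of_isAdicHom f hf h𝔖.1
  have hA : 𝔛.IsAdic := isAdic_of_isAdicHom f hf h𝔖.1 h𝔖.2.1
  have i1 : IsClosedImmersion (𝔛.toX n) := isClosedImmersion_toX hF n
  have i2 : IsClosedImmersion (𝔖.toX n) := isClosedImmersion_toX h𝔖.1 n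
  have hker : (𝔛.toX n).ker = (𝔖.toX n).ker.comap ((f : FSch.Hom 𝔛 𝔖).app n) :=
    ker_fst_of_isPullback (isPullback_toX f hf n)
  refine isLocallyNoetherian_of_thickening (𝔛.toX n) (n + 1) (ker_toX_pow_eq_bot hF hA n)
    (fun p : {p : (𝔛.X n).affineOpens × (𝔖.X n).affineOpens //
      p.1.1 ≤ ((f : FSch.Hom 𝔛 𝔖).app n) ⁻¹ᵁ p.2.1} => p.1.1)
    (iSup_affine_pairs _) ?_
  rintro ⟨⟨V, U⟩, hVU⟩
  rw [hker]
  apply fg_ideal_comap _ _ U V hVU
  have := h𝔖.2.2 n
  have : IsNoetherianRing Γ(𝔖.X n, U.1) := IsLocallyNoetherian.component_noetherian U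
  exact IsNoetherian.noetherian _

theorem isLocNoethFormal_of_isAdicHom {𝔛 𝔖 : FSch.Sys.{u}} (f : 𝔛 ⟶ 𝔖)
    (h𝔖 : 𝔖.IsLocNoethFormal) (hf : FSch.IsAdicHom f) [IsLocallyNoetherian (𝔛.X 0)] :
    𝔛.IsLocNoethFormal :=
  ⟨isFormal_of_isAdicHom f hf h𝔖.1, isAdic_of_isAdicHom f hf h𝔖.1 h𝔖.2.1,
    isLocallyNoetherian_of_isAdicHom f h𝔖 hf⟩

end Groth.Agent.Lib.Helper54.FSchSpf
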