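import Groth.Prelude.Def_FSch2
import Mathlib

/-!
helper54: basic facts about `FSch.spf A I` (formal spectrum as a system of thickenings).
-/

set_option autoImplicit false
universe u
open AlgebraicGeometry CategoryTheory

namespace Groth.Agent.Lib.Helper54.FSchSpf

/-- kernel of the global-sections map of `Spec.map φ` corresponds to `ker φ` under `ΓSpecIso`. -/
theorem ker_appTop_SpecMap {R S : CommRingCat.{u}} (φ : R ⟶ S) :
    RingHom.ker (Spec.map φ).appTop.hom =
      Ideal.comap (Scheme.ΓSpecIso R).hom.hom (RingHom.ker φ.hom) := by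
  ext x
  rw [RingHom.mem_ker, Ideal.mem_comap, RingHom.mem_ker]
  have h := Scheme.ΓSpecIso_naturality φ
  have h2 : (Scheme.ΓSpecIso S).hom.hom ((Spec.map φ).appTop.hom x) =
      φ.hom ((Scheme.ΓSpecIso R).hom.hom x) := congrArg (fun f => f.hom x) h
  constructor
  · intro hx
    rw [← h2, hx, map_zero]
  · intro hx
    have h3 : (Scheme.ΓSpecIso S).hom.hom ((Spec.map φ).appTop.hom x) = 0 := by rw [h2, hx]
    have hinj : Function.Injective (Scheme.ΓSpecIso S).hom.hom :=
      (ConcreteCategory.bijective_of_isIso (Scheme.ΓSpecIso S).hom).1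
    exact hinj (by rw [h3, map_zero])

/-- comap along `ΓSpecIso` commutes with powers. -/
theorem comap_ΓSpecIso_pow (R : CommRingCat.{u}) (J : Ideal R) (k : ℕ) :
    Ideal.comap (Scheme.ΓSpecIso R).hom.hom (J ^ k) =
      (Ideal.comap (Scheme.ΓSpecIso R).hom.hom J) ^ k := by
  let e : Γ(Spec R, ⊤) ≃+* R := (Scheme.ΓSpecIso R).commRingCatIsoToRingEquiv
  have h : ∀ K : Ideal R, Ideal.comap (Scheme.ΓSpecIso R).hom.hom K =
      Ideal.map (e.symm : R →+* Γ(Spec R, ⊤)) K := fun K => (Ideal.map_symm e).symm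
  rw [h, h, Ideal.map_pow]

/-- The kernel ideal sheaf of `Spec.map φ`, as the ideal sheaf of the comap of `ker φ`. -/
theorem ker_SpecMap {R S : CommRingCat.{u}} (φ : R ⟶ S) :
    (Spec.map φ).ker = Scheme.IdealSheafData.ofIdealTop
      (Ideal.comap (Scheme.ΓSpecIso R).hom.hom (RingHom.ker φ.hom)) := by
  rw [Scheme.ker_of_isAffine, ker_appTop_SpecMap]

theorem ofIdealTop_pow {X : Scheme.{u}} [IsAffine X] (J : Ideal Γ(X, ⊤)) (k : ℕ) :
    Scheme.IdealSheafData.ofIdealTop (J ^ k) = (Scheme.IdealSheafData.ofIdealTop J) ^ k := by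
  have := map_pow (Scheme.IdealSheafData.equivOfIsAffine (X := X)).symm J k
  simpa using this

variable (A : Type u) [CommRing A] (I : Ideal A)

theorem pow_le_aux {m n : ℕ} (h : m ≤ n) : I ^ (n + 1) ≤ I ^ (m + 1) :=
  Ideal.pow_le_pow_right (by omega)

/-- `Spec(A/I^(m+1)) ⟶ Spec(A/I^(n+1))` for `m ≤ n`. -/
noncomputable def spfTrans {m n : ℕ} (h : m ≤ n) :
    Spec (CommRingCat.of (A ⧸ I ^ (m + 1))) ⟶ Spec (CommRingCat.of (A ⧸ I ^ (n + 1))) :=
  Spec.map (CommRingCat.ofHom (Ideal.Quotient.factor (pow_le_aux A I h)))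

theorem spf_ι_eq (n : ℕ) : (FSch.spf A I).ι n = spfTrans A I (Nat.le_succ n) := rfl

theorem spfTrans_comp {m n k : ℕ} (h : m ≤ n) (h' : n ≤ k) :
    spfTrans A I h ≫ spfTrans A I h' = spfTrans A I (h.trans h') := by
  unfold spfTrans
  rw [← Spec.map_comp, ← CommRingCat.ofHom_comp, Ideal.Quotient.factor_comp]

theorem spfTrans_refl (n : ℕ) : spfTrans A I (le_refl n) = 𝟙 _ := by
  unfold spfTrans
  rw [Ideal.Quotient.factor_eq]
  exact Spec.map_id _

theorem toX_spf (n : ℕ) : (FSch.spf A I).toX n = spfTrans A I (Nat.zero_le n) := by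
  induction n with
  | zero => exact (spfTrans_refl A I 0).symm
  | succ n ih =>
    have h : (FSch.spf A I).toX (n + 1) = (FSch.spf A I).toX n ≫ (FSch.spf A I).ι n := rfl
    rw [h, ih]
    exact spfTrans_comp A I (Nat.zero_le n) (Nat.le_succ n)

theorem ker_spfTrans {m n : ℕ} (h : m ≤ n) :
    (spfTrans A I h).ker = Scheme.IdealSheafData.ofIdealTop
      (Ideal.comap (Scheme.ΓSpecIso (CommRingCat.of (A ⧸ I ^ (n + 1)))).hom.hom
        ((I ^ (m + 1)).map (Ideal.Quotient.mk (I ^ (n + 1))))) := by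
  unfold spfTrans
  rw [ker_SpecMap]
  congr 2
  exact Ideal.Quotient.factor_ker (pow_le_aux A I h)

theorem isClosedImmersion_spfTrans {m n : ℕ} (h : m ≤ n) : IsClosedImmersion (spfTrans A I h) :=
  IsClosedImmersion.spec_of_surjective _ (Ideal.Quotient.factor_surjective (pow_le_aux A I h))

theorem surjective_spfTrans {m n : ℕ} (h : m ≤ n) : Function.Surjective (spfTrans A I h).base := by
  intro p0
  let p : PrimeSpectrum (A ⧸ I ^ (n + 1)) := p0
  have hsurj : Function.Surjective (Ideal.Quotient.factor (pow_le_aux A I h)) :=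
    Ideal.Quotient.factor_surjective (pow_le_aux A I h)
  have hrange := range_comap_of_surjective _
    (Ideal.Quotient.factor (pow_le_aux A I h)) hsurj
  have hmem : p ∈
      PrimeSpectrum.zeroLocus (RingHom.ker (Ideal.Quotient.factor (pow_le_aux A I h)) : Set _) := by
    rw [PrimeSpectrum.mem_zeroLocus, SetLike.coe_subset_coe, Ideal.Quotient.factor_ker]
    have hpow : ((I ^ (m + 1)).map (Ideal.Quotient.mk (I ^ (n + 1)))) ^ (n + 1) = ⊥ := by
      rw [← Ideal.map_pow, ← pow_mul]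
      apply Ideal.map_mk_eq_bot_of_le
      exact Ideal.pow_le_pow_right (by nlinarith)
    apply p.isPrime.le_of_pow_le (n := n + 1)
    rw [hpow]
    exact bot_le
  rw [← hrange] at hmem
  obtain ⟨q, hq⟩ := hmem
  exact ⟨q, hq⟩

theorem isFormal_spf : (FSch.spf A I).IsFormal := fun n =>
  ⟨isClosedImmersion_spfTrans A I (Nat.le_succ n), surjective_spfTrans A I (Nat.le_succ n)⟩

theorem ker_spfTrans_pow (n : ℕ) :
    (spfTrans A I (Nat.le_succ n)).ker = (spfTrans A I (Nat.zero_le (n + 1))).ker ^ (n + 1) := by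
  rw [ker_spfTrans, ker_spfTrans, ← ofIdealTop_pow, ← comap_ΓSpecIso_pow,
    ← Ideal.map_pow, ← pow_mul, Nat.zero_add, one_mul]

theorem isAdic_spf : (FSch.spf A I).IsAdic := by
  intro n
  have h1 : (FSch.spf A I).toX (n + 1) = spfTrans A I (Nat.zero_le (n + 1)) := toX_spf A I (n + 1)
  have h2 := ker_spfTrans_pow A I n
  show ((FSch.spf A I).ι n).ker = ((FSch.spf A I).toX (n + 1)).ker ^ (n + 1)
  rw [h1]
  exact h2

theorem isLocNoethFormal_spf [IsNoetherianRing A] : (FSch.spf A I).IsLocNoethFormal :=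
  ⟨isFormal_spf A I, isAdic_spf A I, fun n => by
    show IsLocallyNoetherian (Spec (CommRingCat.of (A ⧸ I ^ (n + 1))))
    infer_instance⟩

end Groth.Agent.Lib.Helper54.FSchSpf
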