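import Groth.Agent.Lib.Helper54.FSchSpf
import Groth.Prelude.Def_FSch3

/-! helper54: ideal sheaves on affine schemes (`idl`), their pullback, and adic squares of `spfMap`. -/

set_option autoImplicit false
universe u
open AlgebraicGeometry CategoryTheory CategoryTheory.Limits

namespace Groth.Agent.Lib.Helper54.FSchSpf

theorem ker_fst_of_isPullback {P X Y Z : Scheme.{u}} {fst : P ⟶ X} {snd : P ⟶ Z} {f : X ⟶ Y}
    {i : Z ⟶ Y} [IsClosedImmersion i] (h : IsPullback fst snd f i) : fst.ker = i.ker.comap f := by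
  rw [← Scheme.IdealSheafData.ker_fst_of_isClosedImmersion, ← h.isoPullback_hom_fst,
    Scheme.Hom.ker_comp_of_isIso]

theorem isPushout_mk {A B : CommRingCat.{u}} (φ : B ⟶ A) (K : Ideal B) :
    IsPushout φ (CommRingCat.ofHom (Ideal.Quotient.mk K))
      (CommRingCat.ofHom (Ideal.Quotient.mk (K.map φ.hom)))
      (CommRingCat.ofHom (Ideal.quotientMap (K.map φ.hom) φ.hom Ideal.le_comap_map)) := by
  refine ⟨⟨?_⟩, ⟨PushoutCocone.IsColimit.mk _ (fun s => CommRingCat.ofHom
    (Ideal.Quotient.lift (K.map φ.hom) s.inl.hom ?_)) ?_ ?_ ?_⟩⟩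
  · ext b
    simp
  · intro a ha
    induction ha using Submodule.span_induction with
    | mem x hx =>
      obtain ⟨k, hk, rfl⟩ := hx
      have h1 : s.inl.hom (φ.hom k) = s.inr.hom (Ideal.Quotient.mk K k) :=
        congrArg (fun f => f.hom k) s.condition
      rw [h1, Ideal.Quotient.eq_zero_iff_mem.mpr hk, map_zero]
    | zero => simp
    | add x y _ _ hx hy => rw [map_add, hx, hy, add_zero]
    | smul a x _ hx => rw [smul_eq_mul, map_mul, hx, mul_zero]
  · intro s
    ext a
    simp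
  · intro s
    ext b
    have h1 : s.inl.hom (φ.hom b) = s.inr.hom (Ideal.Quotient.mk K b) :=
      congrArg (fun f => f.hom b) s.condition
    simp [h1]
  · intro s m h1 h2
    ext a
    have := congrArg (fun f => f.hom a) h1
    simpa using this

/-- The ideal sheaf on `Spec R` attached to an ideal of `R`. -/
noncomputable def idl (R : CommRingCat.{u}) (J : Ideal R) : (Spec R).IdealSheafData :=
  Scheme.IdealSheafData.ofIdealTop (Ideal.comap (Scheme.ΓSpecIso R).hom.hom J)

theorem ker_SpecMap' {R S : CommRingCat.{u}} (φ : R ⟶ S) :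
    (Spec.map φ).ker = idl R (RingHom.ker φ.hom) := ker_SpecMap φ

theorem ker_SpecMap_mk (R : CommRingCat.{u}) (J : Ideal R) :
    (Spec.map (CommRingCat.ofHom (Ideal.Quotient.mk J))).ker = idl R J := by
  rw [ker_SpecMap']
  congr 1
  exact Ideal.mk_ker

theorem idl_injective (R : CommRingCat.{u}) : Function.Injective (idl R) := by
  intro J J' h
  have h1 := (Scheme.IdealSheafData.equivOfIsAffine (X := Spec R)).symm.injective h
  have hsurj : Function.Surjective (Scheme.ΓSpecIso R).hom.hom :=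
    (ConcreteCategory.bijective_of_isIso (Scheme.ΓSpecIso R).hom).2
  exact Ideal.comap_injective_of_surjective _ hsurj h1

theorem idl_pow (R : CommRingCat.{u}) (J : Ideal R) (k : ℕ) : idl R (J ^ k) = (idl R J) ^ k := by
  unfold idl
  rw [comap_ΓSpecIso_pow, ofIdealTop_pow]

theorem idl_comap {A B : CommRingCat.{u}} (φ : B ⟶ A) (K : Ideal B) :
    (idl B K).comap (Spec.map φ) = idl A (K.map φ.hom) := by
  rw [← ker_SpecMap_mk, ← ker_SpecMap_mk]
  have h := isPullback_SpecMap_of_isPushout _ _ _ _ (isPushout_mk φ K)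
  have : IsClosedImmersion (Spec.map (CommRingCat.ofHom (Ideal.Quotient.mk K))) :=
    IsClosedImmersion.spec_of_surjective _ Ideal.Quotient.mk_surjective
  exact (ker_fst_of_isPullback h).symm

section SpfMap

variable (A B : Type u) [CommRing A] [CommRing B] (I : Ideal A) (K : Ideal B) (φ : B →+* A)
  (h : K ≤ I.comap φ)

theorem ker_spfTrans' {m n : ℕ} (hmn : m ≤ n) :
    (spfTrans A I hmn).ker = idl (CommRingCat.of (A ⧸ I ^ (n + 1)))
      ((I ^ (m + 1)).map (Ideal.Quotient.mk (I ^ (n + 1)))) := ker_spfTrans A I hmn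

theorem map_quotPowMap (m n : ℕ) :
    ((K ^ m).map (Ideal.Quotient.mk (K ^ (n + 1)))).map (FSch.quotPowMap I K φ h n) =
      ((K.map φ) ^ m).map (Ideal.Quotient.mk (I ^ (n + 1))) := by
  rw [Ideal.map_map]
  have : (FSch.quotPowMap I K φ h n).comp (Ideal.Quotient.mk (K ^ (n + 1))) =
      (Ideal.Quotient.mk (I ^ (n + 1))).comp φ := Ideal.quotientMap_comp_mk _
  rw [this, ← Ideal.map_map, Ideal.map_pow]

theorem spfMap_sq_iff_aux (n : ℕ) :
    IsPullback (spfTrans A I (Nat.le_add_right n 1))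
      (Spec.map (CommRingCat.ofHom (FSch.quotPowMap I K φ h n)))
      (Spec.map (CommRingCat.ofHom (FSch.quotPowMap I K φ h (n + 1))))
      (spfTrans B K (Nat.le_add_right n 1)) ↔
    ((K.map φ) ^ (n + 1)).map (Ideal.Quotient.mk (I ^ (n + 1 + 1))) =
      (I ^ (n + 1)).map (Ideal.Quotient.mk (I ^ (n + 1 + 1))) := by
  have hcomp : (idl (CommRingCat.of (B ⧸ K ^ (n + 1 + 1)))
      ((K ^ (n + 1)).map (Ideal.Quotient.mk (K ^ (n + 1 + 1))))).comap
      (Spec.map (CommRingCat.ofHom (FSch.quotPowMap I K φ h (n + 1)))) =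
      idl (CommRingCat.of (A ⧸ I ^ (n + 1 + 1)))
        (((K.map φ) ^ (n + 1)).map (Ideal.Quotient.mk (I ^ (n + 1 + 1)))) := by
    rw [idl_comap]
    congr 1
    exact map_quotPowMap A B I K φ h (n + 1) (n + 1)
  have hciB : IsClosedImmersion (spfTrans B K (Nat.le_add_right n 1)) :=
    isClosedImmersion_spfTrans B K _
  have hciA : IsClosedImmersion (spfTrans A I (Nat.le_add_right n 1)) :=
    isClosedImmersion_spfTrans A I _
  constructor
  · intro hp
    have h1 := ker_fst_of_isPullback hp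
    rw [ker_spfTrans', ker_spfTrans', hcomp] at h1
    exact (idl_injective _ h1).symm
  · intro heq
    refine isPullback_of_isClosedImmersion _ _ _ _
      ((FSch.spfMap I K φ h : FSch.Hom _ _).comm n).symm ?_
    rw [ker_spfTrans', ker_spfTrans', hcomp, heq]

theorem spfMap_sq_iff (n : ℕ) :
    IsPullback ((FSch.spf A I).ι n) ((FSch.spfMap I K φ h : FSch.Hom _ _).app n)
      ((FSch.spfMap I K φ h : FSch.Hom _ _).app (n + 1)) ((FSch.spf B K).ι n) ↔
    ((K.map φ) ^ (n + 1)).map (Ideal.Quotient.mk (I ^ (n + 1 + 1))) =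
      (I ^ (n + 1)).map (Ideal.Quotient.mk (I ^ (n + 1 + 1))) :=
  spfMap_sq_iff_aux A B I K φ h n

theorem isAdicHom_spfMap_iff [IsNoetherianRing A] [IsAdicComplete I A] :
    FSch.IsAdicHom (FSch.spfMap I K φ h) ↔ K.map φ = I := by
  constructor
  · intro hadic
    have h0 := (spfMap_sq_iff A B I K φ h 0).mp (hadic 0)
    have h1 := congrArg (Ideal.comap (Ideal.Quotient.mk (I ^ (0 + 1 + 1)))) h0
    rw [Ideal.comap_map_of_surjective _ Ideal.Quotient.mk_surjective,
      Ideal.comap_map_of_surjective _ Ideal.Quotient.mk_surjective,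
      ← RingHom.ker_eq_comap_bot, Ideal.mk_ker] at h1
    simp only [zero_add, pow_one] at h1
    apply le_antisymm (Ideal.map_le_iff_le_comap.mpr h)
    apply Submodule.le_of_le_smul_of_le_jacobson_bot (IsNoetherian.noetherian I)
      (IsAdicComplete.le_jacobson_bot I)
    calc I ≤ I ⊔ I ^ (1 + 1) := le_sup_left
      _ = K.map φ ⊔ I ^ (1 + 1) := h1.symm
      _ = K.map φ ⊔ I • I := by rw [pow_succ, pow_one, smul_eq_mul]
  · intro heq n
    rw [spfMap_sq_iff, heq]

end SpfMap

end Groth.Agent.Lib.Helper54.FSchSpf
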