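import Mathlib
import Groth.Agent.Lib.Helper55.FL.StalkFlat
import Groth.Agent.Lib.Helper55.FL.LocalCrit

/-!
# Flatness, completion along a principal ideal, and affine charts (helper54)

Ring level:
* `eq_zero_of_smul_eq_zero`: if `Â ⊗_A B` is flat over the `I`-adic completion `Â` (A Noetherian),
  `I ≤ (p)`, `p` a nonzerodivisor of `A`, then `p` is a nonzerodivisor on `B`.
* `flat_atPrime_of_fibre`: fibre criterion along a principal ideal: `B/pB` flat over `A/pA`,
  `p` regular on `B` ⇒ `B_q` flat over `A` for primes `q ∋ p` (Noetherian).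
Scheme level (charts `ψ : Spec R ⟶ X` of `h : X ⟶ Spec A`, `Spec.map β = ψ ≫ h`):
* `stalkMap_flat_iff_chart`, `flat_tensor_of_flat_snd`, `regular_of_flat_comp`,
  `flat_snd_of_isPullback`.
-/

set_option autoImplicit false
universe u

open TensorProduct

namespace Groth.Agent.Lib.Helper54.FibreFlat
/-- R1: if `Â ⊗_A B` is flat over the `I`-adic completion `Â` of the Noetherian ring `A`,
`I ≤ (p)` and `p` is a nonzerodivisor of `A`, then `p` is a nonzerodivisor on `B`. -/
theorem eq_zero_of_smul_eq_zero {A B : Type u} [CommRing A] [IsNoetherianRing A] [CommRing B]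
    [Algebra A B] (I : Ideal A) (p : A) (hIp : I ≤ Ideal.span {p}) (hp : p ∈ nonZeroDivisors A)
    [Module.Flat (AdicCompletion I A) (AdicCompletion I A ⊗[A] B)]
    (b : B) (hb : p • b = 0) : b = 0 := by
  have hfl : Module.Flat A (AdicCompletion I A ⊗[A] B) :=
    Module.Flat.trans A (AdicCompletion I A) _
  have hreg : IsSMulRegular (AdicCompletion I A ⊗[A] B) p :=
    Module.Flat.isSMulRegular_of_nonZeroDivisors hp
  have h0 : (1 : AdicCompletion I A) ⊗ₜ[A] b = 0 := by
    apply hreg
    simp only [smul_zero]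
    rw [TensorProduct.smul_tmul', TensorProduct.smul_tmul, hb, tmul_zero]
  let M : Submodule A B := Submodule.span A {b}
  have hIM : I • (⊤ : Submodule A M) = ⊥ := by
    rw [eq_bot_iff, Submodule.smul_le]
    rintro i hi ⟨m, hm⟩ -
    obtain ⟨a, rfl⟩ := Ideal.mem_span_singleton'.mp (hIp hi)
    obtain ⟨c, rfl⟩ := Submodule.mem_span_singleton.mp hm
    rw [Submodule.mem_bot]
    apply Subtype.ext
    show (a * p) • c • b = 0
    rw [smul_comm, mul_smul, hb, smul_zero, smul_zero]
  have hinj : Function.Injective (M.subtype.lTensor (AdicCompletion I A)) :=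
    Module.Flat.lTensor_preserves_injective_linearMap _ M.injective_subtype
  have hx : (1 : AdicCompletion I A) ⊗ₜ[A] (⟨b, Submodule.mem_span_singleton_self b⟩ : M) = 0 := by
    apply hinj
    rw [LinearMap.lTensor_tmul, map_zero]
    exact h0
  have h1 := congrArg ((AdicCompletion.evalOneₐ I).toLinearMap.rTensor M) hx
  rw [LinearMap.rTensor_tmul, map_zero] at h1
  have h2 := congrArg (TensorProduct.quotTensorEquivQuotSMul M I) h1
  rw [map_zero] at h2
  have h3 : (AdicCompletion.evalOneₐ I).toLinearMap (1 : AdicCompletion I A) =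
      Ideal.Quotient.mk I 1 := by
    simp
  rw [h3, TensorProduct.quotTensorEquivQuotSMul_mk_tmul, one_smul,
    Submodule.Quotient.mk_eq_zero, hIM, Submodule.mem_bot] at h2
  exact congrArg Subtype.val h2

/-- R2: fibre criterion along a principal ideal `(p)`. -/
theorem flat_atPrime_of_fibre {A B : Type u} [CommRing A] [CommRing B] [Algebra A B]
    [IsNoetherianRing A] [IsNoetherianRing B] (I : Ideal A) (p : A) (hI : I = Ideal.span {p})
    (hflat : Module.Flat (A ⧸ I) ((A ⧸ I) ⊗[A] B))
    (hreg : ∀ b : B, p • b = 0 → b = 0)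
    (q : Ideal B) [q.IsPrime] (hq : algebraMap A B p ∈ q) :
    Module.Flat A (Localization.AtPrime q) := by
  subst hI
  refine Groth.Agent.Lib.Helper55.FL.flat_localization_of_ker_killed (Ideal.span {p}) q ?_ hflat ?_
  · rw [Ideal.map_span, Set.image_singleton, Ideal.span_le, Set.singleton_subset_iff]
    exact hq
  · intro z hz
    refine ⟨1, q.primeCompl.one_mem, ?_⟩
    rw [one_smul]
    have key : ∀ z : B ⊗[A] (Ideal.span {p} : Ideal A),
        ∃ b : B, z = b ⊗ₜ[A] (⟨p, Ideal.mem_span_singleton_self p⟩ : Ideal.span {p}) := by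
      intro z
      induction z using TensorProduct.induction_on with
      | zero => exact ⟨0, (zero_tmul _ _).symm⟩
      | tmul b i =>
        obtain ⟨i, hi⟩ := i
        obtain ⟨a, rfl⟩ := Ideal.mem_span_singleton'.mp hi
        refine ⟨a • b, ?_⟩
        rw [TensorProduct.smul_tmul]
        congr 1
      | add x y hx hy =>
        obtain ⟨b₁, rfl⟩ := hx
        obtain ⟨b₂, rfl⟩ := hy
        exact ⟨b₁ + b₂, (add_tmul _ _ _).symm⟩
    obtain ⟨b, rfl⟩ := key z
    rw [LinearMap.lTensor_tmul] at hz
    have h1 := congrArg (TensorProduct.rid A B) hz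
    rw [map_zero, TensorProduct.rid_tmul] at h1
    have h2 : b = 0 := hreg b h1
    rw [h2, zero_tmul]

section Chart

open AlgebraicGeometry CategoryTheory Limits

variable {X : Scheme.{u}} {A : Type u} [CommRing A] (h : X ⟶ Spec (.of A))
  {R : CommRingCat.{u}} (ψ : Spec R ⟶ X) [IsOpenImmersion ψ] (β : CommRingCat.of A ⟶ R)
  (hβ : Spec.map β = ψ ≫ h)

set_option backward.isDefEq.respectTransparency false in
include hβ in
/-- L3: flatness of the stalk map at a point of an affine chart. -/
theorem stalkMap_flat_iff_chart (q : PrimeSpectrum R) :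
    (h.stalkMap (ψ q)).hom.Flat ↔
      (letI := β.hom.toAlgebra; Module.Flat A (Localization.AtPrime q.asIdeal)) := by
  let _ := β.hom.toAlgebra
  have h1 : ((ψ ≫ h).stalkMap q).hom.Flat ↔ (h.stalkMap (ψ q)).hom.Flat := by
    rw [Scheme.Hom.stalkMap_comp]
    exact RingHom.Flat.respectsIso.cancel_right_isIso _ _
  rw [← h1, ← hβ, RingHom.Flat.respectsIso.arrow_mk_iso_iff (Scheme.arrowStalkMapSpecIso β q),
    CommRingCat.hom_ofHom]
  exact Groth.Agent.Lib.Helper55.FL.flat_localRingHom_iff _ _

include hβ in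
/-- L1: chart of a base change. -/
theorem flat_tensor_of_flat_snd (T : Type u) [CommRing T] [Algebra A T]
    (hfl : Flat (pullback.snd h (Spec.map (CommRingCat.ofHom (algebraMap A T))))) :
    letI := β.hom.toAlgebra
    Module.Flat T (T ⊗[A] R) := by
  let _ := β.hom.toAlgebra
  have h1 : Flat (pullback.fst (Spec.map (CommRingCat.ofHom (algebraMap A T))) h) := by
    rw [← pullbackSymmetry_hom_comp_snd]
    infer_instance
  have e₁ : Spec.map (CommRingCat.ofHom (algebraMap A T)) ≫ 𝟙 _ =
      𝟙 _ ≫ Spec.map (CommRingCat.ofHom (algebraMap A T)) := by simp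
  have e₂ : Spec.map (CommRingCat.ofHom (algebraMap A R)) ≫ 𝟙 _ = ψ ≫ h := by
    rw [Category.comp_id, ← hβ]
    rfl
  let o := pullback.map (Spec.map (CommRingCat.ofHom (algebraMap A T)))
    (Spec.map (CommRingCat.ofHom (algebraMap A R))) (Spec.map (CommRingCat.ofHom (algebraMap A T))) h
    (𝟙 _) ψ (𝟙 _) e₁ e₂
  have h3 : Flat (pullback.fst (Spec.map (CommRingCat.ofHom (algebraMap A T)))
      (Spec.map (CommRingCat.ofHom (algebraMap A R)))) := by
    have : o ≫ pullback.fst (Spec.map (CommRingCat.ofHom (algebraMap A T))) h =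
        pullback.fst _ _ ≫ 𝟙 _ := pullback.lift_fst _ _ _
    rw [Category.comp_id] at this
    rw [← this]
    have ho : IsOpenImmersion o := Scheme.pullback_map_isOpenImmersion _ _ _ _ _ _ _ e₁ e₂
    infer_instance
  have h4 : Flat (Spec.map (CommRingCat.ofHom (algebraMap T (T ⊗[A] R)))) := by
    rw [← pullbackSpecIso_inv_fst' A T R]
    infer_instance
  have h5 := (HasRingHomProperty.Spec_iff (P := @Flat)).mp h4
  exact RingHom.flat_algebraMap_iff.mp h5

include hβ in
/-- L2: flatness over a further base gives regularity of nonzerodivisors on charts. -/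
theorem regular_of_flat_comp {V : Type u} [CommRing V] [Algebra V A]
    (hfl : Flat (h ≫ Spec.map (CommRingCat.ofHom (algebraMap V A)))) (π : V)
    (hπ : π ∈ nonZeroDivisors V) (r : R) (hr : β.hom (algebraMap V A π) * r = 0) : r = 0 := by
  have h1 : Flat (ψ ≫ h ≫ Spec.map (CommRingCat.ofHom (algebraMap V A))) := inferInstance
  rw [← Category.assoc, ← hβ, ← Spec.map_comp] at h1
  have h2 := (HasRingHomProperty.Spec_iff (P := @Flat)).mp h1
  let _ := (CommRingCat.ofHom (algebraMap V A) ≫ β).hom.toAlgebra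
  have h3 : Module.Flat V R := h2
  have h4 : IsSMulRegular R π := Module.Flat.isSMulRegular_of_nonZeroDivisors hπ
  apply h4
  simp only [smul_zero]
  rw [Algebra.smul_def]
  exact hr

/-- Base change of a flat morphism presented by a pullback square, followed by a further base
change. -/
theorem flat_snd_of_isPullback {X X' S T T' : Scheme.{u}} {h : X ⟶ S} {k : T ⟶ S} {t : X' ⟶ X}
    {f' : X' ⟶ T} (sq : IsPullback t f' h k) (k' : T' ⟶ T) [Flat f'] (k'' : T' ⟶ S)
    (hk : k'' = k' ≫ k) : Flat (pullback.snd h k'') := by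
  subst hk
  have sq2 := IsPullback.of_hasPullback f' k'
  have big := sq2.paste_horiz sq
  rw [← big.isoPullback_inv_snd]
  infer_instance

end Chart

end Groth.Agent.Lib.Helper54.FibreFlat
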