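import Mathlib
import Groth.Prelude.Def_GrassD
import Groth.Agent.Lib.Helper40.LimLocFree3
import Groth.Agent.Lib.Helper24.QuotBCComp

/-!
# Forgetting the last step of a partial flag scheme is a Grassmannian bundle
-/

universe u
set_option linter.style.haveILetI false
open CategoryTheory AlgebraicGeometry

namespace Groth.Agent.Lib.Helper54.FlagGrass

section QB

variable {X G T : Scheme.{u}} {π : G ⟶ X} {E : X.Modules} {Q Q' : G.Modules}

theorem quotBC_map {h : T ⟶ G} {g : T ⟶ X} (hg : h ≫ π = g)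
    (q : (Scheme.Modules.pullback π).obj E ⟶ Q) (t : Q ⟶ Q') :
    Grass.quotBC hg q ≫ (Scheme.Modules.pullback h).map t = Grass.quotBC hg (q ≫ t) := by
  simp [Grass.quotBC]

theorem quotBC_congr {h h' : T ⟶ G} (hh : h = h') {g : T ⟶ X} (hg : h ≫ π = g) (hg' : h' ≫ π = g)
    (q : (Scheme.Modules.pullback π).obj E ⟶ Q) :
    Grass.quotBC hg q ≫ (Scheme.Modules.pullbackCongr hh).hom.app Q = Grass.quotBC hg' q := by
  subst hh
  simp [Grass.quotBC, Scheme.Modules.pullbackCongr]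

theorem epi_quotBC {h : T ⟶ G} {g : T ⟶ X} (hg : h ≫ π = g)
    (q : (Scheme.Modules.pullback π).obj E ⟶ Q) [Epi q] : Epi (Grass.quotBC hg q) := by
  unfold Grass.quotBC
  infer_instance

theorem quotBC_comp {G' : Scheme.{u}} {π' : G' ⟶ X} {ρ : G' ⟶ G} (hρ : ρ ≫ π = π') {k : T ⟶ G'}
    {g : T ⟶ X} (hk : k ≫ π' = g) (hkρ : (k ≫ ρ) ≫ π = g)
    (q : (Scheme.Modules.pullback π).obj E ⟶ Q) :
    Grass.quotBC hk (Grass.quotBC hρ q) ≫ (Scheme.Modules.pullbackComp k ρ).hom.app Q =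
      Grass.quotBC hkρ q :=
  Groth.Agent.Lib.Helper24.QuotBCComp.quotBC_comp hρ hk hkρ q

end QB

section main

variable {X F F' : Scheme.{u}} {π : F ⟶ X} {π' : F' ⟶ X} {E : X.Modules} {m : ℕ}
  {n : Fin (m + 2) → ℕ} {Q : Fin (m + 1) → F.Modules}
  {q : ∀ i, (Scheme.Modules.pullback π).obj E ⟶ Q i}
  {Q' : Fin (m + 2) → F'.Modules} {q' : ∀ i, (Scheme.Modules.pullback π').obj E ⟶ Q' i}

/-- two-level coherence: the base change of `q' last` along `h` through `ρ`. -/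
theorem key {ρ : F' ⟶ F} (hρ : ρ ≫ π = π')
    (ε : ∀ i, (Scheme.Modules.pullback ρ).obj (Q i) ≅ Q' (Fin.castSucc i))
    (hε : ∀ i, Grass.quotBC hρ (q i) ≫ (ε i).hom = q' (Fin.castSucc i))
    (t : Q' (Fin.castSucc (Fin.last m)) ⟶ Q' (Fin.last (m + 1)))
    (ht : q' (Fin.castSucc (Fin.last m)) ≫ t = q' (Fin.last (m + 1)))
    {T : Scheme.{u}} {g : T ⟶ F} {h : T ⟶ F'} (hgρ : h ≫ ρ = g) (hh : h ≫ π' = g ≫ π) :
    Grass.quotBC (rfl : g ≫ π = g ≫ π) (q (Fin.last m)) ≫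
        Grass.quotBC hgρ ((ε (Fin.last m)).hom ≫ t) =
      Grass.quotBC hh (q' (Fin.last (m + 1))) := by
  have hkρ : (h ≫ ρ) ≫ π = g ≫ π := by rw [hgρ]
  have h1 : Grass.quotBC (rfl : g ≫ π = g ≫ π) (q (Fin.last m)) ≫
      (Scheme.Modules.pullbackCongr hgρ).inv.app (Q (Fin.last m)) =
      Grass.quotBC hkρ (q (Fin.last m)) := by
    rw [← quotBC_congr hgρ hkρ rfl (q (Fin.last m)), Category.assoc, Iso.hom_inv_id_app]
    exact Category.comp_id _
  have h2 : Grass.quotBC hkρ (q (Fin.last m)) ≫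
      (Scheme.Modules.pullbackComp h ρ).inv.app (Q (Fin.last m)) =
      Grass.quotBC hh (Grass.quotBC hρ (q (Fin.last m))) := by
    rw [← quotBC_comp hρ hh hkρ (q (Fin.last m)), Category.assoc, Iso.hom_inv_id_app]
    exact Category.comp_id _
  calc Grass.quotBC (rfl : g ≫ π = g ≫ π) (q (Fin.last m)) ≫
        Grass.quotBC hgρ ((ε (Fin.last m)).hom ≫ t)
      = (Grass.quotBC (rfl : g ≫ π = g ≫ π) (q (Fin.last m)) ≫
          (Scheme.Modules.pullbackCongr hgρ).inv.app (Q (Fin.last m))) ≫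
          (Scheme.Modules.pullbackComp h ρ).inv.app (Q (Fin.last m)) ≫
          (Scheme.Modules.pullback h).map ((ε (Fin.last m)).hom ≫ t) := by
        simp only [Grass.quotBC, Category.assoc]
    _ = Grass.quotBC hh (Grass.quotBC hρ (q (Fin.last m))) ≫
          (Scheme.Modules.pullback h).map ((ε (Fin.last m)).hom ≫ t) := by
        rw [h1, ← Category.assoc, h2]
    _ = Grass.quotBC hh (q' (Fin.last (m + 1))) := by
        rw [quotBC_map, ← Category.assoc, hε, ht]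

/-- one-level coherence for the first `m+1` steps. -/
theorem key2 {ρ : F' ⟶ F} (hρ : ρ ≫ π = π')
    (ε : ∀ i, (Scheme.Modules.pullback ρ).obj (Q i) ≅ Q' (Fin.castSucc i))
    (hε : ∀ i, Grass.quotBC hρ (q i) ≫ (ε i).hom = q' (Fin.castSucc i))
    {T : Scheme.{u}} {gX : T ⟶ X} {h : T ⟶ F'} (hh : h ≫ π' = gX) (hkρ : (h ≫ ρ) ≫ π = gX)
    (i : Fin (m + 1)) :
    Grass.quotBC hh (q' (Fin.castSucc i)) ≫ (Scheme.Modules.pullback h).map (ε i).inv ≫
        (Scheme.Modules.pullbackComp h ρ).hom.app (Q i) =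
      Grass.quotBC hkρ (q i) := by
  rw [← hε i, ← quotBC_map, Category.assoc, ← Category.assoc ((Scheme.Modules.pullback h).map _),
    ← CategoryTheory.Functor.map_comp, Iso.hom_inv_id, CategoryTheory.Functor.map_id,
    Category.id_comp, quotBC_comp hρ hh hkρ (q i)]

set_option maxHeartbeats 1600000 in
theorem main (hF : Grass.IsFlag π E (fun i => n (Fin.castSucc i)) Q q)
    (hF' : Grass.IsFlag π' E n Q' q') {ρ : F' ⟶ F} (hρ : ρ ≫ π = π')
    (ε : ∀ i, (Scheme.Modules.pullback ρ).obj (Q i) ≅ Q' (Fin.castSucc i))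
    (hε : ∀ i, Grass.quotBC hρ (q i) ≫ (ε i).hom = q' (Fin.castSucc i))
    (t : Q' (Fin.castSucc (Fin.last m)) ⟶ Q' (Fin.last (m + 1)))
    (ht : q' (Fin.castSucc (Fin.last m)) ≫ t = q' (Fin.last (m + 1))) :
    Grass.IsGrass ρ (Q (Fin.last m)) (n (Fin.last (m + 1))) (Q' (Fin.last (m + 1)))
      ((ε (Fin.last m)).hom ≫ t) := by
  haveI hepi' : ∀ j, Epi (q' j) := hF'.epi
  haveI hepi : ∀ i, Epi (q i) := hF.epi
  have htepi : Epi t := by
    have : Epi (q' (Fin.castSucc (Fin.last m)) ≫ t) := by rw [ht]; infer_instance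
    exact epi_of_epi (q' (Fin.castSucc (Fin.last m))) t
  refine ⟨hF'.rank (Fin.last (m + 1)), inferInstance, ?_⟩
  intro T g L hL s hs
  haveI := hs
  -- the nested family of type `n` on `T`
  let Sg := Σ' (M : T.Modules), ((Scheme.Modules.pullback (g ≫ π)).obj E ⟶ M)
  let dcs : Fin (m + 1) → Sg := fun i =>
    ⟨(Scheme.Modules.pullback g).obj (Q i), Grass.quotBC (rfl : g ≫ π = g ≫ π) (q i)⟩
  let dlast : Sg := ⟨L, Grass.quotBC (rfl : g ≫ π = g ≫ π) (q (Fin.last m)) ≫ s⟩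
  let D : Fin (m + 2) → Sg := fun j => Fin.lastCases (motive := fun _ => Sg) dlast dcs j
  have hDl : D (Fin.last (m + 1)) = dlast := Fin.lastCases_last
  have hDc : ∀ i, D (Fin.castSucc i) = dcs i := fun i => Fin.lastCases_castSucc i
  -- rank
  have P1 : ∀ j, FlatMod.IsFinLocFreeOfRank (n j) (D j).1 := by
    intro j
    refine Fin.lastCases ?_ (fun i => ?_) j
    · rw [hDl]; exact hL
    · rw [hDc i]
      exact Groth.Agent.Lib.Helper40.LimLocFree.isFinLocFreeOfRank_pullback g _ (hF.rank i)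
  -- epi
  have P2 : ∀ j, Epi (D j).2 := by
    intro j
    refine Fin.lastCases ?_ (fun i => ?_) j
    · rw [hDl]
      haveI := epi_quotBC (rfl : g ≫ π = g ≫ π) (q (Fin.last m))
      exact epi_comp _ s
    · rw [hDc i]
      exact epi_quotBC (rfl : g ≫ π = g ≫ π) (q i)
  -- nested, first for the truncated family
  have N0 : ∀ i i' : Fin (m + 1), i ≤ i' → ∃ τ : (dcs i).1 ⟶ (dcs i').1, (dcs i).2 ≫ τ = (dcs i').2 := by
    intro i i' hii'
    obtain ⟨τ, hτ⟩ := hF.nested i i' hii'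
    exact ⟨(Scheme.Modules.pullback g).map τ, by
      show Grass.quotBC _ (q i) ≫ _ = Grass.quotBC _ (q i')
      rw [quotBC_map, hτ]⟩
  have P3 : ∀ j j', j ≤ j' → ∃ τ : (D j).1 ⟶ (D j').1, (D j).2 ≫ τ = (D j').2 := by
    intro j j'
    refine Fin.lastCases ?_ (fun i' => ?_) j'
    · refine Fin.lastCases ?_ (fun i => ?_) j
      · intro _; exact ⟨𝟙 _, Category.comp_id _⟩
      · intro _
        rw [hDc i, hDl]
        obtain ⟨τ, hτ⟩ := N0 i (Fin.last m) (Fin.le_last i)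
        exact ⟨τ ≫ s, by
          show (dcs i).2 ≫ τ ≫ s = (dcs (Fin.last m)).2 ≫ s
          rw [← Category.assoc, hτ]⟩
    · refine Fin.lastCases ?_ (fun i => ?_) j
      · intro hle
        exact absurd hle (not_le.mpr (Fin.castSucc_lt_last i'))
      · intro hle
        rw [hDc i, hDc i']
        exact N0 i i' (Fin.castSucc_le_castSucc_iff.mp hle)
  -- truncated family data
  have R0 : ∀ i, FlatMod.IsFinLocFreeOfRank (n (Fin.castSucc i)) (dcs i).1 := fun i =>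
    Groth.Agent.Lib.Helper40.LimLocFree.isFinLocFreeOfRank_pullback g _ (hF.rank i)
  have E0 : ∀ i, Epi (dcs i).2 := fun i => epi_quotBC (rfl : g ≫ π = g ≫ π) (q i)
  -- existence
  obtain ⟨h, ⟨hh, e', he'⟩, huniq⟩ := hF'.univ T (g ≫ π) (fun j => (D j).1) P1 (fun j => (D j).2) P2 P3
  -- extraction of the isomorphisms
  have Xc : ∀ (h : T ⟶ F') (hh : h ≫ π' = g ≫ π) (i : Fin (m + 1)) (d : Sg), d = dcs i →
      (∃ e : (Scheme.Modules.pullback h).obj (Q' (Fin.castSucc i)) ≅ d.1,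
        Grass.quotBC hh (q' (Fin.castSucc i)) ≫ e.hom = d.2) →
      ∃ e : (Scheme.Modules.pullback h).obj (Q' (Fin.castSucc i)) ≅
          (Scheme.Modules.pullback g).obj (Q i),
        Grass.quotBC hh (q' (Fin.castSucc i)) ≫ e.hom = Grass.quotBC (rfl : g ≫ π = g ≫ π) (q i) := by
    rintro h hh i _ rfl H
    exact H
  have Xl : ∀ (h : T ⟶ F') (hh : h ≫ π' = g ≫ π) (d : Sg), d = dlast →
      (∃ e : (Scheme.Modules.pullback h).obj (Q' (Fin.last (m + 1))) ≅ d.1,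
        Grass.quotBC hh (q' (Fin.last (m + 1))) ≫ e.hom = d.2) →
      ∃ e : (Scheme.Modules.pullback h).obj (Q' (Fin.last (m + 1))) ≅ L,
        Grass.quotBC hh (q' (Fin.last (m + 1))) ≫ e.hom =
          Grass.quotBC (rfl : g ≫ π = g ≫ π) (q (Fin.last m)) ≫ s := by
    rintro h hh _ rfl H
    exact H
  have ec : ∀ i, ∃ e : (Scheme.Modules.pullback h).obj (Q' (Fin.castSucc i)) ≅
          (Scheme.Modules.pullback g).obj (Q i),
        Grass.quotBC hh (q' (Fin.castSucc i)) ≫ e.hom = Grass.quotBC (rfl : g ≫ π = g ≫ π) (q i) :=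
    fun i => Xc h hh i (D (Fin.castSucc i)) (hDc i) ⟨e' (Fin.castSucc i), he' (Fin.castSucc i)⟩
  obtain ⟨el, hel⟩ := Xl h hh (D (Fin.last (m + 1))) hDl ⟨e' (Fin.last (m + 1)), he' (Fin.last (m + 1))⟩
  choose ec hec using ec
  -- `h ≫ ρ = g`
  have hkρ : (h ≫ ρ) ≫ π = g ≫ π := by rw [Category.assoc, hρ, hh]
  have hgρ : h ≫ ρ = g := by
    refine (hF.univ T (g ≫ π) (fun i => (dcs i).1) R0 (fun i => (dcs i).2) E0 N0).unique
      ⟨hkρ, fun i => (Scheme.Modules.pullbackComp h ρ).symm.app (Q i) ≪≫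
        (Scheme.Modules.pullback h).mapIso (ε i) ≪≫ ec i, fun i => ?_⟩
      ⟨rfl, fun i => Iso.refl _, fun i => Category.comp_id _⟩
    show Grass.quotBC hkρ (q i) ≫ (Scheme.Modules.pullbackComp h ρ).inv.app (Q i) ≫
      (Scheme.Modules.pullback h).map (ε i).hom ≫ (ec i).hom = Grass.quotBC _ (q i)
    rw [← quotBC_comp hρ hh hkρ (q i), Category.assoc, Iso.hom_inv_id_app_assoc,
      ← Category.assoc, quotBC_map, hε i, hec i]
  refine ⟨h, ⟨hgρ, el, ?_⟩, ?_⟩
  · -- compatibility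
    haveI := E0 (Fin.last m)
    rw [← cancel_epi (Grass.quotBC (rfl : g ≫ π = g ≫ π) (q (Fin.last m))), ← Category.assoc,
      key hρ ε hε t ht hgρ hh, hel]
  · -- uniqueness
    rintro h₁ ⟨hg₁, e₁, c₁⟩
    have hh₁ : h₁ ≫ π' = g ≫ π := by rw [← hρ, ← Category.assoc, hg₁]
    have hkρ₁ : (h₁ ≫ ρ) ≫ π = g ≫ π := by rw [hg₁]
    apply huniq
    have A : ∀ j, ∃ e : (Scheme.Modules.pullback h₁).obj (Q' j) ≅ (D j).1,
        Grass.quotBC hh₁ (q' j) ≫ e.hom = (D j).2 := by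
      intro j
      refine Fin.lastCases ?_ (fun i => ?_) j
      · rw [hDl]
        refine ⟨e₁, ?_⟩
        show _ = Grass.quotBC (rfl : g ≫ π = g ≫ π) (q (Fin.last m)) ≫ s
        rw [← c₁, ← Category.assoc, key hρ ε hε t ht hg₁ hh₁]
      · rw [hDc i]
        refine ⟨(Scheme.Modules.pullback h₁).mapIso (ε i).symm ≪≫
          (Scheme.Modules.pullbackComp h₁ ρ).app (Q i) ≪≫
          (Scheme.Modules.pullbackCongr hg₁).app (Q i), ?_⟩
        show Grass.quotBC hh₁ (q' (Fin.castSucc i)) ≫ (Scheme.Modules.pullback h₁).map (ε i).inv ≫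
          (Scheme.Modules.pullbackComp h₁ ρ).hom.app (Q i) ≫
          (Scheme.Modules.pullbackCongr hg₁).hom.app (Q i) = Grass.quotBC _ (q i)
        rw [← Category.assoc, ← Category.assoc, Category.assoc (Grass.quotBC hh₁ _),
          key2 hρ ε hε hh₁ hkρ₁ i, quotBC_congr hg₁ hkρ₁ rfl (q i)]
    choose e'' he'' using A
    exact ⟨hh₁, e'', he''⟩

end main

end Groth.Agent.Lib.Helper54.FlagGrass
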