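import Mathlib

set_option autoImplicit false
universe u

open TensorProduct

namespace Groth.Agent.Lib.Helper54.FlatEpi

/-- The kernel of a ring hom from a ring to a field is prime. -/
lemma ker_isPrime {A K : Type*} [CommRing A] [Field K] [Algebra A K] :
    (RingHom.ker (algebraMap A K)).IsPrime := RingHom.ker_isPrime _

/-- (B') Generization of nonvanishing fibres of a flat module. -/
theorem nontrivial_fibre_of_flat {A : Type u} [CommRing A] {M : Type u} [AddCommGroup M] [Module A M]
    [Module.Flat A M] (K L : Type u) [Field K] [Field L] [Algebra A K] [Algebra A L]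
    (hle : RingHom.ker (algebraMap A L) ≤ RingHom.ker (algebraMap A K))
    (hK : Nontrivial (K ⊗[A] M)) : Nontrivial (L ⊗[A] M) := by
  classical
  set 𝔭 : Ideal A := RingHom.ker (algebraMap A K) with h𝔭
  have : 𝔭.IsPrime := RingHom.ker_isPrime _
  let A' := Localization.AtPrime 𝔭
  -- algebra structures A' → K, A' → L
  have hKu : ∀ y : 𝔭.primeCompl, IsUnit (algebraMap A K y) := fun y ↦ by
    rw [isUnit_iff_ne_zero]
    intro h0
    exact y.2 ((RingHom.mem_ker).mpr h0)
  have hLu : ∀ y : 𝔭.primeCompl, IsUnit (algebraMap A L y) := fun y ↦ by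
    rw [isUnit_iff_ne_zero]
    intro h0
    exact y.2 (hle ((RingHom.mem_ker).mpr h0))
  let algK : Algebra A' K := (IsLocalization.lift (M := 𝔭.primeCompl) (S := A') hKu).toAlgebra
  let algL : Algebra A' L := (IsLocalization.lift (M := 𝔭.primeCompl) (S := A') hLu).toAlgebra
  have : IsScalarTower A A' K := IsScalarTower.of_algebraMap_eq fun a ↦ by
    change _ = IsLocalization.lift hKu (algebraMap A A' a)
    rw [IsLocalization.lift_eq]
  have : IsScalarTower A A' L := IsScalarTower.of_algebraMap_eq fun a ↦ by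
    change _ = IsLocalization.lift hLu (algebraMap A A' a)
    rw [IsLocalization.lift_eq]
  let M' := A' ⊗[A] M
  -- K ⊗[A'] M' ≃ K ⊗[A] M
  let eK : K ⊗[A'] M' ≃ₗ[A'] K ⊗[A] M := AlgebraTensorModule.cancelBaseChange A A' A' K M
  let eL : L ⊗[A'] M' ≃ₗ[A'] L ⊗[A] M := AlgebraTensorModule.cancelBaseChange A A' A' L M
  have : Nontrivial (K ⊗[A'] M') := eK.toEquiv.nontrivial
  -- the maximal ideal of A' maps to zero in K
  have hmax : ∀ x ∈ IsLocalRing.maximalIdeal A', algebraMap A' K x = 0 := by
    intro x hx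
    obtain ⟨a, s, rfl⟩ := IsLocalization.exists_mk'_eq 𝔭.primeCompl x
    rw [IsLocalization.AtPrime.mk'_mem_maximal_iff A' 𝔭] at hx
    have h1 : algebraMap A' K (IsLocalization.mk' A' a s) * algebraMap A' K (algebraMap A A' s) =
        algebraMap A' K (algebraMap A A' a) := by
      rw [← map_mul, IsLocalization.mk'_spec]
    rw [← IsScalarTower.algebraMap_apply, ← IsScalarTower.algebraMap_apply] at h1
    have h2 : algebraMap A K a = 0 := (RingHom.mem_ker).mp hx
    rw [h2] at h1
    exact (mul_eq_zero.mp h1).resolve_right (hKu s).ne_zero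
  have : Module.FaithfullyFlat A' M' := by
    rw [Module.FaithfullyFlat.iff_flat_and_proper_ideal]
    refine ⟨inferInstance, fun I hI htop ↦ ?_⟩
    have hIle : I ≤ IsLocalRing.maximalIdeal A' := IsLocalRing.le_maximalIdeal hI
    -- K ⊗ M' is then trivial
    have : Subsingleton (K ⊗[A'] M') := by
      refine subsingleton_of_forall_eq 0 fun z ↦ ?_
      induction z using TensorProduct.induction_on with
      | zero => rfl
      | add x y hx hy => rw [hx, hy, add_zero]
      | tmul k m =>
        have hm : m ∈ I • (⊤ : Submodule A' M') := by rw [htop]; exact Submodule.mem_top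
        have key : ∀ r ∈ I, ∀ n : M', k ⊗ₜ[A'] (r • n) = 0 := fun r hr n ↦ by
          rw [TensorProduct.tmul_smul, TensorProduct.smul_tmul', Algebra.smul_def,
            hmax r (hIle hr), zero_mul, TensorProduct.zero_tmul]
        exact Submodule.smul_induction_on (p := fun x ↦ k ⊗ₜ[A'] x = 0) hm
          (fun r hr n _ ↦ key r hr n)
          (fun x y hx hy ↦ by rw [TensorProduct.tmul_add, hx, hy, add_zero])
    exact not_subsingleton _ this
  have : Nontrivial (L ⊗[A'] M') :=
    (Module.FaithfullyFlat.nontrivial_tensorProduct_iff_left A' L (N := M')).mpr inferInstance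
  exact eL.symm.toEquiv.nontrivial

/-- (R'') A finite `C`-module, flat over `A`, whose fibres at all minimal primes of `A` vanish,
is zero. -/
theorem subsingleton_of_flat_of_fibres {A : Type u} [CommRing A] {C : Type u} [CommRing C]
    [Algebra A C] {M : Type u} [AddCommGroup M] [Module A M] [Module C M] [IsScalarTower A C M]
    [Module.Finite C M] [Module.Flat A M]
    (h : ∀ 𝔭 ∈ minimalPrimes A, ∃ (K : Type u) (_ : Field K) (_ : Algebra A K),
      RingHom.ker (algebraMap A K) = 𝔭 ∧ Subsingleton (K ⊗[A] M)) : Subsingleton M := by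
  by_contra hM
  rw [not_subsingleton_iff_nontrivial] at hM
  obtain ⟨𝔮, h𝔮⟩ := Module.nonempty_support_of_nontrivial (R := C) (M := M)
  rw [Module.mem_support_iff_nontrivial_residueField_tensorProduct] at h𝔮
  let K := 𝔮.asIdeal.ResidueField
  have hKA : Nontrivial (K ⊗[A] M) :=
    Function.Surjective.nontrivial (TensorProduct.mapOfCompatibleSMul_surjective C A A K M)
  have hprime : (RingHom.ker (algebraMap A K)).IsPrime := RingHom.ker_isPrime _
  obtain ⟨𝔭, h𝔭, hle⟩ := Ideal.exists_minimalPrimes_le (bot_le : (⊥ : Ideal A) ≤ RingHom.ker (algebraMap A K))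
  obtain ⟨L, _, _, hL, hsub⟩ := h 𝔭 h𝔭
  have := nontrivial_fibre_of_flat (M := M) K L (hL ▸ hle) hKA
  exact not_subsingleton _ hsub

/-- (E) A flat algebra of finite type whose fibres at the minimal primes have rank `≤ 1`
(the structure map of the fibre is surjective) is an epimorphism of rings. -/
theorem isEpi_of_flat_of_fibres {A B : Type u} [CommRing A] [CommRing B] [Algebra A B]
    [Module.Flat A B] [Algebra.FiniteType A B]
    (h : ∀ 𝔭 ∈ minimalPrimes A, ∃ (K : Type u) (_ : Field K) (_ : Algebra A K),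
      RingHom.ker (algebraMap A K) = 𝔭 ∧ Function.Surjective (algebraMap K (K ⊗[A] B))) :
    Algebra.IsEpi A B := by
  classical
  let C := B ⊗[A] B
  let I : Ideal C := KaehlerDifferential.ideal A B
  have hfin : Module.Finite C I := Module.Finite.iff_fg.mpr (KaehlerDifferential.ideal_fg A B)
  -- the retraction `C → I`
  let μ : C →ₗ[A] B := (Algebra.TensorProduct.lmul' A : C →ₐ[A] B).toLinearMap
  let σ : B →ₗ[A] C := (Algebra.TensorProduct.includeLeft : B →ₐ[A] C).toLinearMap
  have hμσ : ∀ b, μ (σ b) = b := fun b ↦ by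
    change (Algebra.TensorProduct.lmul' A : C →ₐ[A] B) (b ⊗ₜ[A] (1 : B)) = b
    rw [Algebra.TensorProduct.lmul'_apply_tmul, mul_one]
  let r0 : C →ₗ[A] C := LinearMap.id - σ ∘ₗ μ
  have hr0 : ∀ c, r0 c ∈ I := fun c ↦ by
    change _ ∈ RingHom.ker _
    rw [RingHom.mem_ker]
    have : (Algebra.TensorProduct.lmul' A : C →ₐ[A] B) (r0 c) = μ (r0 c) := rfl
    rw [this]
    simp only [r0, LinearMap.sub_apply, LinearMap.id_coe, id_eq, LinearMap.coe_comp,
      Function.comp_apply, map_sub, hμσ, sub_self]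
  let r : C →ₗ[A] I := r0.codRestrict (I.restrictScalars A) hr0
  let incl : I →ₗ[A] C := (I.restrictScalars A).subtype
  have hri : r ∘ₗ incl = LinearMap.id := by
    refine LinearMap.ext fun x ↦ ?_
    have hx : μ (x : C) = 0 := (RingHom.mem_ker (f := (Algebra.TensorProduct.lmul' A : C →ₐ[A] B))).mp x.2
    apply Subtype.ext
    change r0 (x : C) = (x : C)
    simp only [r0, LinearMap.sub_apply, LinearMap.id_coe, id_eq, LinearMap.coe_comp,
      Function.comp_apply, hx, map_zero, sub_zero]
  have hflat : Module.Flat A I := Module.Flat.of_retract incl r hri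
  have hsub : Subsingleton I := by
    refine subsingleton_of_flat_of_fibres (A := A) (C := C) (M := I) fun 𝔭 h𝔭 ↦ ?_
    obtain ⟨K, hK1, hK2, hker, hsurj⟩ := h 𝔭 h𝔭
    refine ⟨K, hK1, hK2, hker, ?_⟩
    have hinj : Function.Injective (incl.lTensor K) := by
      have : (r.lTensor K) ∘ₗ (incl.lTensor K) = LinearMap.id := by
        rw [← LinearMap.lTensor_comp, hri, LinearMap.lTensor_id]
      exact Function.LeftInverse.injective (g := r.lTensor K) fun x ↦ by
        rw [← LinearMap.comp_apply, this, LinearMap.id_apply]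
    -- generators die in `K ⊗ C`
    have hgen : ∀ b : B, (1 : K) ⊗ₜ[A] ((1 : B) ⊗ₜ[A] b - b ⊗ₜ[A] (1 : B) : C) = 0 := by
      intro b
      obtain ⟨k, hk⟩ := hsurj ((1 : K) ⊗ₜ[A] b)
      have hk' : k ⊗ₜ[A] (1 : B) = (1 : K) ⊗ₜ[A] b := by
        rw [← hk, Algebra.TensorProduct.algebraMap_apply]; simp
      let ψ1 : K ⊗[A] B →ₗ[A] K ⊗[A] C :=
        (Algebra.TensorProduct.includeLeft : B →ₐ[A] C).toLinearMap.lTensor K
      let ψ2 : K ⊗[A] B →ₗ[A] K ⊗[A] C :=
        (Algebra.TensorProduct.includeRight : B →ₐ[A] C).toLinearMap.lTensor K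
      have e1 : ψ1 ((1 : K) ⊗ₜ[A] b) = (1 : K) ⊗ₜ[A] (b ⊗ₜ[A] (1 : B)) := by simp [ψ1]
      have e2 : ψ2 ((1 : K) ⊗ₜ[A] b) = (1 : K) ⊗ₜ[A] ((1 : B) ⊗ₜ[A] b) := by simp [ψ2]
      have e3 : ψ1 (k ⊗ₜ[A] (1 : B)) = ψ2 (k ⊗ₜ[A] (1 : B)) := by simp [ψ1, ψ2]
      rw [TensorProduct.tmul_sub, ← e1, ← e2, ← hk', e3, sub_self]
    have hall : ∀ c ∈ I, ∀ k : K, k ⊗ₜ[A] (c : C) = 0 := by
      intro c hc
      change c ∈ KaehlerDifferential.ideal A B at hc
      rw [← KaehlerDifferential.span_range_eq_ideal] at hc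
      induction hc using Submodule.span_induction with
      | mem x hx =>
        obtain ⟨b, rfl⟩ := hx
        intro k
        have := congrArg (fun z ↦ k • z) (hgen b)
        simpa [TensorProduct.smul_tmul'] using this
      | zero => intro k; simp
      | add x y _ _ hx hy => intro k; rw [TensorProduct.tmul_add, hx, hy, add_zero]
      | smul c' x _ hx =>
        intro k
        have : k ⊗ₜ[A] (c' • x) = ((1 : K) ⊗ₜ[A] c') * (k ⊗ₜ[A] x) := by
          rw [Algebra.TensorProduct.tmul_mul_tmul, one_mul, smul_eq_mul]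
        rw [this, hx, mul_zero]
    refine subsingleton_of_forall_eq 0 fun z ↦ hinj ?_
    rw [map_zero]
    induction z using TensorProduct.induction_on with
    | zero => simp
    | add x y hx hy => rw [map_add, hx, hy, add_zero]
    | tmul k x =>
      rw [LinearMap.lTensor_tmul]
      exact hall x.1 x.2 k
  rw [Algebra.isEpi_iff_forall_one_tmul_eq]
  intro b
  have hb : (⟨(1 : B) ⊗ₜ[A] b - b ⊗ₜ[A] (1 : B),
      KaehlerDifferential.one_smul_sub_smul_one_mem_ideal A b⟩ : I) = 0 := Subsingleton.elim _ _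
  exact sub_eq_zero.mp (congrArg Subtype.val hb)

end Groth.Agent.Lib.Helper54.FlatEpi
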