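import Mathlib
import Groth.Agent.Lib.Helper81.FppfGeomQuot4

set_option autoImplicit false
universe u
open CategoryTheory AlgebraicGeometry Limits Topology

namespace Groth.Agent.Lib.Helper54.GeomQuotDescent

open Groth.Agent.Lib.Helper81.SecA1

open TensorProduct in
/-- pushout of an injective ring map along a flat one is injective -/
theorem injective_of_isPushout {A B C D : CommRingCat.{u}} {f : A ⟶ B} {g : A ⟶ C} {f' : B ⟶ D}
    {g' : C ⟶ D} (h : IsPushout f g f' g') (hf : Function.Injective f.hom) (hg : g.hom.Flat) :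
    Function.Injective g'.hom := by
  let _ : Algebra A B := f.hom.toAlgebra
  let _ : Algebra A C := g.hom.toAlgebra
  have hfl : Module.Flat A C := hg
  have h2 := CommRingCat.isPushout_tensorProduct A B C
  have h' : IsPushout (CommRingCat.ofHom (algebraMap A B)) (CommRingCat.ofHom (algebraMap A C)) f' g' := h
  have e2 : g' = CommRingCat.ofHom (Algebra.TensorProduct.includeRight (R := A) (A := B) (B := C)).toRingHom ≫
      (h2.isoIsPushout _ _ h').hom := (h2.inr_isoIsPushout_hom _ _ h').symm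
  rw [e2]
  have hinj : Function.Injective (Algebra.TensorProduct.includeRight (R := A) (A := B) (B := C)) :=
    Algebra.TensorProduct.includeRight_injective hf
  have hiso : Function.Injective (h2.isoIsPushout _ _ h').hom.hom :=
    ((ConcreteCategory.isIso_iff_bijective (h2.isoIsPushout _ _ h').hom).mp inferInstance).1
  intro x y hxy
  apply hinj
  apply hiso
  exact hxy

/-- flat base change preserves injectivity of `O_Y → φ_* O_X` for qcqs `φ`. -/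
theorem injective_app_of_isPullback {X' Y' X'' Y'' : Scheme.{u}} {q₁ : X'' ⟶ X'} {φ'' : X'' ⟶ Y''}
    {φ' : X' ⟶ Y'} {p : Y'' ⟶ Y'} (H : IsPullback q₁ φ'' φ' p) [Flat p] [QuasiCompact φ']
    [QuasiSeparated φ'] (hinj : ∀ U' : Y'.Opens, Function.Injective (φ'.app U')) (V : Y''.Opens) :
    Function.Injective (φ''.app V) := by
  have key : ∀ (W' : Y'.Opens) (W'' : Y''.Opens), IsAffineOpen W' → IsAffineOpen W'' →
      W'' ≤ p ⁻¹ᵁ W' → Function.Injective (φ''.app W'') := by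
    intro W' W'' hW' hW'' hle
    have hUX : IsCompact (X := X') (φ' ⁻¹ᵁ W') := φ'.isCompact_preimage hW'.isCompact
    have hUX' : IsQuasiSeparated (α := X') (φ' ⁻¹ᵁ W') :=
      φ'.isQuasiSeparated_preimage hW'.isQuasiSeparated
    have hUY : φ'' ⁻¹ᵁ W'' = q₁ ⁻¹ᵁ (φ' ⁻¹ᵁ W') ⊓ φ'' ⁻¹ᵁ W'' := by
      apply le_antisymm
      · refine le_inf ?_ le_rfl
        intro x hx
        have hx' : φ''.base x ∈ W'' := hx
        have h1 : p.base (φ''.base x) ∈ W' := hle hx'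
        show φ'.base (q₁.base x) ∈ W'
        have h2 : φ'.base (q₁.base x) = p.base (φ''.base x) := by
          have := congrArg (fun f : X'' ⟶ Y' => f.base x) H.w
          simpa using this
        rw [h2]; exact h1
      · exact inf_le_right
    have hiso := isIso_pushoutSection_of_isQuasiSeparated_of_flat_right H hle le_rfl hUY hW' hW''
      hUX hUX'
    rw [isIso_pushoutSection_iff] at hiso
    have h3 := injective_of_isPushout hiso (by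
      rw [← Scheme.Hom.app_eq_appLE]; exact hinj W') (p.flat_appLE hW' hW'' hle)
    rw [Scheme.Hom.app_eq_appLE]
    exact h3
  intro s₁ s₂ h12
  have hcov : ∀ x : V, ∃ (W' : Y'.Opens) (W'' : Y''.Opens), IsAffineOpen W' ∧ IsAffineOpen W'' ∧
      W'' ≤ p ⁻¹ᵁ W' ∧ W'' ≤ V ∧ x.1 ∈ W'' := by
    intro x
    obtain ⟨_, ⟨W', hW', rfl⟩, hxW', -⟩ := (Y'.isBasis_affineOpens).exists_subset_of_mem_open
      (Set.mem_univ (p.base x.1)) isOpen_univ
    replace hW' : IsAffineOpen W' := hW'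
    obtain ⟨_, ⟨W'', hW'', rfl⟩, hxW'', hle⟩ := (Y''.isBasis_affineOpens).exists_subset_of_mem_open
      (show x.1 ∈ ((p ⁻¹ᵁ W' ⊓ V : Y''.Opens) : Set Y'') from ⟨hxW', x.2⟩) (p ⁻¹ᵁ W' ⊓ V).2
    replace hW'' : IsAffineOpen W'' := hW''
    exact ⟨W', W'', hW', hW'', fun y hy => (hle hy).1, fun y hy => (hle hy).2, hxW''⟩
  choose W' W'' hW' hW'' hle hleV hx using hcov
  refine Y''.sheaf.eq_of_locally_eq' W'' V (fun x => homOfLE (hleV x)) ?_ s₁ s₂ ?_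
  · intro y hy
    exact TopologicalSpace.Opens.mem_iSup.mpr ⟨⟨y, hy⟩, hx ⟨y, hy⟩⟩
  · intro x
    apply key (W' x) (W'' x) (hW' x) (hW'' x) (hle x)
    have := φ''.naturality (homOfLE (hleV x)).op
    have e1 := congrArg (fun f => f.hom s₁) this
    have e2 := congrArg (fun f => f.hom s₂) this
    simp only [CommRingCat.hom_comp, RingHom.comp_apply] at e1 e2
    erw [e1, e2]
    show _ = (X''.presheaf.map _).hom ((φ''.app V).hom s₂)
    rw [← h12]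

open Groth.Agent.Lib.Helper81.FppfGeomQuot in
theorem injective_app_of_flat_surjective {X Y : Scheme.{u}} (f : X ⟶ Y) [Flat f] [Surjective f]
    (U : Y.Opens) : Function.Injective (f.app U) := by
  have : Surjective (f ∣_ U) := IsZariskiLocalAtTarget.restrict (P := @Surjective) inferInstance U
  have : Epi (f ∣_ U) := Flat.epi_of_flat_of_surjective _
  intro g₁ g₂ h12
  apply val_ι_injective U
  rw [← cancel_epi (f ∣_ U), ← val_ι_app, ← val_ι_app, h12]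

/-- proof-free version of `val` -/
noncomputable def val' {T Z : Scheme.{u}} {V : T.Opens} (h : Z ⟶ T) (f : Γ(T, V)) : Z ⟶ A1.{u} :=
  open Classical in if e : ⊤ ≤ h ⁻¹ᵁ V then val h e f else sec 0

theorem val'_eq {T Z : Scheme.{u}} {V : T.Opens} (h : Z ⟶ T) (e : ⊤ ≤ h ⁻¹ᵁ V) (f : Γ(T, V)) :
    val' h f = val h e f := dif_pos e

theorem comp_val' {T Z Z' : Scheme.{u}} {V : T.Opens} (k : Z' ⟶ Z) (h : Z ⟶ T)
    (e : ⊤ ≤ h ⁻¹ᵁ V) (f : Γ(T, V)) : k ≫ val' h f = val' (k ≫ h) f := by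
  have e' : ⊤ ≤ (k ≫ h) ⁻¹ᵁ V := fun z _ => e (Set.mem_univ (k.base z))
  rw [val'_eq h e, val'_eq (k ≫ h) e', comp_val k h e e']

theorem val'_appLE {T T₂ Z : Scheme.{u}} {V : T.Opens} {W : T₂.Opens} (p : T₂ ⟶ T)
    (eW : W ≤ p ⁻¹ᵁ V) (h : Z ⟶ T₂) (e : ⊤ ≤ h ⁻¹ᵁ W) (f : Γ(T, V)) :
    val' h (p.appLE V W eW f) = val' (h ≫ p) f := by
  have e' : ⊤ ≤ (h ≫ p) ⁻¹ᵁ V := fun z _ => eW (e (Set.mem_univ z))
  rw [val'_eq h e, val'_eq (h ≫ p) e', val_appLE p eW h e e']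

theorem val'_app {T T₂ Z : Scheme.{u}} (p : T₂ ⟶ T) (V : T.Opens) (h : Z ⟶ T₂)
    (e : ⊤ ≤ h ⁻¹ᵁ (p ⁻¹ᵁ V)) (f : Γ(T, V)) : val' h (p.app V f) = val' (h ≫ p) f := by
  rw [Scheme.Hom.app_eq_appLE]
  exact val'_appLE p le_rfl h e f

theorem val'_ι_injective {T : Scheme.{u}} (V : T.Opens) (f f' : Γ(T, V))
    (hv : val' V.ι f = val' V.ι f') : f = f' := by
  rw [val'_eq V.ι V.ι_preimage_self.ge, val'_eq V.ι V.ι_preimage_self.ge] at hv
  exact val_ι_injective V f f' hv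

theorem exists_val'_ι {T : Scheme.{u}} (V : T.Opens) (ψ : V.toScheme ⟶ A1.{u}) :
    ∃ g : Γ(T, V), val' V.ι g = ψ := by
  obtain ⟨g, hg⟩ := exists_val_ι V ψ
  exact ⟨g, by rw [val'_eq V.ι V.ι_preimage_self.ge, hg]⟩

theorem mem_of_ι {T : Scheme.{u}} (V : T.Opens) : ⊤ ≤ V.ι ⁻¹ᵁ V := V.ι_preimage_self.ge



open Groth.Agent.Lib.Helper81.FppfGeomQuot

theorem val'_ι_app {X₀ Y₀ : Scheme.{u}} (q₀ : X₀ ⟶ Y₀) (U : Y₀.Opens) (g : Γ(Y₀, U)) :
    val' (q₀ ⁻¹ᵁ U).ι (q₀.app U g) = (q₀ ∣_ U) ≫ val' U.ι g := by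
  rw [val'_eq _ (mem_of_ι _), val'_eq _ (mem_of_ι _)]
  exact val_ι_app q₀ U g

/-- fpqc descent of sections, in `A1`-valued form -/
theorem exists_app_eq {Y' Y : Scheme.{u}} (α : Y' ⟶ Y) [Flat α] [Surjective α] [QuasiCompact α]
    (U : Y.Opens) (g' : Γ(Y', α ⁻¹ᵁ U))
    (hg' : ∀ {Z : Scheme.{u}} (g₁ g₂ : Z ⟶ Y'), ⊤ ≤ g₁ ⁻¹ᵁ (α ⁻¹ᵁ U) → ⊤ ≤ g₂ ⁻¹ᵁ (α ⁻¹ᵁ U) →
      g₁ ≫ α = g₂ ≫ α → val' g₁ g' = val' g₂ g') :
    ∃ g : Γ(Y, U), α.app U g = g' := by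
  have : Surjective (α ∣_ U) := IsZariskiLocalAtTarget.restrict (P := @Surjective) inferInstance U
  have : QuasiCompact (α ∣_ U) :=
    IsZariskiLocalAtTarget.restrict (P := @QuasiCompact) inferInstance U
  have : EffectiveEpi (α ∣_ U) := inferInstance
  have hcond : ∀ {Z : Scheme.{u}} (g₁ g₂ : Z ⟶ (α ⁻¹ᵁ U).toScheme),
      g₁ ≫ (α ∣_ U) = g₂ ≫ (α ∣_ U) →
      g₁ ≫ val' (α ⁻¹ᵁ U).ι g' = g₂ ≫ val' (α ⁻¹ᵁ U).ι g' := by
    intro Z g₁ g₂ h12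
    rw [comp_val' g₁ _ (mem_of_ι _), comp_val' g₂ _ (mem_of_ι _)]
    apply hg'
    · intro z _; exact (g₁.base z).2
    · intro z _; exact (g₂.base z).2
    · rw [Category.assoc, Category.assoc, ← morphismRestrict_ι, ← Category.assoc, h12,
        Category.assoc]
  obtain ⟨g, hg⟩ := exists_val'_ι U (EffectiveEpi.desc (α ∣_ U) (val' (α ⁻¹ᵁ U).ι g') hcond)
  refine ⟨g, ?_⟩
  apply val'_ι_injective (α ⁻¹ᵁ U)
  rw [val'_ι_app, hg, EffectiveEpi.fac]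

/-- scheme-level form of `GIT.IsInvSection` -/
def InvSec {GX X Y : Scheme.{u}} (σ p₂ : GX ⟶ X) (φ : X ⟶ Y) (U : Y.Opens)
    (f : Γ(X, φ ⁻¹ᵁ U)) : Prop :=
  σ.appLE (φ ⁻¹ᵁ U) (σ ⁻¹ᵁ (φ ⁻¹ᵁ U) ⊓ p₂ ⁻¹ᵁ (φ ⁻¹ᵁ U)) inf_le_left f =
    p₂.appLE (φ ⁻¹ᵁ U) (σ ⁻¹ᵁ (φ ⁻¹ᵁ U) ⊓ p₂ ⁻¹ᵁ (φ ⁻¹ᵁ U)) inf_le_right f

section
variable {GX X Y : Scheme.{u}} {σ p₂ : GX ⟶ X} {φ : X ⟶ Y}

theorem InvSec.val' {U : Y.Opens} {f : Γ(X, φ ⁻¹ᵁ U)} (hf : InvSec σ p₂ φ U f)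
    {Z : Scheme.{u}} (ρ : Z ⟶ GX) (e1 : ⊤ ≤ (ρ ≫ σ) ⁻¹ᵁ (φ ⁻¹ᵁ U))
    (e2 : ⊤ ≤ (ρ ≫ p₂) ⁻¹ᵁ (φ ⁻¹ᵁ U)) :
    GeomQuotDescent.val' (ρ ≫ σ) f = GeomQuotDescent.val' (ρ ≫ p₂) f := by
  have eW : ⊤ ≤ ρ ⁻¹ᵁ (σ ⁻¹ᵁ (φ ⁻¹ᵁ U) ⊓ p₂ ⁻¹ᵁ (φ ⁻¹ᵁ U)) := by
    intro z _
    exact ⟨e1 (Set.mem_univ z), e2 (Set.mem_univ z)⟩
  rw [← val'_appLE σ inf_le_left ρ eW f, ← val'_appLE p₂ inf_le_right ρ eW f]
  congr 1

theorem invSec_of_val' {U : Y.Opens} {f : Γ(X, φ ⁻¹ᵁ U)}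
    (h : GeomQuotDescent.val' ((σ ⁻¹ᵁ (φ ⁻¹ᵁ U) ⊓ p₂ ⁻¹ᵁ (φ ⁻¹ᵁ U)).ι ≫ σ) f =
      GeomQuotDescent.val' ((σ ⁻¹ᵁ (φ ⁻¹ᵁ U) ⊓ p₂ ⁻¹ᵁ (φ ⁻¹ᵁ U)).ι ≫ p₂) f) :
    InvSec σ p₂ φ U f := by
  rw [← val'_appLE σ inf_le_left _ (mem_of_ι _) f, ← val'_appLE p₂ inf_le_right _ (mem_of_ι _) f] at h
  exact val'_ι_injective _ _ _ h

theorem invSec_app (hinv : σ ≫ φ = p₂ ≫ φ) (U : Y.Opens) (g : Γ(Y, U)) :
    InvSec σ p₂ φ U (φ.app U g) := by
  apply invSec_of_val'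
  have e1 : ⊤ ≤ ((σ ⁻¹ᵁ (φ ⁻¹ᵁ U) ⊓ p₂ ⁻¹ᵁ (φ ⁻¹ᵁ U)).ι ≫ σ) ⁻¹ᵁ (φ ⁻¹ᵁ U) := by
    intro z _; exact z.2.1
  have e2 : ⊤ ≤ ((σ ⁻¹ᵁ (φ ⁻¹ᵁ U) ⊓ p₂ ⁻¹ᵁ (φ ⁻¹ᵁ U)).ι ≫ p₂) ⁻¹ᵁ (φ ⁻¹ᵁ U) := by
    intro z _; exact z.2.2
  rw [val'_app φ U _ e1, val'_app φ U _ e2, Category.assoc, Category.assoc, hinv]

end

theorem base_congr {A B : Scheme.{u}} {f g : A ⟶ B} (h : f = g) (x : A) : f.base x = g.base x := by
  rw [h]

theorem sections_descend {GX X Y GX' X' Y' : Scheme.{u}} (σ p₂ : GX ⟶ X) (φ : X ⟶ Y)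
    (hinv : σ ≫ φ = p₂ ≫ φ) (σ' p₂' : GX' ⟶ X') (φ' : X' ⟶ Y') [QuasiCompact φ']
    [QuasiSeparated φ'] (α : Y' ⟶ Y) [Flat α] [Surjective α] [QuasiCompact α] (pr : X' ⟶ X)
    (prG : GX' ⟶ GX) (hpb : IsPullback pr φ' φ α) (hσ : σ' ≫ pr = prG ≫ σ)
    (hp : p₂' ≫ pr = prG ≫ p₂)
    (h : ∀ U' : Y'.Opens, Function.Injective (φ'.app U') ∧
      Set.range (φ'.app U') = {f | InvSec σ' p₂' φ' U' f})
    (U : Y.Opens) :
    Function.Injective (φ.app U) ∧ Set.range (φ.app U) = {f | InvSec σ p₂ φ U f} := by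
  have hpt : ∀ x : X', φ.base (pr.base x) = α.base (φ'.base x) := fun x => base_congr hpb.w x
  have eW'1 : ⊤ ≤ ((φ' ⁻¹ᵁ (α ⁻¹ᵁ U)).ι ≫ φ') ⁻¹ᵁ (α ⁻¹ᵁ U) := fun z _ => z.2
  have eW'2 : ⊤ ≤ ((φ' ⁻¹ᵁ (α ⁻¹ᵁ U)).ι ≫ pr) ⁻¹ᵁ (φ ⁻¹ᵁ U) := by
    intro z _
    show φ.base (pr.base z.1) ∈ U
    rw [hpt]; exact z.2
  have hkey : ∀ g : Γ(Y, U), val' (φ' ⁻¹ᵁ (α ⁻¹ᵁ U)).ι (φ'.app (α ⁻¹ᵁ U) (α.app U g)) =
      val' ((φ' ⁻¹ᵁ (α ⁻¹ᵁ U)).ι ≫ pr) (φ.app U g) := by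
    intro g
    rw [val'_app φ' _ _ (mem_of_ι _), val'_app α U _ eW'1, val'_app φ U _ eW'2, Category.assoc,
      Category.assoc, hpb.w]
  have hprfl : Flat pr := MorphismProperty.of_isPullback hpb.flip inferInstance
  have hprsurj : Surjective pr := MorphismProperty.of_isPullback hpb.flip inferInstance
  refine ⟨?_, ?_⟩
  · intro g₁ g₂ h12
    apply injective_app_of_flat_surjective α U
    apply (h (α ⁻¹ᵁ U)).1
    apply val'_ι_injective
    rw [hkey, hkey, h12]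
  · apply Set.Subset.antisymm
    · rintro _ ⟨g, rfl⟩
      exact invSec_app hinv U g
    · intro f hf
      have eW' : φ' ⁻¹ᵁ (α ⁻¹ᵁ U) ≤ pr ⁻¹ᵁ (φ ⁻¹ᵁ U) := by
        intro x hx
        show φ.base (pr.base x) ∈ U
        rw [hpt]; exact hx
      obtain ⟨f', hf'⟩ : ∃ f', f' = pr.appLE (φ ⁻¹ᵁ U) (φ' ⁻¹ᵁ (α ⁻¹ᵁ U)) eW' f := ⟨_, rfl⟩
      have hf'inv : InvSec σ' p₂' φ' (α ⁻¹ᵁ U) f' := by
        apply invSec_of_val'
        have e1 : ⊤ ≤ ((σ' ⁻¹ᵁ (φ' ⁻¹ᵁ (α ⁻¹ᵁ U)) ⊓ p₂' ⁻¹ᵁ (φ' ⁻¹ᵁ (α ⁻¹ᵁ U))).ι ≫ σ') ⁻¹ᵁ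
            (φ' ⁻¹ᵁ (α ⁻¹ᵁ U)) := fun z _ => z.2.1
        have e2 : ⊤ ≤ ((σ' ⁻¹ᵁ (φ' ⁻¹ᵁ (α ⁻¹ᵁ U)) ⊓ p₂' ⁻¹ᵁ (φ' ⁻¹ᵁ (α ⁻¹ᵁ U))).ι ≫ p₂') ⁻¹ᵁ
            (φ' ⁻¹ᵁ (α ⁻¹ᵁ U)) := fun z _ => z.2.2
        rw [hf', val'_appLE pr eW' _ e1, val'_appLE pr eW' _ e2, Category.assoc, Category.assoc,
          hσ, hp, ← Category.assoc, ← Category.assoc]
        apply hf.val'
        · rw [Category.assoc, ← hσ, ← Category.assoc]
          intro z _; exact eW' (e1 (Set.mem_univ z))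
        · rw [Category.assoc, ← hp, ← Category.assoc]
          intro z _; exact eW' (e2 (Set.mem_univ z))
      obtain ⟨g', hg'⟩ : f' ∈ Set.range (φ'.app (α ⁻¹ᵁ U)) := by rw [(h _).2]; exact hf'inv
      -- the double fibre product
      have hα12 : pullback.fst α α ≫ α = pullback.snd α α ≫ α := pullback.condition
      obtain ⟨V'', hV''⟩ : ∃ V'' : (pullback α α).Opens, V'' = pullback.fst α α ⁻¹ᵁ (α ⁻¹ᵁ U) :=
        ⟨_, rfl⟩
      have e_1 : V'' ≤ pullback.fst α α ⁻¹ᵁ (α ⁻¹ᵁ U) := hV''.le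
      have e_2 : V'' ≤ pullback.snd α α ⁻¹ᵁ (α ⁻¹ᵁ U) := by
        intro x hx
        show α.base ((pullback.snd α α).base x) ∈ U
        have h1 := base_congr hα12 x
        change α.base ((pullback.fst α α).base x) = α.base ((pullback.snd α α).base x) at h1
        rw [← h1]
        exact e_1 hx
      have H : IsPullback (pullback.fst φ' (pullback.fst α α)) (pullback.snd φ' (pullback.fst α α))
          φ' (pullback.fst α α) := IsPullback.of_hasPullback _ _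
      have hinj'' := injective_app_of_isPullback H (fun U' => (h U').1) V''
      have hq₂w : (pullback.fst φ' (pullback.fst α α) ≫ pr) ≫ φ =
          (pullback.snd φ' (pullback.fst α α) ≫ pullback.snd α α) ≫ α := by
        rw [Category.assoc, hpb.w, ← Category.assoc, H.w, Category.assoc, hα12, Category.assoc]
      obtain ⟨q₂, hq₂pr, hq₂φ⟩ : ∃ q₂ : pullback φ' (pullback.fst α α) ⟶ X',
          q₂ ≫ pr = pullback.fst φ' (pullback.fst α α) ≫ pr ∧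
          q₂ ≫ φ' = pullback.snd φ' (pullback.fst α α) ≫ pullback.snd α α :=
        ⟨hpb.lift _ _ hq₂w, hpb.lift_fst _ _ _, hpb.lift_snd _ _ _⟩
      have hclaim : val' (V''.ι ≫ pullback.fst α α) g' = val' (V''.ι ≫ pullback.snd α α) g' := by
        rw [← val'_appLE (pullback.fst α α) e_1 V''.ι (mem_of_ι _) g',
          ← val'_appLE (pullback.snd α α) e_2 V''.ι (mem_of_ι _) g']
        congr 1
        apply hinj''
        apply val'_ι_injective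
        have e3 : ⊤ ≤ ((pullback.snd φ' (pullback.fst α α) ⁻¹ᵁ V'').ι ≫
            pullback.snd φ' (pullback.fst α α)) ⁻¹ᵁ V'' := fun z _ => z.2
        have e4 : ⊤ ≤ ((pullback.snd φ' (pullback.fst α α) ⁻¹ᵁ V'').ι ≫
            pullback.fst φ' (pullback.fst α α)) ⁻¹ᵁ (φ' ⁻¹ᵁ (α ⁻¹ᵁ U)) := by
          intro z _
          show α.base (φ'.base ((pullback.fst φ' (pullback.fst α α)).base z.1)) ∈ U
          have h1 := base_congr H.w z.1
          have h2 : (pullback.snd φ' (pullback.fst α α)).base z.1 ∈ V'' := z.2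
          have h3 := e_1 h2
          change φ'.base ((pullback.fst φ' (pullback.fst α α)).base z.1) = _ at h1
          rw [h1]
          exact h3
        have e5 : ⊤ ≤ ((pullback.snd φ' (pullback.fst α α) ⁻¹ᵁ V'').ι ≫ q₂) ⁻¹ᵁ
            (φ' ⁻¹ᵁ (α ⁻¹ᵁ U)) := by
          intro z _
          show α.base (φ'.base (q₂.base z.1)) ∈ U
          have h1 := base_congr hq₂φ z.1
          have h2 : (pullback.snd φ' (pullback.fst α α)).base z.1 ∈ V'' := z.2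
          have h3 := e_2 h2
          change φ'.base (q₂.base z.1) = _ at h1
          rw [h1]
          exact h3
        rw [val'_app _ V'' _ (mem_of_ι _), val'_app _ V'' _ (mem_of_ι _),
          val'_appLE (pullback.fst α α) e_1 _ e3, val'_appLE (pullback.snd α α) e_2 _ e3,
          Category.assoc, Category.assoc, ← H.w, ← hq₂φ, ← Category.assoc, ← Category.assoc,
          ← val'_app φ' _ _ e4, ← val'_app φ' _ _ e5, hg', hf', val'_appLE pr eW' _ e4,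
          val'_appLE pr eW' _ e5, Category.assoc, Category.assoc, hq₂pr]
      have hcond : ∀ {Z : Scheme.{u}} (g₁ g₂ : Z ⟶ Y'), ⊤ ≤ g₁ ⁻¹ᵁ (α ⁻¹ᵁ U) →
          ⊤ ≤ g₂ ⁻¹ᵁ (α ⁻¹ᵁ U) → g₁ ≫ α = g₂ ≫ α → val' g₁ g' = val' g₂ g' := by
        intro Z g₁ g₂ e₁ e₂ h12
        have hrange : Set.range (pullback.lift g₁ g₂ h12) ⊆ Set.range V''.ι := by
          rintro _ ⟨z, rfl⟩
          rw [Scheme.Opens.range_ι, hV'']
          show α.base ((pullback.fst α α).base ((pullback.lift g₁ g₂ h12).base z)) ∈ U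
          have h1 := base_congr (pullback.lift_fst g₁ g₂ h12) z
          change (pullback.fst α α).base ((pullback.lift g₁ g₂ h12).base z) = _ at h1
          rw [h1]
          exact e₁ (Set.mem_univ z)
        obtain ⟨l', hl⟩ : ∃ l' : Z ⟶ V''.toScheme, l' ≫ V''.ι = pullback.lift g₁ g₂ h12 :=
          ⟨_, IsOpenImmersion.lift_fac _ _ hrange⟩
        have e6 : ⊤ ≤ (V''.ι ≫ pullback.fst α α) ⁻¹ᵁ (α ⁻¹ᵁ U) := fun z _ => e_1 z.2
        have e7 : ⊤ ≤ (V''.ι ≫ pullback.snd α α) ⁻¹ᵁ (α ⁻¹ᵁ U) := fun z _ => e_2 z.2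
        have s1 : g₁ = l' ≫ V''.ι ≫ pullback.fst α α := by
          rw [← Category.assoc, hl, pullback.lift_fst]
        have s2 : g₂ = l' ≫ V''.ι ≫ pullback.snd α α := by
          rw [← Category.assoc, hl, pullback.lift_snd]
        have t1 : val' g₁ g' = l' ≫ val' (V''.ι ≫ pullback.fst α α) g' := by
          rw [comp_val' _ _ e6]; exact congrArg (fun m => val' m g') s1
        have t2 : val' g₂ g' = l' ≫ val' (V''.ι ≫ pullback.snd α α) g' := by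
          rw [comp_val' _ _ e7]; exact congrArg (fun m => val' m g') s2
        rw [t1, t2, hclaim]
      obtain ⟨g, hg⟩ := exists_app_eq α U g' hcond
      refine ⟨g, ?_⟩
      have : Surjective (pr ∣_ (φ ⁻¹ᵁ U)) :=
        IsZariskiLocalAtTarget.restrict (P := @Surjective) inferInstance _
      have : Epi (pr ∣_ (φ ⁻¹ᵁ U)) := Flat.epi_of_flat_of_surjective _
      apply val'_ι_injective (φ ⁻¹ᵁ U)
      rw [← cancel_epi (pr ∣_ (φ ⁻¹ᵁ U)), comp_val' _ _ (mem_of_ι _), comp_val' _ _ (mem_of_ι _),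
        morphismRestrict_ι]
      have e8 : ⊤ ≤ ((pr ⁻¹ᵁ (φ ⁻¹ᵁ U)).ι ≫ pr) ⁻¹ᵁ (φ ⁻¹ᵁ U) := fun z _ => z.2
      have e9 : ⊤ ≤ ((pr ⁻¹ᵁ (φ ⁻¹ᵁ U)).ι ≫ φ') ⁻¹ᵁ (α ⁻¹ᵁ U) := by
        intro z _
        show α.base (φ'.base z.1) ∈ U
        rw [← hpt]
        exact z.2
      have e10 : ⊤ ≤ (pr ⁻¹ᵁ (φ ⁻¹ᵁ U)).ι ⁻¹ᵁ (φ' ⁻¹ᵁ (α ⁻¹ᵁ U)) := e9
      rw [val'_app φ U _ e8, Category.assoc, hpb.w, ← Category.assoc, ← val'_app α U _ e9, hg,
        ← val'_app φ' _ _ e10, hg', hf', val'_appLE pr eW' _ e10]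



theorem orbit_descend {GX X Y GX' X' Y' : Scheme.{u}} (σ p₂ : GX ⟶ X) (φ : X ⟶ Y)
    (hinv : σ ≫ φ = p₂ ≫ φ) (σ' p₂' : GX' ⟶ X') (φ' : X' ⟶ Y') (hinv' : σ' ≫ φ' = p₂' ≫ φ')
    (α : Y' ⟶ Y) [Surjective α] (pr : X' ⟶ X)
    (prG : GX' ⟶ GX) (hpb : IsPullback pr φ' φ α) (hσ : σ' ≫ pr = prG ≫ σ)
    (hp : p₂' ≫ pr = prG ≫ p₂)
    (h : Function.Surjective (pullback.lift σ' p₂' hinv').base) :
    Function.Surjective (pullback.lift σ p₂ hinv).base := by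
  -- Q = (X ×_Y X) ×_Y Y'
  have hc : (pullback.fst (pullback.fst φ φ ≫ φ) α ≫ pullback.fst φ φ) ≫ φ =
      pullback.snd (pullback.fst φ φ ≫ φ) α ≫ α := by
    rw [Category.assoc]; exact pullback.condition
  have hc2 : (pullback.fst (pullback.fst φ φ ≫ φ) α ≫ pullback.snd φ φ) ≫ φ =
      pullback.snd (pullback.fst φ φ ≫ φ) α ≫ α := by
    rw [Category.assoc, ← pullback.condition (f := φ) (g := φ)]; exact pullback.condition
  have hn : hpb.lift _ _ hc ≫ φ' = hpb.lift _ _ hc2 ≫ φ' := by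
    rw [hpb.lift_snd, hpb.lift_snd]
  have hm : (pullback.fst φ' φ' ≫ pr) ≫ φ = (pullback.snd φ' φ' ≫ pr) ≫ φ := by
    rw [Category.assoc, Category.assoc, hpb.w, ← Category.assoc, ← Category.assoc,
      pullback.condition]
  have hnm : pullback.lift _ _ hn ≫ pullback.lift _ _ hm =
      pullback.fst (pullback.fst φ φ ≫ φ) α := by
    apply pullback.hom_ext
    · rw [Category.assoc, pullback.lift_fst, ← Category.assoc, pullback.lift_fst, hpb.lift_fst]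
    · rw [Category.assoc, pullback.lift_snd, ← Category.assoc, pullback.lift_snd, hpb.lift_fst]
  have hΨ : pullback.lift σ' p₂' hinv' ≫ pullback.lift _ _ hm = prG ≫ pullback.lift σ p₂ hinv := by
    apply pullback.hom_ext
    · rw [Category.assoc, pullback.lift_fst, ← Category.assoc, pullback.lift_fst, Category.assoc,
        pullback.lift_fst, hσ]
    · rw [Category.assoc, pullback.lift_snd, ← Category.assoc, pullback.lift_snd, Category.assoc,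
        pullback.lift_snd, hp]
  intro z
  obtain ⟨q, hq⟩ := (inferInstance : Surjective (pullback.fst (pullback.fst φ φ ≫ φ) α)).surj z
  obtain ⟨w', hw'⟩ := h ((pullback.lift _ _ hn).base q)
  refine ⟨prG.base w', ?_⟩
  have h1 := congrArg (fun f : GX' ⟶ pullback φ φ => f.base w') hΨ
  have h2 := congrArg (fun f : pullback (pullback.fst φ φ ≫ φ) α ⟶ pullback φ φ => f.base q) hnm
  simp only [Scheme.Hom.comp_base, TopCat.hom_comp, ContinuousMap.comp_apply] at h1 h2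
  rw [← h1, hw', h2, hq]

theorem subm_descend {X Y X' Y' : Scheme.{u}} (φ : X ⟶ Y) (φ' : X' ⟶ Y')
    (α : Y' ⟶ Y) [Flat α] [Surjective α] [QuasiCompact α] (pr : X' ⟶ X)
    (hpb : IsPullback pr φ' φ α)
    (h : MorphismProperty.universally (topologically @IsQuotientMap) φ') :
    MorphismProperty.universally (topologically @IsQuotientMap) φ := by
  intro X₁ Y₁ i₁ i₂ f₁ hpb₁
  have sq1 : IsPullback (pullback.fst f₁ (pullback.fst i₂ α)) (pullback.snd f₁ (pullback.fst i₂ α))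
      f₁ (pullback.fst i₂ α) := IsPullback.of_hasPullback _ _
  have sq2 := sq1.paste_horiz hpb₁.flip
  have hj : (pullback.fst f₁ (pullback.fst i₂ α) ≫ i₁) ≫ φ =
      (pullback.snd f₁ (pullback.fst i₂ α) ≫ pullback.snd i₂ α) ≫ α := by
    rw [sq2.w, Category.assoc, pullback.condition]
  have hjpr : hpb.lift _ _ hj ≫ pr = pullback.fst f₁ (pullback.fst i₂ α) ≫ i₁ := hpb.lift_fst _ _ _
  have hjφ : hpb.lift _ _ hj ≫ φ' = pullback.snd f₁ (pullback.fst i₂ α) ≫ pullback.snd i₂ α :=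
    hpb.lift_snd _ _ _
  rw [← hjpr, pullback.condition] at sq2
  have sq3 := IsPullback.of_right sq2 hjφ hpb
  have hq : IsQuotientMap (pullback.snd f₁ (pullback.fst i₂ α)).base := h _ _ _ sq3.flip
  have hq2 : IsQuotientMap (pullback.fst i₂ α).base := Flat.isQuotientMap_of_surjective _
  have hq3 : IsQuotientMap ((pullback.fst f₁ (pullback.fst i₂ α)) ≫ f₁).base := by
    rw [sq1.w]
    exact hq2.comp hq
  show IsQuotientMap f₁.base
  exact IsQuotientMap.of_comp (pullback.fst f₁ (pullback.fst i₂ α)).base.hom.continuous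
    f₁.base.hom.continuous hq3

open MonoidalCategory CartesianMonoidalCategory MonObj in
theorem isGeomQuot_descend {S : Scheme.{u}} {G X Y X' Y' : Over S} [GrpObj G]
    (a : AlgGrp.Action G X) (φ : X ⟶ Y) (hinv : GIT.IsInvariant a φ) (α : Y' ⟶ Y)
    [Flat α.left] [Surjective α.left] [QuasiCompact α.left] (pr : X' ⟶ X) (φ' : X' ⟶ Y')
    [QuasiCompact φ'.left] [QuasiSeparated φ'.left] (hpb : IsPullback pr φ' φ α)
    (a' : AlgGrp.Action G X') (heq : a'.act ≫ pr = (G ◁ pr) ≫ a.act)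
    (h : GIT.IsGeomQuot a' φ') : GIT.IsGeomQuot a φ := by
  have hpbS : IsPullback pr.left φ'.left φ.left α.left := hpb.map (Over.forget S)
  have hσ : a'.act.left ≫ pr.left = (G ◁ pr).left ≫ a.act.left := by
    rw [← Over.comp_left, ← Over.comp_left, heq]
  have hp : (snd G X').left ≫ pr.left = (G ◁ pr).left ≫ (snd G X).left := by
    rw [← Over.comp_left, ← Over.comp_left, whiskerLeft_snd]
  refine ⟨hinv, ?_, ?_, ?_, ?_⟩
  · intro y
    obtain ⟨y', hy'⟩ := (inferInstance : Surjective α.left).surj y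
    obtain ⟨x', hx'⟩ := h.surj y'
    refine ⟨pr.left.base x', ?_⟩
    have h1 := base_congr hpbS.w x'
    change φ.left.base (pr.left.base x') = α.left.base (φ'.left.base x') at h1
    rw [h1, hx', hy']
  · exact orbit_descend a.act.left (snd G X).left φ.left hinv.left a'.act.left (snd G X').left
      φ'.left h.inv.left α.left pr.left (G ◁ pr).left hpbS hσ hp h.orbit
  · exact subm_descend φ.left φ'.left α.left pr.left hpbS h.subm
  · exact sections_descend a.act.left (snd G X).left φ.left hinv.left a'.act.left (snd G X').left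
      φ'.left α.left pr.left (G ◁ pr).left hpbS hσ hp h.sections

end Groth.Agent.Lib.Helper54.GeomQuotDescent
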