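import Mathlib
import Groth.Agent.Lib.Helper54.GeomQuotDescent

set_option autoImplicit false
universe u
open CategoryTheory MonoidalCategory CartesianMonoidalCategory MonObj AlgebraicGeometry Limits Topology

namespace Groth.Agent.Lib.Helper54.GeomQuotDescent

theorem exists_pullback_action {S : Scheme.{u}} {G X₁ Y₁ X₁' Y₁' : Over S} [GrpObj G]
    (a₁ : AlgGrp.Action G X₁) (φ₁ : X₁ ⟶ Y₁) (hinv₁ : GIT.IsInvariant a₁ φ₁) (β : Y₁' ⟶ Y₁)
    (c : X₁' ⟶ X₁) (φ₁' : X₁' ⟶ Y₁') (hpb : IsPullback c φ₁' φ₁ β) :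
    ∃ a₁' : AlgGrp.Action G X₁', a₁'.act ≫ c = (G ◁ c) ≫ a₁.act ∧ GIT.IsInvariant a₁' φ₁' := by
  have hinv₁' : a₁.act ≫ φ₁ = snd G X₁ ≫ φ₁ := hinv₁
  have hw : ((G ◁ c) ≫ a₁.act) ≫ φ₁ = (snd G X₁' ≫ φ₁') ≫ β := by
    rw [Category.assoc, hinv₁', ← Category.assoc, whiskerLeft_snd, Category.assoc, hpb.w,
      Category.assoc]
  obtain ⟨b, hb1, hb2⟩ : ∃ b : G ⊗ X₁' ⟶ X₁', b ≫ c = (G ◁ c) ≫ a₁.act ∧
      b ≫ φ₁' = snd G X₁' ≫ φ₁' := ⟨hpb.lift _ _ hw, hpb.lift_fst _ _ _, hpb.lift_snd _ _ _⟩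
  refine ⟨⟨b, ?_, ?_⟩, hb1, hb2⟩
  · apply hpb.hom_ext
    · rw [Category.assoc, hb1, ← whisker_exchange_assoc, a₁.one_act, leftUnitor_naturality]
    · rw [Category.assoc, hb2, ← Category.assoc, whiskerRight_snd, leftUnitor_hom]
  · apply hpb.hom_ext
    · simp only [Category.assoc]
      rw [hb1, ← whisker_exchange_assoc, a₁.mul_act, ← whiskerLeft_comp_assoc, hb1,
        whiskerLeft_comp_assoc, associator_naturality_right_assoc]
    · simp only [Category.assoc]
      rw [hb2, ← Category.assoc (G ◁ b), whiskerLeft_snd, Category.assoc, hb2]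
      simp

theorem isUnivGeomQuot_descend {S : Scheme.{u}} {G X Y X' Y' : Over S} [GrpObj G]
    (a : AlgGrp.Action G X) (φ : X ⟶ Y) (hinv : GIT.IsInvariant a φ) (α : Y' ⟶ Y)
    [Flat α.left] [Surjective α.left] [QuasiCompact α.left] (pr : X' ⟶ X) (φ' : X' ⟶ Y')
    [QuasiCompact φ.left] [QuasiSeparated φ.left] (hpb : IsPullback pr φ' φ α)
    (a' : AlgGrp.Action G X') (heq : a'.act ≫ pr = (G ◁ pr) ≫ a.act)
    (hinv' : GIT.IsInvariant a' φ')
    (h : GIT.IsUnivGeomQuot a' φ') : GIT.IsUnivGeomQuot a φ := by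
  have hpbS : IsPullback pr.left φ'.left φ.left α.left := hpb.map (Over.forget S)
  have h5 : QuasiCompact φ'.left := MorphismProperty.of_isPullback hpbS inferInstance
  have h6 : QuasiSeparated φ'.left := MorphismProperty.of_isPullback hpbS inferInstance
  refine ⟨isGeomQuot_descend a φ hinv α pr φ' hpb a' heq h.1, ?_⟩
  intro X₁ Y₁ pr₁ φ₁ g _ hpb₁ a₁ heq₁ hinv₁
  -- base change of α along g
  have sqY : IsPullback (pullback.fst g α) (pullback.snd g α) g α := IsPullback.of_hasPullback _ _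
  have sqYS : IsPullback (pullback.fst g α).left (pullback.snd g α).left g.left α.left :=
    sqY.map (Over.forget S)
  have hβ1 : Flat (pullback.fst g α).left := MorphismProperty.of_isPullback sqYS.flip inferInstance
  have hβ2 : Surjective (pullback.fst g α).left :=
    MorphismProperty.of_isPullback sqYS.flip inferInstance
  have hβ3 : QuasiCompact (pullback.fst g α).left :=
    MorphismProperty.of_isPullback sqYS.flip inferInstance
  have sq1 : IsPullback (pullback.fst φ₁ (pullback.fst g α)) (pullback.snd φ₁ (pullback.fst g α))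
      φ₁ (pullback.fst g α) := IsPullback.of_hasPullback _ _
  obtain ⟨a₁', ha₁'1, ha₁'2⟩ := exists_pullback_action a₁ φ₁ hinv₁ (pullback.fst g α) _ _ sq1
  have sq2 := sq1.paste_horiz hpb₁
  have hj : (pullback.fst φ₁ (pullback.fst g α) ≫ pr₁) ≫ φ =
      (pullback.snd φ₁ (pullback.fst g α) ≫ pullback.snd g α) ≫ α := by
    rw [sq2.w, Category.assoc, pullback.condition]
  obtain ⟨j, hjpr, hjφ⟩ : ∃ j : pullback φ₁ (pullback.fst g α) ⟶ X',
      j ≫ pr = pullback.fst φ₁ (pullback.fst g α) ≫ pr₁ ∧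
      j ≫ φ' = pullback.snd φ₁ (pullback.fst g α) ≫ pullback.snd g α :=
    ⟨hpb.lift _ _ hj, hpb.lift_fst _ _ _, hpb.lift_snd _ _ _⟩
  rw [← hjpr, pullback.condition] at sq2
  have sq3 := IsPullback.of_right sq2 hjφ hpb
  have hinv'' : a'.act ≫ φ' = snd G X' ≫ φ' := hinv'
  have ha₁'2' : a₁'.act ≫ pullback.snd φ₁ (pullback.fst g α) =
      snd G _ ≫ pullback.snd φ₁ (pullback.fst g α) := ha₁'2
  have hjeq : a₁'.act ≫ j = (G ◁ j) ≫ a'.act := by
    apply hpb.hom_ext
    · rw [Category.assoc, hjpr, ← Category.assoc, ha₁'1, Category.assoc, heq₁, Category.assoc, heq,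
        ← whiskerLeft_comp_assoc, ← whiskerLeft_comp_assoc, hjpr]
    · rw [Category.assoc, hjφ, ← Category.assoc, ha₁'2', Category.assoc, Category.assoc, hinv'',
        ← Category.assoc (G ◁ j), whiskerLeft_snd, Category.assoc, hjφ]
  have hq1 := h.2 j (pullback.snd φ₁ (pullback.fst g α)) (pullback.snd g α) trivial sq3 a₁' hjeq
    ha₁'2
  have sq3S := sq3.map (Over.forget S)
  have h7 : QuasiCompact (pullback.snd φ₁ (pullback.fst g α)).left :=
    MorphismProperty.of_isPullback sq3S h5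
  have h8 : QuasiSeparated (pullback.snd φ₁ (pullback.fst g α)).left :=
    MorphismProperty.of_isPullback sq3S h6
  exact isGeomQuot_descend a₁ φ₁ hinv₁ (pullback.fst g α) _ _ sq1 a₁' ha₁'1 hq1

end Groth.Agent.Lib.Helper54.GeomQuotDescent
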