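import Mathlib
import Groth.Agent.Lib.Helper54.GrassClosedAlg

/-!
# Standard charts of the Grassmannian functor: algebra (helper54)

For `σ : Fin k ⊕ L ≃ Fin n`, the chart `P σ` of the Grassmannian functor of rank-`k` quotients of
`R^n` consists of those `N ⊆ A^n` for which the basis vectors `e_{σ (inl j)}` generate the
quotient.  It is an open condition (cut out by the annihilator of a cokernel) and its points
are in natural bijection with `k × L`-matrices.
-/

set_option autoImplicit false
set_option linter.style.haveILetI false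
set_option linter.unusedSectionVars false
universe u v w

open TensorProduct Module

namespace Groth.Agent.Lib.Helper54.GrassChartAlg

open Module.Grassmannian TensorProduct.AlgebraTensorModule
open Groth.Agent.Lib.Helper54.GrassClosedAlg

section Support

/-- (after `Helper36.UnramBC`) -/
theorem nontrivial_tensor_of_mem_support {A L M : Type*} [CommRing A] [Field L] [Algebra A L]
    [AddCommGroup M] [Module A M] [Module.Finite A M] (p : PrimeSpectrum A)
    (hp : p.asIdeal = RingHom.ker (algebraMap A L)) (h : p ∈ Module.support A M) :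
    Nontrivial (L ⊗[A] M) := by
  rw [Module.mem_support_iff_nontrivial_residueField_tensorProduct] at h
  let K := p.asIdeal.ResidueField
  have hf₁ : p.asIdeal ≤ RingHom.ker (algebraMap A L) := hp.le
  have hf₂ : p.asIdeal.primeCompl ≤ (IsUnit.submonoid L).comap (algebraMap A L) := by
    intro x hx
    change IsUnit (algebraMap A L x)
    rw [isUnit_iff_ne_zero]
    intro h0
    exact hx (hp ▸ (RingHom.mem_ker.2 h0))
  letI : Algebra K L := (Ideal.ResidueField.lift p.asIdeal (algebraMap A L) hf₁ hf₂).toAlgebra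
  haveI : IsScalarTower A K L := IsScalarTower.of_algebraMap_eq' (by
    ext r
    exact (Ideal.ResidueField.lift_algebraMap p.asIdeal (algebraMap A L) hf₁ hf₂ r).symm)
  let e2 := AlgebraTensorModule.cancelBaseChange A K L L M
  have : Nontrivial (L ⊗[K] (K ⊗[A] M)) := inferInstance
  exact e2.toEquiv.nontrivial_congr.1 this

/-- (after `Helper36.UnramBC`) -/
theorem mem_support_baseChange {A A' M : Type*} [CommRing A] [CommRing A'] [Algebra A A']
    [AddCommGroup M] [Module A M] [Module.Finite A M] (p' : PrimeSpectrum A')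
    (h : PrimeSpectrum.comap (algebraMap A A') p' ∈ Module.support A M) :
    p' ∈ Module.support A' (A' ⊗[A] M) := by
  rw [Module.mem_support_iff_nontrivial_residueField_tensorProduct]
  let K' := p'.asIdeal.ResidueField
  let e1 := AlgebraTensorModule.cancelBaseChange A A' K' K' M
  have : Nontrivial (K' ⊗[A] M) := by
    refine nontrivial_tensor_of_mem_support _ ?_ h
    ext x
    rw [PrimeSpectrum.comap_asIdeal, Ideal.mem_comap, RingHom.mem_ker,
      IsScalarTower.algebraMap_apply A A' K', Ideal.algebraMap_residueField_eq_zero]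
  exact e1.toEquiv.nontrivial_congr.2 this

/-- If the base change of a finite module vanishes, its annihilator generates the unit ideal. -/
theorem map_annihilator_eq_top {A C T : Type*} [CommRing A] [CommRing C] [Algebra A C]
    [AddCommGroup T] [Module A T] [Module.Finite A T] (h : Subsingleton (C ⊗[A] T)) :
    Ideal.map (algebraMap A C) (Module.annihilator A T) = ⊤ := by
  by_contra hne
  obtain ⟨q, hq, hle⟩ := Ideal.exists_le_maximal _ hne
  let p' : PrimeSpectrum C := ⟨q, hq.isPrime⟩
  have h1 : PrimeSpectrum.comap (algebraMap A C) p' ∈ Module.support A T := by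
    rw [Module.mem_support_iff_of_finite]
    exact Ideal.map_le_iff_le_comap.mp hle
  have h2 := mem_support_baseChange p' h1
  rw [Module.support_eq_empty] at h2
  exact h2

end Support

section Chart

variable {R : Type u} [CommRing R] {n k : ℕ} {L : Type} [Fintype L] (σ : Fin k ⊕ L ≃ Fin n)

section Defs

variable (A : Type w) [CommRing A] [Algebra R A]

/-- The standard basis of `A ⊗ R^n`, indexed via `σ`. -/
noncomputable def bas : Basis (Fin k ⊕ L) A (A ⊗[R] (Fin n → R)) :=
  ((Pi.basisFun R (Fin n)).baseChange A).reindex σ.symm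

theorem bas_apply (i : Fin k ⊕ L) :
    bas σ A i = (1 : A) ⊗ₜ[R] (Pi.single (σ i) 1 : Fin n → R) := by
  rw [bas, Basis.reindex_apply, Equiv.symm_symm, Basis.baseChange_apply, Pi.basisFun_apply]

/-- The map from the free module on the first `k` basis vectors to the quotient by `N`. -/
noncomputable def uMap (N : Submodule A (A ⊗[R] (Fin n → R))) :
    (Fin k → A) →ₗ[A] (A ⊗[R] (Fin n → R)) ⧸ N :=
  N.mkQ ∘ₗ Fintype.linearCombination A (fun j : Fin k => bas σ A (Sum.inl j))

theorem uMap_apply (N : Submodule A (A ⊗[R] (Fin n → R))) (f : Fin k → A) :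
    uMap σ A N f = N.mkQ (∑ j, f j • bas σ A (Sum.inl j)) := by
  rw [uMap, LinearMap.comp_apply, Fintype.linearCombination_apply]

theorem uMap_single (N : Submodule A (A ⊗[R] (Fin n → R))) (j : Fin k) :
    uMap σ A N (Pi.single j 1) = N.mkQ (bas σ A (Sum.inl j)) := by
  classical
  rw [uMap, LinearMap.comp_apply, Fintype.linearCombination_apply_single, one_smul]

/-- The chart condition: the first `k` basis vectors generate the quotient. -/
def PChart (N : Submodule A (A ⊗[R] (Fin n → R))) : Prop :=
  Function.Surjective (uMap σ A N)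

/-- The ideal cutting out the chart. -/
noncomputable def JChart (N : Submodule A (A ⊗[R] (Fin n → R))) : Ideal A :=
  Module.annihilator A (((A ⊗[R] (Fin n → R)) ⧸ N) ⧸ LinearMap.range (uMap σ A N))

end Defs

section BC

variable {A : Type w} [CommRing A] [Algebra R A] {C : Type w} [CommRing C] [Algebra R C]
  [Algebra A C] [IsScalarTower R A C]

theorem jmap_bas (i : Fin k ⊕ L) : jmap (R := R) C (bas σ A i) = bas σ C i := by
  rw [bas_apply, bas_apply, jmap_tmul, map_one]

theorem jmap_mem_ker (N : Submodule A (A ⊗[R] (Fin n → R))) (z : A ⊗[R] (Fin n → R))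
    (hz : z ∈ N) : jmap (R := R) C z ∈ LinearMap.ker (baseChangeMkQ C N) := by
  rw [LinearMap.mem_ker, baseChangeMkQ_jmap, Submodule.mkQ_apply,
    (Submodule.Quotient.mk_eq_zero N).mpr hz, tmul_zero]

end BC

section HPJ

variable {A : Type w} [CommRing A] [Algebra R A] {C : Type w} [CommRing C] [Algebra R C]
  [Algebra A C] [IsScalarTower R A C] (N : Submodule A (A ⊗[R] (Fin n → R)))

/-- `Ann (coker u_A) C = C` implies that `u_C` is surjective. -/
theorem pchart_of_map_eq_top
    (h : Ideal.map (algebraMap A C) (JChart σ A N) = ⊤) :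
    PChart σ C (LinearMap.ker (baseChangeMkQ C N)) := by
  set K := LinearMap.ker (baseChangeMkQ C N) with hK
  have key : ∀ i : Fin k ⊕ L, ∀ r ∈ Ideal.map (algebraMap A C) (JChart σ A N),
      r • K.mkQ (bas σ C i) ∈ LinearMap.range (uMap σ C K) := by
    intro i r hr
    rw [Ideal.map] at hr
    induction hr using Submodule.span_induction with
    | mem r hr =>
      obtain ⟨a, ha, rfl⟩ := hr
      have h1 : a • (LinearMap.range (uMap σ A N)).mkQ (N.mkQ (bas σ A i)) = 0 :=
        Module.mem_annihilator.mp ha _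
      rw [← map_smul, Submodule.mkQ_apply, Submodule.Quotient.mk_eq_zero] at h1
      obtain ⟨f, hf⟩ := h1
      rw [uMap_apply, ← map_smul, Submodule.mkQ_apply, Submodule.mkQ_apply,
        Submodule.Quotient.eq] at hf
      have h2 := jmap_mem_ker (C := C) N _ hf
      rw [map_sub, map_sum, map_smul, jmap_bas] at h2
      refine ⟨fun j => algebraMap A C (f j), ?_⟩
      rw [uMap_apply, ← map_smul, Submodule.mkQ_apply, Submodule.mkQ_apply,
        Submodule.Quotient.eq]
      have h3 : ∑ j, (algebraMap A C (f j)) • bas σ C (Sum.inl j) =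
          ∑ j, jmap (R := R) C (f j • bas σ A (Sum.inl j)) := by
        refine Finset.sum_congr rfl fun j _ => ?_
        rw [map_smul, jmap_bas, algebraMap_smul]
      rw [h3, ← algebraMap_smul C a (bas σ C i)] at *
      exact h2
    | zero => rw [zero_smul]; exact Submodule.zero_mem _
    | add x y _ _ hx hy => rw [add_smul]; exact Submodule.add_mem _ hx hy
    | smul c x _ hx => rw [smul_eq_mul, mul_smul]; exact Submodule.smul_mem _ _ hx
  intro q
  obtain ⟨y, rfl⟩ := Submodule.mkQ_surjective K q
  rw [← LinearMap.mem_range, ← (bas σ C).sum_repr y, map_sum]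
  refine Submodule.sum_mem _ fun i _ => ?_
  rw [map_smul]
  refine Submodule.smul_mem _ _ ?_
  have := key i 1 (by rw [h]; trivial)
  rwa [one_smul] at this

/-- If `u_C` is surjective then `Ann (coker u_A) C = C`. -/
theorem map_eq_top_of_pchart [Module.Finite A ((A ⊗[R] (Fin n → R)) ⧸ N)]
    (h : PChart σ C (LinearMap.ker (baseChangeMkQ C N))) :
    Ideal.map (algebraMap A C) (JChart σ A N) = ⊤ := by
  set K := LinearMap.ker (baseChangeMkQ C N) with hK
  let T := ((A ⊗[R] (Fin n → R)) ⧸ N) ⧸ LinearMap.range (uMap σ A N)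
  apply map_annihilator_eq_top (T := T)
  have h1 : ∀ i', baseChangeMkQ C N (bas σ C i') = (1 : C) ⊗ₜ[A] N.mkQ (bas σ A i') := by
    intro i'
    rw [← jmap_bas (A := A), baseChangeMkQ_jmap]
  have key : ∀ i, (1 : C) ⊗ₜ[A] (LinearMap.range (uMap σ A N)).mkQ (N.mkQ (bas σ A i)) = 0 := by
    intro i
    obtain ⟨f, hf⟩ := h (K.mkQ (bas σ C i))
    rw [uMap_apply, Submodule.mkQ_apply, Submodule.mkQ_apply, Submodule.Quotient.eq, hK,
      LinearMap.mem_ker, map_sub, sub_eq_zero, map_sum] at hf
    simp only [map_smul, h1] at hf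
    have h2 := congrArg ((LinearMap.range (uMap σ A N)).mkQ.baseChange C) hf
    rw [map_sum] at h2
    simp only [map_smul, LinearMap.baseChange_tmul] at h2
    rw [← h2]
    refine Finset.sum_eq_zero fun j _ => ?_
    have : (LinearMap.range (uMap σ A N)).mkQ (N.mkQ (bas σ A (Sum.inl j))) = 0 := by
      rw [Submodule.mkQ_apply, Submodule.Quotient.mk_eq_zero]
      exact ⟨Pi.single j 1, uMap_single σ A N j⟩
    rw [this, tmul_zero, smul_zero]
  have h0 : ∀ z, (1 : C) ⊗ₜ[A] (LinearMap.range (uMap σ A N)).mkQ (N.mkQ z) = 0 := by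
    intro z
    have : ((TensorProduct.mk A C T 1) ∘ₗ (LinearMap.range (uMap σ A N)).mkQ ∘ₗ N.mkQ) = 0 := by
      apply (bas σ A).ext
      intro i
      exact key i
    exact LinearMap.congr_fun this z
  refine ⟨fun x y => ?_⟩
  suffices ∀ x : C ⊗[A] T, x = 0 by rw [this x, this y]
  intro x
  induction x using TensorProduct.induction_on with
  | zero => rfl
  | tmul c t =>
    obtain ⟨q, rfl⟩ := Submodule.mkQ_surjective _ t
    obtain ⟨z, rfl⟩ := Submodule.mkQ_surjective _ q
    have : c ⊗ₜ[A] (LinearMap.range (uMap σ A N)).mkQ (N.mkQ z) =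
        c • ((1 : C) ⊗ₜ[A] (LinearMap.range (uMap σ A N)).mkQ (N.mkQ z)) := by
      rw [TensorProduct.smul_tmul', smul_eq_mul, mul_one]
    rw [this, h0, smul_zero]
  | add x y hx hy => rw [hx, hy, add_zero]

end HPJ

theorem pchart_map_iff {A C : Type w} [CommRing A] [Algebra R A] [CommRing C] [Algebra R C]
    (N : G(k, A ⊗[R] (Fin n → R); A)) (φ : A →ₐ[R] C) :
    PChart σ C (Grassmannian.map φ N).toSubmodule ↔
      Ideal.map φ (JChart σ A N.toSubmodule) = ⊤ := by
  letI : Algebra A C := φ.toAlgebra
  letI : IsScalarTower R A C :=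
    IsScalarTower.of_algebraMap_eq' <| IsScalarTower.algebraMap_eq R A C
  rw [map_toSubmodule]
  exact ⟨fun h => map_eq_top_of_pchart σ N.toSubmodule h,
    fun h => pchart_of_map_eq_top σ N.toSubmodule h⟩

section Rank

variable {A : Type w} [CommRing A] [Algebra R A] (N : G(k, A ⊗[R] (Fin n → R); A))

/-- A surjection from `A^k` onto a projective module of constant rank `k` is injective. -/
theorem uMap_injective (h : PChart σ A N.toSubmodule) :
    Function.Injective (uMap σ A N.toSubmodule) := by
  rcases subsingleton_or_nontrivial A with hA | hA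
  · exact Function.injective_of_subsingleton _
  set u := uMap σ A N.toSubmodule with hu
  obtain ⟨w, hw⟩ := Module.projective_lifting_property u LinearMap.id h
  have hw' : ∀ q, u (w q) = q := fun q => LinearMap.congr_fun hw q
  let K := LinearMap.ker u
  let π : (Fin k → A) →ₗ[A] K := LinearMap.codRestrict K (LinearMap.id - w ∘ₗ u) (by
    intro x
    rw [LinearMap.mem_ker, LinearMap.sub_apply, map_sub, LinearMap.comp_apply, hw',
      LinearMap.id_apply, sub_self])
  have hπ : ∀ x, ((π x : K) : Fin k → A) = x - w (u x) := fun x => rfl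
  have hπK : ∀ κ : K, π κ = κ := by
    intro κ
    apply Subtype.ext
    rw [hπ, LinearMap.mem_ker.mp κ.2, map_zero, sub_zero]
  haveI : Module.Finite A K := Module.Finite.of_surjective π (fun κ => ⟨κ, hπK κ⟩)
  haveI : Module.Projective A K := Module.Projective.of_split K.subtype π (by
    ext κ : 1
    exact hπK κ)
  let e : (Fin k → A) ≃ₗ[A] (((A ⊗[R] (Fin n → R)) ⧸ N.toSubmodule) × K) :=
    LinearEquiv.ofLinearMap (u.prod π) (w.coprod K.subtype)
      (by
        apply LinearMap.ext
        rintro ⟨q, κ⟩
        apply Prod.ext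
        · change u (w q + κ) = q
          rw [map_add, hw', LinearMap.mem_ker.mp κ.2, add_zero]
        · apply Subtype.ext
          change (w q + κ) - w (u (w q + κ)) = κ
          rw [map_add, hw', LinearMap.mem_ker.mp κ.2, add_zero, add_sub_cancel_left])
      (by
        apply LinearMap.ext
        intro x
        change w (u x) + (x - w (u x)) = x
        rw [add_sub_cancel])
  have h1 := Module.rankAtStalk_eq_of_equiv e
  rw [Module.rankAtStalk_prod] at h1
  have h2 : Module.rankAtStalk (R := A) K = 0 := by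
    funext p
    have h3 := congrFun h1 p
    rw [Pi.add_apply, N.rankAtStalk_eq p, Module.rankAtStalk_eq_finrank_of_free] at h3
    rw [Module.finrank_fin_fun] at h3
    change _ = 0
    simp only [Pi.natCast_apply, Nat.cast_id] at h3
    omega
  rw [Module.rankAtStalk_eq_zero_iff_subsingleton] at h2
  rw [← LinearMap.ker_eq_bot]
  exact Submodule.eq_bot_of_subsingleton

end Rank

section Matrix

variable {A : Type w} [CommRing A] [Algebra R A]

/-- The projection `A^n → A^k` attached to a matrix. -/
noncomputable def piMap (a : Fin k → L → A) : (A ⊗[R] (Fin n → R)) →ₗ[A] (Fin k → A) :=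
  (bas σ A).constr A (Sum.elim (fun j => Pi.single j 1) (fun l j => a j l))

theorem piMap_inl (a : Fin k → L → A) (j : Fin k) :
    piMap (R := R) σ a (bas σ A (Sum.inl j)) = Pi.single j 1 := by
  rw [piMap, Basis.constr_basis]
  rfl

theorem piMap_inr (a : Fin k → L → A) (l : L) :
    piMap (R := R) σ a (bas σ A (Sum.inr l)) = fun j => a j l := by
  rw [piMap, Basis.constr_basis]
  rfl

theorem piMap_sum (a : Fin k → L → A) (f : Fin k → A) :
    piMap (R := R) σ a (∑ j, f j • bas σ A (Sum.inl j)) = f := by
  rw [map_sum]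
  simp only [map_smul, piMap_inl]
  ext j'
  simp [Finset.sum_apply, Pi.single_apply]

theorem piMap_surjective (a : Fin k → L → A) : Function.Surjective (piMap (R := R) σ a) :=
  fun f => ⟨_, piMap_sum σ a f⟩

theorem rankAtStalk_fin_fun (p : PrimeSpectrum A) :
    Module.rankAtStalk (R := A) (Fin k → A) p = k := by
  rcases subsingleton_or_nontrivial A with hA | hA
  · exact absurd (Subsingleton.elim _ _) p.isPrime.ne_top
  · rw [Module.rankAtStalk_eq_finrank_of_free, Module.finrank_fin_fun]
    rfl

/-- The point of the Grassmannian attached to a matrix. -/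
noncomputable def Na (a : Fin k → L → A) : G(k, A ⊗[R] (Fin n → R); A) :=
  haveI equiv := (piMap (R := R) σ a).quotKerEquivOfSurjective (piMap_surjective σ a)
  { toSubmodule := LinearMap.ker (piMap (R := R) σ a)
    finite_quotient := Module.Finite.equiv equiv.symm
    projective_quotient := Module.Projective.of_equiv equiv.symm
    rankAtStalk_eq p := by
      have := congrArg (fun g => g p) (Module.rankAtStalk_eq_of_equiv equiv)
      exact this.trans (rankAtStalk_fin_fun p) }

theorem Na_toSubmodule (a : Fin k → L → A) :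
    (Na (R := R) σ a).toSubmodule = LinearMap.ker (piMap (R := R) σ a) := rfl

/-- The generators of `Na a`. -/
noncomputable def wl (a : Fin k → L → A) (l : L) : A ⊗[R] (Fin n → R) :=
  bas σ A (Sum.inr l) - ∑ j, a j l • bas σ A (Sum.inl j)

theorem piMap_wl (a a' : Fin k → L → A) (l : L) :
    piMap (R := R) σ a (wl (R := R) σ a' l) = fun j => a j l - a' j l := by
  rw [wl, map_sub, piMap_inr, piMap_sum]
  rfl

theorem wl_mem_Na (a : Fin k → L → A) (l : L) : wl (R := R) σ a l ∈ (Na (R := R) σ a).toSubmodule := by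
  rw [Na_toSubmodule, LinearMap.mem_ker, piMap_wl]
  funext j
  exact sub_self _

theorem pchart_Na (a : Fin k → L → A) : PChart σ A (Na (R := R) σ a).toSubmodule := by
  intro q
  obtain ⟨z, rfl⟩ := Submodule.mkQ_surjective _ q
  refine ⟨piMap (R := R) σ a z, ?_⟩
  rw [uMap_apply, Submodule.mkQ_apply, Submodule.mkQ_apply, Submodule.Quotient.eq,
    Na_toSubmodule, LinearMap.mem_ker, map_sub, piMap_sum, sub_self]

theorem Na_injective (a a' : Fin k → L → A) (h : Na (R := R) σ a = Na (R := R) σ a') : a = a' := by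
  funext j l
  have h1 := wl_mem_Na (R := R) σ a' l
  rw [← h, Na_toSubmodule, LinearMap.mem_ker, piMap_wl] at h1
  exact sub_eq_zero.mp (congrFun h1 j)

theorem eq_Na_of_mem (N : G(k, A ⊗[R] (Fin n → R); A)) (h : PChart σ A N.toSubmodule)
    (a : Fin k → L → A) (hw : ∀ l, wl (R := R) σ a l ∈ N.toSubmodule) : N = Na (R := R) σ a := by
  let E := LinearEquiv.ofBijective (uMap σ A N.toSubmodule) ⟨uMap_injective σ N h, h⟩
  have hE : ∀ f, E f = uMap σ A N.toSubmodule f := fun f => rfl
  let ρ : (A ⊗[R] (Fin n → R)) →ₗ[A] (Fin k → A) := E.symm.toLinearMap ∘ₗ N.toSubmodule.mkQ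
  have hρ : ρ = piMap (R := R) σ a := by
    apply (bas σ A).ext
    rintro (j | l)
    · rw [piMap_inl]
      change E.symm (N.toSubmodule.mkQ (bas σ A (Sum.inl j))) = _
      rw [LinearEquiv.symm_apply_eq, hE, uMap_single]
    · rw [piMap_inr]
      change E.symm (N.toSubmodule.mkQ (bas σ A (Sum.inr l))) = _
      rw [LinearEquiv.symm_apply_eq, hE, uMap_apply, Submodule.mkQ_apply, Submodule.mkQ_apply,
        Submodule.Quotient.eq]
      exact hw l
  apply Module.Grassmannian.ext
  rw [Na_toSubmodule, ← hρ]
  ext z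
  rw [LinearMap.mem_ker]
  change _ ↔ E.symm (N.toSubmodule.mkQ z) = 0
  rw [LinearEquiv.map_eq_zero_iff, Submodule.mkQ_apply, Submodule.Quotient.mk_eq_zero]

theorem exists_eq_Na (N : G(k, A ⊗[R] (Fin n → R); A)) (h : PChart σ A N.toSubmodule) :
    ∃ a : Fin k → L → A, N = Na (R := R) σ a := by
  choose f hf using fun l : L => h (N.toSubmodule.mkQ (bas σ A (Sum.inr l)))
  refine ⟨fun j l => f l j, eq_Na_of_mem σ N h _ fun l => ?_⟩
  have := hf l
  rw [uMap_apply, Submodule.mkQ_apply, Submodule.mkQ_apply, Submodule.Quotient.eq] at this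
  rw [wl, ← neg_sub]
  exact N.toSubmodule.neg_mem this

theorem jchart_eq_top (N : Submodule A (A ⊗[R] (Fin n → R))) (h : PChart σ A N) :
    JChart σ A N = ⊤ := by
  rw [JChart, Module.annihilator_eq_top_iff]
  have : LinearMap.range (uMap σ A N) = ⊤ := LinearMap.range_eq_top.mpr h
  rw [this]
  infer_instance

theorem map_Na {C : Type w} [CommRing C] [Algebra R C] (φ : A →ₐ[R] C) (a : Fin k → L → A) :
    Grassmannian.map φ (Na (R := R) σ a) = Na (R := R) σ (fun j l => φ (a j l)) := by
  apply eq_Na_of_mem
  · rw [pchart_map_iff, jchart_eq_top σ _ (pchart_Na (R := R) σ a), Ideal.map_top]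
  · intro l
    letI : Algebra A C := φ.toAlgebra
    letI : IsScalarTower R A C :=
      IsScalarTower.of_algebraMap_eq' <| IsScalarTower.algebraMap_eq R A C
    rw [map_toSubmodule]
    have h1 := jmap_mem_ker (C := C) (Na (R := R) σ a).toSubmodule _ (wl_mem_Na (R := R) σ a l)
    have h2 : jmap (R := R) C (wl (R := R) σ a l) = wl (R := R) σ (fun j l => φ (a j l)) l := by
      rw [wl, wl, map_sub, map_sum, jmap_bas]
      congr 1
      refine Finset.sum_congr rfl fun j _ => ?_
      rw [map_smul, jmap_bas, ← algebraMap_smul C (a j l) (bas σ C (Sum.inl j))]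
      rfl
    rw [← h2]
    exact h1

end Matrix

end Chart

section Field

theorem exists_equiv_extend {n k : ℕ} (s : Fin k → Fin n) (hs : Function.Injective s) :
    ∃ σ : Fin k ⊕ Fin (n - k) ≃ Fin n, ∀ j, σ (Sum.inl j) = s j := by
  classical
  let b : Set (Fin n) := Set.range s
  let e₁ : Fin k ≃ b := Equiv.ofInjective s hs
  have hb : Fintype.card b = k := by
    rw [← Fintype.card_congr e₁, Fintype.card_fin]
  have hc : Fintype.card (bᶜ : Set (Fin n)) = n - k := by
    rw [Fintype.card_compl_set, Fintype.card_fin, hb]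
  let e₂ : Fin (n - k) ≃ (bᶜ : Set (Fin n)) := (Fintype.equivFinOfCardEq hc).symm
  refine ⟨(Equiv.sumCongr e₁ e₂).trans (Equiv.Set.sumCompl b), fun j => ?_⟩
  rw [Equiv.trans_apply, Equiv.sumCongr_apply, Sum.map_inl, Equiv.Set.sumCompl_apply_inl]
  rfl

variable {R : Type u} [CommRing R] {n k : ℕ}

/-- Over a field, every point of the Grassmannian lies in some standard chart. -/
theorem exists_pchart_of_field {κ : Type w} [Field κ] [Algebra R κ]
    (N : G(k, κ ⊗[R] (Fin n → R); κ)) :
    ∃ σ : Fin k ⊕ Fin (n - k) ≃ Fin n, PChart σ κ N.toSubmodule := by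
  classical
  let B : Basis (Fin n) κ (κ ⊗[R] (Fin n → R)) := (Pi.basisFun R (Fin n)).baseChange κ
  let v : Fin n → (κ ⊗[R] (Fin n → R)) ⧸ N.toSubmodule := fun i => N.toSubmodule.mkQ (B i)
  have hv : Submodule.span κ (Set.range v) = ⊤ := by
    have : Set.range v = N.toSubmodule.mkQ '' Set.range B := by
      rw [← Set.range_comp]
      rfl
    rw [this, ← Submodule.map_span, B.span_eq, Submodule.map_top, LinearMap.range_eq_top]
    exact Submodule.mkQ_surjective _
  obtain ⟨ι', a, ha, hsp, hli⟩ := exists_linearIndependent' κ v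
  haveI : Finite ι' := Finite.of_injective a ha
  haveI : Fintype ι' := Fintype.ofFinite ι'
  rw [hv] at hsp
  let Bq : Basis ι' κ ((κ ⊗[R] (Fin n → R)) ⧸ N.toSubmodule) := Basis.mk hli hsp.ge
  have hcard : Fintype.card ι' = k := by
    rw [← Module.finrank_eq_card_basis Bq]
    have h1 := N.rankAtStalk_eq (⊥ : PrimeSpectrum κ)
    rw [Module.rankAtStalk_eq_finrank_of_free] at h1
    exact h1
  let e₀ : Fin k ≃ ι' := (Fintype.equivFinOfCardEq hcard).symm
  obtain ⟨σ, hσ⟩ := exists_equiv_extend (fun j => a (e₀ j)) (ha.comp e₀.injective)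
  refine ⟨σ, ?_⟩
  rw [PChart, ← LinearMap.range_eq_top, eq_top_iff, ← hsp, Submodule.span_le]
  rintro _ ⟨i, rfl⟩
  refine ⟨Pi.single (e₀.symm i) 1, ?_⟩
  rw [uMap_single, bas_apply, hσ, Equiv.apply_symm_apply]
  change _ = N.toSubmodule.mkQ (B (a i))
  rw [Basis.baseChange_apply, Pi.basisFun_apply]

end Field

end Groth.Agent.Lib.Helper54.GrassChartAlg
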