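import Mathlib
import Groth.Agent.Lib.Helper54.GrassClosed

/-!
# Open conditions on the Grassmannian functor, abstractly (helper54)

A condition `P` on points of the Grassmannian functor which is cut out by ideals `J` in the
sense `P (map φ N) ↔ (J N) C = C` is represented by an open subscheme of any scheme representing
the Grassmannian functor.
-/

set_option autoImplicit false
set_option linter.style.haveILetI false
universe u

open AlgebraicGeometry CategoryTheory Module TensorProduct Opposite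
open Groth.Agent.Lib.Helper54.GrassClosedAlg Groth.Agent.Lib.Helper54.GrassClosed

namespace Groth.Agent.Lib.Helper54.GrassOpen

variable {R : Type u} [CommRing R] {X : Over (Spec (CommRingCat.of R))}

theorem apply_fromSpec {A : CommAlgCat.{u} R} (g : SA A ⟶ X) (W : X.left.Opens)
    (hW : IsAffineOpen W) (V : (SA A).left.Opens) (hV : IsAffineOpen V) (h : V ≤ g.left ⁻¹ᵁ W)
    (y : Spec Γ((SA A).left, V)) :
    g.left (hV.fromSpec y) =
      hW.fromSpec (Spec.map (CommRingCat.ofHom (psi g W V h).hom.toRingHom) y) := by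
  have h1 := comp_left_eq_psi g W hW V hV h
  have h2 : hV.fromSpec ≫ g.left =
      Spec.map (CommRingCat.ofHom (psi g W V h).hom.toRingHom) ≫ hW.fromSpec := h1
  have h3 := congrArg (fun t : Spec Γ((SA A).left, V) ⟶ X.left => t y) h2
  exact h3

theorem fromSpec_mem_basicOpen_iff (W : X.left.Opens) (hW : IsAffineOpen W) (s : Γ(X.left, W))
    (z : Spec Γ(X.left, W)) :
    hW.fromSpec z ∈ X.left.basicOpen s ↔ s ∉ z.asIdeal := by
  have h1 := hW.fromSpec_preimage_basicOpen s
  have h2 : z ∈ hW.fromSpec ⁻¹ᵁ X.left.basicOpen s ↔ z ∈ PrimeSpectrum.basicOpen s := by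
    rw [h1]
    exact Iff.rfl
  exact h2

section Main

variable {M : Type u} [AddCommGroup M] [Module R M] {k : ℕ}
  (P : ∀ (C : Type u) [CommRing C] [Algebra R C], Submodule C (C ⊗[R] M) → Prop)
  (J : ∀ (A : Type u) [CommRing A] [Algebra R A], Submodule A (A ⊗[R] M) → Ideal A)
  (hPJ : ∀ (A C : Type u) [CommRing A] [Algebra R A] [CommRing C] [Algebra R C]
      (N : Module.Grassmannian A (A ⊗[R] M) k) (φ : A →ₐ[R] C),
      P C (Module.Grassmannian.map φ N).toSubmodule ↔ Ideal.map φ (J A N.toSubmodule) = ⊤)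
  (e : ∀ A : CommAlgCat.{u} R,
    (SA A ⟶ X) ≃ (Module.Grassmannian.functor (R := R) (M := M) k).obj A)
  (he : ∀ (A B : CommAlgCat.{u} R) (φ : A ⟶ B) (g : SA A ⟶ X) (g' : SA B ⟶ X),
    g'.left = Spec.map (CommRingCat.ofHom φ.hom.toRingHom) ≫ g.left →
    e B g' = (Module.Grassmannian.functor (R := R) (M := M) k).map φ (e A g))

include hPJ he in
theorem pt_char {A B : CommAlgCat.{u} R} (φ : A ⟶ B) (g : SA A ⟶ X) (g' : SA B ⟶ X)
    (h : g'.left = Spec.map (CommRingCat.ofHom φ.hom.toRingHom) ≫ g.left) :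
    P B (e B g').toSubmodule ↔ Ideal.map φ.hom (J A (e A g).toSubmodule) = ⊤ := by
  rw [he A B φ g g' h]
  exact hPJ A B (e A g) φ.hom

include hPJ he in
theorem pt_iff {A : CommAlgCat.{u} R} (g : SA A ⟶ X) :
    P A (e A g).toSubmodule ↔ J A (e A g).toSubmodule = ⊤ := by
  have h : g.left = Spec.map (CommRingCat.ofHom (𝟙 A : A ⟶ A).hom.toRingHom) ≫ g.left := by
    have : CommRingCat.ofHom (𝟙 A : A ⟶ A).hom.toRingHom = 𝟙 (CommRingCat.of A) := rfl
    rw [this, Spec.map_id, Category.id_comp]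
  rw [pt_char P J hPJ e he (𝟙 A) g g h]
  have : Ideal.map (𝟙 A : A ⟶ A).hom (J A (e A g).toSubmodule) = J A (e A g).toSubmodule :=
    Ideal.map_id _
  rw [this]

/-- The open locus of the condition. -/
noncomputable def openLocus : X.left.Opens :=
  ⨆ (W : X.left.affineOpens), ⨆ (s : J (AW X W.1) (e _ (gW X W.1 W.2)).toSubmodule),
    X.left.basicOpen ((s : AW X W.1) : Γ(X.left, W.1))

theorem basicOpen_le_openLocus (W : X.left.Opens) (hW : IsAffineOpen W)
    (s : Γ(X.left, W)) (hs : s ∈ J (AW X W) (e _ (gW X W hW)).toSubmodule) :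
    X.left.basicOpen s ≤ openLocus J e :=
  le_iSup_of_le (⟨W, hW⟩ : X.left.affineOpens) (le_iSup_of_le ⟨s, hs⟩ le_rfl)

theorem mem_openLocus_iff (x : X.left) :
    x ∈ openLocus J e ↔ ∃ (W : X.left.Opens) (hW : IsAffineOpen W) (s : Γ(X.left, W)),
      s ∈ J (AW X W) (e _ (gW X W hW)).toSubmodule ∧ x ∈ X.left.basicOpen s := by
  constructor
  · intro hx
    rw [openLocus, TopologicalSpace.Opens.mem_iSup] at hx
    obtain ⟨W, hx⟩ := hx
    rw [TopologicalSpace.Opens.mem_iSup] at hx
    obtain ⟨s, hx⟩ := hx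
    exact ⟨W.1, W.2, s.1, s.2, hx⟩
  · rintro ⟨W, hW, s, hs, hx⟩
    exact basicOpen_le_openLocus J e W hW s hs hx

theorem map_psi_eq_top_of_le {A : CommAlgCat.{u} R} (g : SA A ⟶ X) (W : X.left.Opens)
    (hW : IsAffineOpen W) (s : Γ(X.left, W))
    (hs : s ∈ J (AW X W) (e _ (gW X W hW)).toSubmodule)
    (V : (SA A).left.Opens) (hV : IsAffineOpen V) (hVW : V ≤ g.left ⁻¹ᵁ W)
    (hVs : V ≤ g.left ⁻¹ᵁ X.left.basicOpen s) :
    Ideal.map (psi g W V hVW).hom (J (AW X W) (e _ (gW X W hW)).toSubmodule) = ⊤ := by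
  by_contra hne
  obtain ⟨m, hm, hle⟩ := Ideal.exists_le_maximal _ hne
  let y : Spec Γ((SA A).left, V) := ⟨m, hm.isPrime⟩
  have h1 : (psi g W V hVW).hom s ∈ m := hle (Ideal.mem_map_of_mem _ hs)
  have h2 : hV.fromSpec y ∈ V := by
    have := hV.range_fromSpec
    rw [← SetLike.mem_coe, ← this]
    exact ⟨y, rfl⟩
  have h3 : g.left (hV.fromSpec y) ∈ X.left.basicOpen s := hVs h2
  rw [apply_fromSpec g W hW V hV hVW y, fromSpec_mem_basicOpen_iff] at h3
  exact h3 h1

include hPJ he in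
theorem exists_open : ∃ U : X.left.Opens,
    (∀ (A : CommAlgCat.{u} R) (g : SA A ⟶ X),
      (∀ x, g.left x ∈ U) ↔ P A (e A g).toSubmodule) ∧
    (∀ (W : X.left.Opens) (hW : IsAffineOpen W) (s : Γ(X.left, W)),
      s ∈ J (AW X W) (e _ (gW X W hW)).toSubmodule → X.left.basicOpen s ≤ U) := by
  refine ⟨openLocus J e, fun A g => ⟨fun H => ?_, fun H x => ?_⟩,
    fun W hW s hs => basicOpen_le_openLocus J e W hW s hs⟩
  · -- points in `U` implies `P`
    rw [pt_iff P J hPJ e he]
    by_contra hne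
    obtain ⟨m, hm, hle⟩ := Ideal.exists_le_maximal _ hne
    let x : (SA A).left := (⟨m, hm.isPrime⟩ : PrimeSpectrum A)
    obtain ⟨W, hW, s, hs, hxs⟩ := (mem_openLocus_iff J e _).mp (H x)
    have hxs' : x ∈ g.left ⁻¹ᵁ X.left.basicOpen s := hxs
    obtain ⟨V, hV, hxV, hVs⟩ :=
      exists_isAffineOpen_mem_and_subset (x := x) (U := g.left ⁻¹ᵁ X.left.basicOpen s) hxs'
    have hVW : V ≤ g.left ⁻¹ᵁ W := fun z hz => X.left.basicOpen_le s (hVs hz)
    have h1 := map_psi_eq_top_of_le J e g W hW s hs V hV hVW hVs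
    have h2 : P (AW (SA A) V) (e _ (gW (SA A) V hV ≫ g)).toSubmodule :=
      (pt_char P J hPJ e he (psi g W V hVW) (gW X W hW) (gW (SA A) V hV ≫ g)
        (comp_left_eq_psi g W hW V hV hVW)).mpr h1
    have h3 : Ideal.map (rho A V).hom (J A (e A g).toSubmodule) = ⊤ :=
      (pt_char P J hPJ e he (rho A V) g (gW (SA A) V hV ≫ g) (comp_left_eq_rho g V hV)).mp h2
    -- the point `x` comes from a prime `y` of `Γ(V)`
    have hxr : x ∈ Set.range hV.fromSpec := by
      rw [hV.range_fromSpec]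
      exact hxV
    obtain ⟨y, hy⟩ := hxr
    have hy' : Spec.map (CommRingCat.ofHom (rho A V).hom.toRingHom) y = x := by
      have := gW_SA A V hV
      have h4 : hV.fromSpec = Spec.map (CommRingCat.ofHom (rho A V).hom.toRingHom) := this
      rw [← h4]
      exact hy
    have h5 : Ideal.map (rho A V).hom (J A (e A g).toSubmodule) ≤ y.asIdeal := by
      rw [Ideal.map_le_iff_le_comap]
      intro a ha
      have h6 : a ∈ m := hle ha
      have h7 : (Spec.map (CommRingCat.ofHom (rho A V).hom.toRingHom) y).asIdeal = m := by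
        rw [hy']
      rw [← h7] at h6
      exact h6
    rw [h3] at h5
    exact y.isPrime.ne_top (top_le_iff.mp h5)
  · -- `P` implies points in `U`
    have hJ : J A (e A g).toSubmodule = ⊤ := (pt_iff P J hPJ e he g).mp H
    obtain ⟨W, hW, hxW, -⟩ :=
      exists_isAffineOpen_mem_and_subset (x := g.left x) (U := (⊤ : X.left.Opens)) trivial
    obtain ⟨V, hV, hxV, hVW⟩ :=
      exists_isAffineOpen_mem_and_subset (x := x) (U := g.left ⁻¹ᵁ W) hxW
    have h1 : P (AW (SA A) V) (e _ (gW (SA A) V hV ≫ g)).toSubmodule := by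
      rw [pt_char P J hPJ e he (rho A V) g (gW (SA A) V hV ≫ g) (comp_left_eq_rho g V hV), hJ,
        Ideal.map_top]
    have h2 : Ideal.map (psi g W V hVW).hom (J (AW X W) (e _ (gW X W hW)).toSubmodule) = ⊤ :=
      (pt_char P J hPJ e he (psi g W V hVW) (gW X W hW) (gW (SA A) V hV ≫ g)
        (comp_left_eq_psi g W hW V hV hVW)).mp h1
    have hxr : x ∈ Set.range hV.fromSpec := by
      rw [hV.range_fromSpec]
      exact hxV
    obtain ⟨y, rfl⟩ := hxr
    have h3 : ∃ s ∈ J (AW X W) (e _ (gW X W hW)).toSubmodule,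
        (psi g W V hVW).hom s ∉ y.asIdeal := by
      by_contra hcon
      push Not at hcon
      have h4 : Ideal.map (psi g W V hVW).hom (J (AW X W) (e _ (gW X W hW)).toSubmodule) ≤
          y.asIdeal := by
        rw [Ideal.map_le_iff_le_comap]
        intro a ha
        exact hcon a ha
      rw [h2] at h4
      exact y.isPrime.ne_top (top_le_iff.mp h4)
    obtain ⟨s, hs, hsy⟩ := h3
    apply basicOpen_le_openLocus J e W hW s hs
    rw [apply_fromSpec g W hW V hV hVW y, fromSpec_mem_basicOpen_iff]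
    exact hsy

end Main

end Groth.Agent.Lib.Helper54.GrassOpen
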