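import Mathlib
import Groth.Agent.Lib.Helper54.GrassClosed

/-!
# Closed conditions on the Grassmannian functor, abstractly (helper54)

Abstract version of `GrassClosed.exists_closed`: a condition `P` on points of the Grassmannian
functor which is cut out by ideals `J` (in the sense `P (map φ N) ↔ J N ≤ ker φ`) is represented
by a closed subscheme of any scheme representing the Grassmannian functor.
-/

set_option autoImplicit false
set_option linter.style.haveILetI false
universe u

open AlgebraicGeometry CategoryTheory Module TensorProduct Opposite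
open Groth.Agent.Lib.Helper54.GrassClosedAlg Groth.Agent.Lib.Helper54.GrassClosed

namespace Groth.Agent.Lib.Helper54.GrassClosed2

variable {R : Type u} [CommRing R] (X : Over (Spec (CommRingCat.of R)))

section Grass

variable {X} {M : Type u} [AddCommGroup M] [Module R M] {k : ℕ} 
  (P : ∀ (C : Type u) [CommRing C] [Algebra R C], Submodule C (C ⊗[R] M) → Prop)
  (J : ∀ (A : Type u) [CommRing A] [Algebra R A], Submodule A (A ⊗[R] M) → Ideal A)
  (hPJ : ∀ (A C : Type u) [CommRing A] [Algebra R A] [CommRing C] [Algebra R C]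
      (N : Module.Grassmannian A (A ⊗[R] M) k) (φ : A →ₐ[R] C),
      P C (Module.Grassmannian.map φ N).toSubmodule ↔ J A N.toSubmodule ≤ RingHom.ker φ)
  (e : ∀ A : CommAlgCat.{u} R,
    (SA A ⟶ X) ≃ (Module.Grassmannian.functor (R := R) (M := M) k).obj A)
  (he : ∀ (A B : CommAlgCat.{u} R) (φ : A ⟶ B) (g : SA A ⟶ X) (g' : SA B ⟶ X),
    g'.left = Spec.map (CommRingCat.ofHom φ.hom.toRingHom) ≫ g.left →
    e B g' = (Module.Grassmannian.functor (R := R) (M := M) k).map φ (e A g))

/-- The ideal attached to a point. -/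
noncomputable def ptIdeal {A : CommAlgCat.{u} R} (g : SA A ⟶ X) : Ideal A :=
  J A (e A g).toSubmodule

include hPJ he in
theorem pt_char {A B : CommAlgCat.{u} R} (φ : A ⟶ B) (g : SA A ⟶ X) (g' : SA B ⟶ X)
    (h : g'.left = Spec.map (CommRingCat.ofHom φ.hom.toRingHom) ≫ g.left) :
    P B (e B g').toSubmodule ↔ ptIdeal J e g ≤ RingHom.ker φ.hom := by
  rw [he A B φ g g' h]
  exact hPJ A B (e A g) φ.hom

include hPJ he in
theorem stab_iff_ptIdeal_eq_bot {A : CommAlgCat.{u} R} (g : SA A ⟶ X) :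
    P A (e A g).toSubmodule ↔ ptIdeal J e g = ⊥ := by
  have h : g.left = Spec.map (CommRingCat.ofHom (𝟙 A : A ⟶ A).hom.toRingHom) ≫ g.left := by
    have : CommRingCat.ofHom (𝟙 A : A ⟶ A).hom.toRingHom = 𝟙 (CommRingCat.of A) := rfl
    rw [this, Spec.map_id, Category.id_comp]
  rw [pt_char P J hPJ e he (𝟙 A) g g h, ← le_bot_iff]
  have : RingHom.ker (𝟙 A : A ⟶ A).hom = ⊥ := by
    ext x
    simp [RingHom.mem_ker]
  rw [this]

include hPJ he in
theorem ptIdeal_le_iff {A : CommAlgCat.{u} R} (g : SA A ⟶ X) (W : X.left.Opens)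
    (hW : IsAffineOpen W) (V : (SA A).left.Opens) (hV : IsAffineOpen V) (h : V ≤ g.left ⁻¹ᵁ W) :
    ptIdeal J e (gW X W hW) ≤ RingHom.ker (psi g W V h).hom ↔
      ptIdeal J e g ≤ RingHom.ker (rho A V).hom := by
  rw [← pt_char P J hPJ e he (psi g W V h) (gW X W hW) (gW (SA A) V hV ≫ g)
      (comp_left_eq_psi g W hW V hV h),
    ← pt_char P J hPJ e he (rho A V) g (gW (SA A) V hV ≫ g) (comp_left_eq_rho g V hV)]

include hPJ he in
theorem ptIdeal_map_res {W W' : X.left.Opens} (h : W' ≤ W) (hW : IsAffineOpen W)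
    (hW' : IsAffineOpen W') :
    (ptIdeal J e (gW X W hW)).map (resAW X h).hom.toRingHom = ptIdeal J e (gW X W' hW') := by
  apply ideal_eq_of_forall_ker (R := R) (A := AW X W')
  intro C _ _ φ
  have hN : e (AW X W') (gW X W' hW') =
      Module.Grassmannian.map (resAW X h).hom (e (AW X W) (gW X W hW)) :=
    he _ _ (resAW X h) _ _ (gW_res X h hW hW')
  rw [Ideal.map_le_iff_le_comap]
  have hk : Ideal.comap (resAW X h).hom.toRingHom (RingHom.ker φ) =
      RingHom.ker (φ.comp (resAW X h).hom) := by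
    ext x
    simp [RingHom.mem_ker]
  rw [hk, ptIdeal, ptIdeal, ← hPJ _ C _ φ, hN, ← Module.Grassmannian.map_comp,
    hPJ]

/-- The ideal sheaf of the stable locus. -/
noncomputable def stabSheaf : X.left.IdealSheafData where
  ideal W := ptIdeal J e (gW X W.1 W.2)
  map_ideal_basicOpen W f :=
    ptIdeal_map_res P J hPJ e he (X.left.basicOpen_le f) W.2 (X.left.affineBasicOpen f).2

end Grass

section Main

variable {X} {M : Type u} [AddCommGroup M] [Module R M] {k : ℕ} 
  (P : ∀ (C : Type u) [CommRing C] [Algebra R C], Submodule C (C ⊗[R] M) → Prop)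
  (J : ∀ (A : Type u) [CommRing A] [Algebra R A], Submodule A (A ⊗[R] M) → Ideal A)
  (hPJ : ∀ (A C : Type u) [CommRing A] [Algebra R A] [CommRing C] [Algebra R C]
      (N : Module.Grassmannian A (A ⊗[R] M) k) (φ : A →ₐ[R] C),
      P C (Module.Grassmannian.map φ N).toSubmodule ↔ J A N.toSubmodule ≤ RingHom.ker φ)
  (e : ∀ A : CommAlgCat.{u} R,
    (SA A ⟶ X) ≃ (Module.Grassmannian.functor (R := R) (M := M) k).obj A)
  (he : ∀ (A B : CommAlgCat.{u} R) (φ : A ⟶ B) (g : SA A ⟶ X) (g' : SA B ⟶ X),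
    g'.left = Spec.map (CommRingCat.ofHom φ.hom.toRingHom) ≫ g.left →
    e B g' = (Module.Grassmannian.functor (R := R) (M := M) k).map φ (e A g))

include hPJ he in
theorem stab_of_le {A : CommAlgCat.{u} R} (g : SA A ⟶ X)
    (H : ∀ W : X.left.affineOpens,
      ptIdeal J e (gW X W.1 W.2) ≤ RingHom.ker (g.left.app W.1).hom) :
    P A (e A g).toSubmodule := by
  rw [stab_iff_ptIdeal_eq_bot P J hPJ e he, eq_bot_iff]
  intro s hs
  rw [Ideal.mem_bot]
  have hinj : Function.Injective (Scheme.ΓSpecIso (CommRingCat.of A)).inv.hom :=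
    ((Scheme.ΓSpecIso (CommRingCat.of A)).symm.commRingCatIsoToRingEquiv).injective
  apply hinj
  rw [map_zero]
  apply section_eq_zero_of_locally
  intro x _
  obtain ⟨W, hW, hxW, -⟩ :=
    exists_isAffineOpen_mem_and_subset (x := g.left x) (U := (⊤ : X.left.Opens)) trivial
  obtain ⟨V, hV, hxV, hVW⟩ :=
    exists_isAffineOpen_mem_and_subset (x := x) (U := g.left ⁻¹ᵁ W) hxW
  refine ⟨V, le_top, hxV, ?_⟩
  have h1 : ptIdeal J e (gW X W hW) ≤ RingHom.ker (psi g W V hVW).hom := by
    refine (H ⟨W, hW⟩).trans ?_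
    intro y hy
    have hy' : (g.left.app W).hom y = 0 := hy
    change (g.left.appLE W V hVW).hom y = 0
    rw [Scheme.Hom.appLE, CommRingCat.hom_comp, RingHom.comp_apply, hy', map_zero]
  exact (ptIdeal_le_iff P J hPJ e he g W hW V hV hVW).mp h1 hs

include hPJ he in
theorem le_of_stab {A : CommAlgCat.{u} R} (g : SA A ⟶ X) (hs : P A (e A g).toSubmodule)
    (W : X.left.affineOpens) :
    ptIdeal J e (gW X W.1 W.2) ≤ RingHom.ker (g.left.app W.1).hom := by
  rw [stab_iff_ptIdeal_eq_bot P J hPJ e he] at hs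
  intro s hsI
  change (g.left.app W.1).hom s = 0
  apply section_eq_zero_of_locally
  intro x hx
  obtain ⟨V, hV, hxV, hVW⟩ :=
    exists_isAffineOpen_mem_and_subset (x := x) (U := g.left ⁻¹ᵁ W.1) hx
  refine ⟨V, hVW, hxV, ?_⟩
  have h1 : ptIdeal J e (gW X W.1 W.2) ≤ RingHom.ker (psi g W.1 V hVW).hom :=
    (ptIdeal_le_iff P J hPJ e he g W.1 W.2 V hV hVW).mpr (by rw [hs]; exact bot_le)
  exact h1 hsI

include hPJ he in
/-- A stability condition on the Grassmannian functor is represented by a closed subscheme. -/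
theorem exists_closed : ∃ (Z : Scheme.{u}) (i : Z ⟶ X.left), IsClosedImmersion i ∧
    ∀ (A : CommAlgCat.{u} R) (g : SA A ⟶ X),
      (∃ h : (SA A).left ⟶ Z, h ≫ i = g.left) ↔ P A (e A g).toSubmodule := by
  refine ⟨(stabSheaf P J hPJ e he).subscheme, (stabSheaf P J hPJ e he).subschemeι, inferInstance,
    fun A g => ?_⟩
  constructor
  · rintro ⟨h, hh⟩
    apply stab_of_le P J hPJ e he g
    intro W
    have h1 : stabSheaf P J hPJ e he ≤ g.left.ker := by
      rw [← hh]
      have := Scheme.Hom.le_ker_comp h (stabSheaf P J hPJ e he).subschemeι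
      rwa [Scheme.IdealSheafData.ker_subschemeι] at this
    exact (Scheme.IdealSheafData.le_ofIdeals_iff.mp h1) W
  · intro hs
    have h1 : stabSheaf P J hPJ e he ≤ g.left.ker :=
      Scheme.IdealSheafData.le_ofIdeals_iff.mpr fun W => le_of_stab P J hPJ e he g hs W
    exact ⟨IsClosedImmersion.lift (stabSheaf P J hPJ e he).subschemeι g.left
      (by rwa [Scheme.IdealSheafData.ker_subschemeι]), IsClosedImmersion.lift_fac _ _ _⟩

end Main

end Groth.Agent.Lib.Helper54.GrassClosed2
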