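import Mathlib
import Groth.Agent.Lib.Helper54.GrassClosedAlg

/-!
# Grassmannians and surjections of modules: algebra (helper54)

For a surjection `v : M₁ → M₂` of `R`-modules, taking preimages under `A ⊗ v` embeds the
Grassmannian functor of `M₂` into that of `M₁`, naturally in `A`; the image is the closed
condition `ker (A ⊗ v) ≤ N`.
-/

set_option autoImplicit false
set_option linter.style.haveILetI false
universe u v w

open TensorProduct Module

namespace Groth.Agent.Lib.Helper54.GrassSurjAlg

open Module.Grassmannian TensorProduct.AlgebraTensorModule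
open Groth.Agent.Lib.Helper54.GrassClosedAlg

variable {R : Type u} [CommRing R] {M₁ M₂ : Type v} [AddCommGroup M₁] [Module R M₁]
  [AddCommGroup M₂] [Module R M₂] (v : M₁ →ₗ[R] M₂)

section KerBC

variable {C : Type w} [CommRing C] [Algebra R C]

theorem ker_baseChange_le_iff (hv : Function.Surjective v) (K : Submodule C (C ⊗[R] M₁)) :
    LinearMap.ker (v.baseChange C) ≤ K ↔ ∀ m, v m = 0 → (1 : C) ⊗ₜ[R] m ∈ K := by
  constructor
  · intro h m hm
    apply h
    rw [LinearMap.mem_ker, LinearMap.baseChange_tmul, hm, tmul_zero]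
  · intro h y hy
    have hex : Function.Exact ((LinearMap.ker v).subtype.lTensor C) (v.lTensor C) :=
      lTensor_exact C (LinearMap.exact_subtype_ker_map v) hv
    have key : ∀ w, (LinearMap.ker v).subtype.lTensor C w ∈ K := by
      intro w
      induction w using TensorProduct.induction_on with
      | zero => rw [map_zero]; exact K.zero_mem
      | tmul c m =>
        rw [LinearMap.lTensor_tmul]
        have : c ⊗ₜ[R] (m : M₁) = c • ((1 : C) ⊗ₜ[R] (m : M₁)) := by
          rw [TensorProduct.smul_tmul', smul_eq_mul, mul_one]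
        rw [Submodule.subtype_apply, this]
        exact K.smul_mem _ (h _ m.2)
      | add x y hx hy => rw [map_add]; exact K.add_mem hx hy
    have hy' : v.lTensor C y = 0 := hy
    obtain ⟨w, rfl⟩ := (hex y).mp hy'
    exact key w

end KerBC

section Pre

variable {A : Type w} [CommRing A] [Algebra R A] {k : ℕ}

/-- The map whose kernel is the preimage of `N` under `A ⊗ v`. -/
noncomputable def preMap (N : Submodule A (A ⊗[R] M₂)) : A ⊗[R] M₁ →ₗ[A] (A ⊗[R] M₂) ⧸ N :=
  N.mkQ ∘ₗ v.baseChange A

theorem preMap_surjective (hv : Function.Surjective v) (N : Submodule A (A ⊗[R] M₂)) :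
    Function.Surjective (preMap v N) :=
  (Submodule.mkQ_surjective N).comp (LinearMap.baseChange_surjective A hv)

theorem ker_preMap (N : Submodule A (A ⊗[R] M₂)) :
    LinearMap.ker (preMap v N) = N.comap (v.baseChange A) := by
  rw [preMap, LinearMap.ker_comp, Submodule.ker_mkQ]

/-- The quotient by the preimage is the quotient by `N`. -/
noncomputable def preEquiv (hv : Function.Surjective v) (N : Submodule A (A ⊗[R] M₂)) :
    ((A ⊗[R] M₁) ⧸ LinearMap.ker (preMap v N)) ≃ₗ[A] (A ⊗[R] M₂) ⧸ N :=
  (preMap v N).quotKerEquivOfSurjective (preMap_surjective v hv N)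

/-- Preimage under `A ⊗ v` on Grassmannians. -/
noncomputable def pre (hv : Function.Surjective v) (N : G(k, A ⊗[R] M₂; A)) :
    G(k, A ⊗[R] M₁; A) :=
  haveI equiv := preEquiv v hv N.toSubmodule
  { toSubmodule := LinearMap.ker (preMap v N.toSubmodule)
    finite_quotient := Module.Finite.equiv equiv.symm
    projective_quotient := Module.Projective.of_equiv equiv.symm
    rankAtStalk_eq p := by
      have := congrArg (fun g => g p) (Module.rankAtStalk_eq_of_equiv equiv)
      exact this.trans (N.rankAtStalk_eq p) }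

theorem pre_toSubmodule (hv : Function.Surjective v) (N : G(k, A ⊗[R] M₂; A)) :
    (pre v hv N).toSubmodule = N.toSubmodule.comap (v.baseChange A) :=
  ker_preMap v N.toSubmodule

theorem pre_injective (hv : Function.Surjective v) :
    Function.Injective (pre (A := A) (k := k) v hv) := by
  intro N N' h
  apply Module.Grassmannian.ext
  have h' := congrArg Module.Grassmannian.toSubmodule h
  rw [pre_toSubmodule, pre_toSubmodule] at h'
  exact Submodule.comap_injective_of_surjective (LinearMap.baseChange_surjective A hv) h'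

theorem ker_le_pre (hv : Function.Surjective v) (N : G(k, A ⊗[R] M₂; A)) :
    LinearMap.ker (v.baseChange A) ≤ (pre v hv N).toSubmodule := by
  rw [pre_toSubmodule]
  exact LinearMap.ker_le_comap _

end Pre

section Natural

variable {A : Type w} [CommRing A] [Algebra R A] {k : ℕ}
  {B : Type w} [CommRing B] [Algebra R B]

theorem pre_map (hv : Function.Surjective v) (φ : A →ₐ[R] B) (N : G(k, A ⊗[R] M₂; A)) :
    Grassmannian.map φ (pre v hv N) = pre v hv (Grassmannian.map φ N) := by
  letI : Algebra A B := φ.toAlgebra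
  letI : IsScalarTower R A B :=
    IsScalarTower.of_algebraMap_eq' <| IsScalarTower.algebraMap_eq R A B
  apply Module.Grassmannian.ext
  rw [pre_toSubmodule, map_toSubmodule, map_toSubmodule]
  let E := (preEquiv v hv N.toSubmodule).baseChange A B
  have hcomp : (baseChangeMkQ B N.toSubmodule) ∘ₗ (v.baseChange B) =
      E.toLinearMap ∘ₗ baseChangeMkQ B (pre v hv N).toSubmodule := by
    apply LinearMap.ext
    intro z
    induction z using TensorProduct.induction_on with
    | zero => simp
    | tmul b m =>
      simp only [E, baseChangeMkQ, LinearMap.comp_apply, cancelBaseChange_symm_tmul,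
        LinearMap.baseChange_tmul, Submodule.mkQ_apply, LinearEquiv.coe_coe,
        LinearEquiv.coe_baseChange]
      congr 1
    | add x y hx hy =>
      simp only [LinearMap.coe_comp, LinearEquiv.coe_coe, Function.comp_apply, map_add] at *
      rw [hx, hy]
  rw [← LinearMap.ker_comp, hcomp, LinearEquiv.ker_comp]
  rfl

end Natural

section Push

variable {A : Type w} [CommRing A] [Algebra R A] {k : ℕ}

/-- For `K ⊇ ker (A ⊗ v)`, the induced map `A ⊗ M₂ → (A ⊗ M₁) ⧸ K`. -/
noncomputable def pushMap (hv : Function.Surjective v) (K : Submodule A (A ⊗[R] M₁))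
    (hK : LinearMap.ker (v.baseChange A) ≤ K) : A ⊗[R] M₂ →ₗ[A] (A ⊗[R] M₁) ⧸ K :=
  ((LinearMap.ker (v.baseChange A)).liftQ K.mkQ (by rwa [Submodule.ker_mkQ])) ∘ₗ
    ((v.baseChange A).quotKerEquivOfSurjective
      (LinearMap.baseChange_surjective A hv)).symm.toLinearMap

theorem pushMap_apply (hv : Function.Surjective v) (K : Submodule A (A ⊗[R] M₁))
    (hK : LinearMap.ker (v.baseChange A) ≤ K) (x : A ⊗[R] M₁) :
    pushMap v hv K hK (v.baseChange A x) = K.mkQ x := by
  have h1 : ((v.baseChange A).quotKerEquivOfSurjective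
      (LinearMap.baseChange_surjective A hv)).symm (v.baseChange A x) =
      (LinearMap.ker (v.baseChange A)).mkQ x := by
    rw [LinearEquiv.symm_apply_eq]
    rfl
  rw [pushMap, LinearMap.comp_apply, LinearEquiv.coe_coe, h1]
  rfl

theorem pushMap_surjective (hv : Function.Surjective v) (K : Submodule A (A ⊗[R] M₁))
    (hK : LinearMap.ker (v.baseChange A) ≤ K) : Function.Surjective (pushMap v hv K hK) := by
  intro q
  obtain ⟨x, rfl⟩ := Submodule.mkQ_surjective K q
  exact ⟨v.baseChange A x, pushMap_apply v hv K hK x⟩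

theorem comap_ker_pushMap (hv : Function.Surjective v) (K : Submodule A (A ⊗[R] M₁))
    (hK : LinearMap.ker (v.baseChange A) ≤ K) :
    (LinearMap.ker (pushMap v hv K hK)).comap (v.baseChange A) = K := by
  ext x
  rw [Submodule.mem_comap, LinearMap.mem_ker, pushMap_apply, Submodule.mkQ_apply,
    Submodule.Quotient.mk_eq_zero]

/-- The image of `K ⊇ ker (A ⊗ v)` in the Grassmannian of `M₂`. -/
noncomputable def push (hv : Function.Surjective v) (K : G(k, A ⊗[R] M₁; A))
    (hK : LinearMap.ker (v.baseChange A) ≤ K.toSubmodule) : G(k, A ⊗[R] M₂; A) :=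
  haveI equiv := (pushMap v hv K.toSubmodule hK).quotKerEquivOfSurjective
    (pushMap_surjective v hv K.toSubmodule hK)
  { toSubmodule := LinearMap.ker (pushMap v hv K.toSubmodule hK)
    finite_quotient := Module.Finite.equiv equiv.symm
    projective_quotient := Module.Projective.of_equiv equiv.symm
    rankAtStalk_eq p := by
      have := congrArg (fun g => g p) (Module.rankAtStalk_eq_of_equiv equiv)
      exact this.trans (K.rankAtStalk_eq p) }

theorem pre_push (hv : Function.Surjective v) (K : G(k, A ⊗[R] M₁; A))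
    (hK : LinearMap.ker (v.baseChange A) ≤ K.toSubmodule) :
    pre v hv (push v hv K hK) = K := by
  apply Module.Grassmannian.ext
  rw [pre_toSubmodule]
  exact comap_ker_pushMap v hv K.toSubmodule hK

theorem push_pre (hv : Function.Surjective v) (N : G(k, A ⊗[R] M₂; A)) :
    push v hv (pre v hv N) (ker_le_pre v hv N) = N :=
  pre_injective v hv (pre_push v hv _ _)

end Push

section Closed

variable {A : Type w} [CommRing A] [Algebra R A] {k : ℕ}
  {C : Type w} [CommRing C] [Algebra R C]

/-- The ideal cutting out the condition `ker (A ⊗ v) ≤ N`. -/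
def kerIdeal (N : Submodule A (A ⊗[R] M₁)) : Ideal A :=
  Ideal.span {x | ∃ (l : ((A ⊗[R] M₁) ⧸ N) →ₗ[A] A) (m : M₁),
    v m = 0 ∧ x = l (N.mkQ ((1 : A) ⊗ₜ[R] m))}

theorem ker_le_map_iff (hv : Function.Surjective v) (N : G(k, A ⊗[R] M₁; A)) (φ : A →ₐ[R] C) :
    LinearMap.ker (v.baseChange C) ≤ (Grassmannian.map φ N).toSubmodule ↔
      kerIdeal v N.toSubmodule ≤ RingHom.ker φ := by
  letI : Algebra A C := φ.toAlgebra
  letI : IsScalarTower R A C :=
    IsScalarTower.of_algebraMap_eq' <| IsScalarTower.algebraMap_eq R A C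
  rw [map_toSubmodule, ker_baseChange_le_iff v hv, kerIdeal, Ideal.span_le]
  have hj : ∀ m : M₁, (1 : C) ⊗ₜ[R] m = jmap (R := R) C ((1 : A) ⊗ₜ[R] m) := by
    intro m
    rw [jmap_tmul, map_one]
  constructor
  · rintro h _ ⟨l, m, hm, rfl⟩
    rw [SetLike.mem_coe, RingHom.mem_ker]
    have h1 := h m hm
    rw [hj, LinearMap.mem_ker, baseChangeMkQ_jmap] at h1
    exact (one_tmul_eq_zero_iff _).mp h1 l
  · intro h m hm
    rw [hj, LinearMap.mem_ker, baseChangeMkQ_jmap, one_tmul_eq_zero_iff]
    intro l
    have := h ⟨l, m, hm, rfl⟩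
    rwa [SetLike.mem_coe, RingHom.mem_ker] at this

end Closed

end Groth.Agent.Lib.Helper54.GrassSurjAlg
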