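import Mathlib
import Groth.Agent.Lib.Helper54.AffPts
import Groth.Agent.Lib.Helper54.GrassClosed2
import Groth.Agent.Lib.Helper54.GrassSurjAlg

/-!
# A surjection of modules induces a closed immersion of Grassmannians (helper54)
-/

set_option autoImplicit false
set_option linter.style.haveILetI false
universe u

open AlgebraicGeometry CategoryTheory Module TensorProduct Opposite
open Groth.Agent.Lib.Helper54.GrassClosedAlg Groth.Agent.Lib.Helper54.GrassClosed
open Groth.Agent.Lib.Helper54.AffPts Groth.Agent.Lib.Helper54.GrassSurjAlg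

namespace Groth.Agent.Lib.Helper54.GrassSurj

variable {R : Type u} [CommRing R]

section PullPt

variable {X : Over (Spec (CommRingCat.of R))}

/-- Pull a point back along an algebra map. -/
noncomputable def pullPt {A B : CommAlgCat.{u} R} (φ : A ⟶ B) (g : SA A ⟶ X) : SA B ⟶ X :=
  Over.homMk (Spec.map (CommRingCat.ofHom φ.hom.toRingHom) ≫ g.left) (by
    rw [Category.assoc, Over.w g]
    change Spec.map _ ≫ Spec.map _ = Spec.map _
    rw [← Spec.map_comp]
    congr 1
    ext r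
    exact φ.hom.commutes r)

theorem pullPt_left {A B : CommAlgCat.{u} R} (φ : A ⟶ B) (g : SA A ⟶ X) :
    (pullPt φ g).left = Spec.map (CommRingCat.ofHom φ.hom.toRingHom) ≫ g.left := rfl

variable {M : Type u} [AddCommGroup M] [Module R M] {k : ℕ}
  (e : ∀ A : CommAlgCat.{u} R,
    (SA A ⟶ X) ≃ (Module.Grassmannian.functor (R := R) (M := M) k).obj A)
  (he : ∀ (A B : CommAlgCat.{u} R) (φ : A ⟶ B) (g : SA A ⟶ X) (g' : SA B ⟶ X),
    g'.left = Spec.map (CommRingCat.ofHom φ.hom.toRingHom) ≫ g.left →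
    e B g' = (Module.Grassmannian.functor (R := R) (M := M) k).map φ (e A g))

include he in
/-- Converse of the naturality hypothesis. -/
theorem left_eq_of_e {A B : CommAlgCat.{u} R} (φ : A ⟶ B) (t : SA A ⟶ X) (t' : SA B ⟶ X)
    (h : e B t' = (Module.Grassmannian.functor (R := R) (M := M) k).map φ (e A t)) :
    t'.left = Spec.map (CommRingCat.ofHom φ.hom.toRingHom) ≫ t.left := by
  have h1 := he A B φ t (pullPt φ t) (pullPt_left φ t)
  have h2 : t' = pullPt φ t := (e B).injective (h.trans h1.symm)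
  rw [h2, pullPt_left]

end PullPt

section Main

variable {M₁ M₂ : Type u} [AddCommGroup M₁] [Module R M₁] [AddCommGroup M₂] [Module R M₂]
  (v : M₁ →ₗ[R] M₂) (hv : Function.Surjective v) {k : ℕ}
  {X₁ X₂ : Over (Spec (CommRingCat.of R))}
  (e₁ : ∀ A : CommAlgCat.{u} R,
    (SA A ⟶ X₁) ≃ (Module.Grassmannian.functor (R := R) (M := M₁) k).obj A)
  (he₁ : ∀ (A B : CommAlgCat.{u} R) (φ : A ⟶ B) (g : SA A ⟶ X₁) (g' : SA B ⟶ X₁),
    g'.left = Spec.map (CommRingCat.ofHom φ.hom.toRingHom) ≫ g.left →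
    e₁ B g' = (Module.Grassmannian.functor (R := R) (M := M₁) k).map φ (e₁ A g))
  (e₂ : ∀ A : CommAlgCat.{u} R,
    (SA A ⟶ X₂) ≃ (Module.Grassmannian.functor (R := R) (M := M₂) k).obj A)
  (he₂ : ∀ (A B : CommAlgCat.{u} R) (φ : A ⟶ B) (g : SA A ⟶ X₂) (g' : SA B ⟶ X₂),
    g'.left = Spec.map (CommRingCat.ofHom φ.hom.toRingHom) ≫ g.left →
    e₂ B g' = (Module.Grassmannian.functor (R := R) (M := M₂) k).map φ (e₂ A g))

include hv he₁ he₂ in
theorem exists_comap : ∃ c : X₂ ⟶ X₁, ∀ (A : CommAlgCat.{u} R) (g : SA A ⟶ X₂),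
    (e₁ A (g ≫ c)).toSubmodule = (e₂ A g).toSubmodule.comap (v.baseChange A) := by
  let τ : ∀ A : CommAlgCat.{u} R, (SA A ⟶ X₂) → (SA A ⟶ X₁) := fun A g =>
    (e₁ A).symm (pre v hv (e₂ A g))
  have hτ1 : ∀ (A : CommAlgCat.{u} R) (g : SA A ⟶ X₂), e₁ A (τ A g) = pre v hv (e₂ A g) :=
    fun A g => (e₁ A).apply_symm_apply _
  obtain ⟨c, hc⟩ := exists_of_natural τ (by
    intro A B φ g g' h
    apply left_eq_of_e e₁ he₁ φ
    rw [hτ1, hτ1, he₂ A B φ g g' h]
    exact (pre_map v hv φ.hom (e₂ A g)).symm)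
  refine ⟨c, fun A g => ?_⟩
  rw [hc, hτ1, pre_toSubmodule]

include hv he₁ he₂ in
theorem isClosedImmersion_of_comap (c : X₂ ⟶ X₁)
    (hc : ∀ (A : CommAlgCat.{u} R) (g : SA A ⟶ X₂),
      (e₁ A (g ≫ c)).toSubmodule = (e₂ A g).toSubmodule.comap (v.baseChange A)) :
    IsClosedImmersion c.left := by
  have hc' : ∀ (A : CommAlgCat.{u} R) (g : SA A ⟶ X₂), e₁ A (g ≫ c) = pre v hv (e₂ A g) := by
    intro A g
    apply Module.Grassmannian.ext
    rw [hc, pre_toSubmodule]
  -- the closed subscheme of `X₁` where `ker (A ⊗ v) ≤ N`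
  obtain ⟨Z, i, hi, hZ⟩ := GrassClosed2.exists_closed
    (fun C _ _ K => LinearMap.ker (v.baseChange C) ≤ K)
    (fun A _ _ N => kerIdeal v N)
    (fun A C _ _ _ _ N φ => ker_le_map_iff v hv N φ) e₁ he₁
  let Z' : Over (Spec (CommRingCat.of R)) := Over.mk (i ≫ X₁.hom)
  let i' : Z' ⟶ X₁ := Over.homMk i rfl
  have hi'left : i'.left = i := rfl
  have hZ' : ∀ (A : CommAlgCat.{u} R) (g : SA A ⟶ Z'),
      LinearMap.ker (v.baseChange A) ≤ (e₁ A (g ≫ i')).toSubmodule :=
    fun A g => (hZ A (g ≫ i')).mp ⟨g.left, rfl⟩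
  -- the inverse `Z' ⟶ X₂`
  let σ : ∀ A : CommAlgCat.{u} R, (SA A ⟶ Z') → (SA A ⟶ X₂) := fun A g =>
    (e₂ A).symm (push v hv (e₁ A (g ≫ i')) (hZ' A g))
  have hσ1 : ∀ (A : CommAlgCat.{u} R) (g : SA A ⟶ Z'),
      pre v hv (e₂ A (σ A g)) = e₁ A (g ≫ i') := by
    intro A g
    change pre v hv (e₂ A ((e₂ A).symm _)) = _
    rw [(e₂ A).apply_symm_apply, pre_push]
  obtain ⟨d, hd⟩ := exists_of_natural σ (by
    intro A B φ g g' h
    apply left_eq_of_e e₂ he₂ φ
    apply pre_injective v hv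
    have h1 : (g' ≫ i').left = Spec.map (CommRingCat.ofHom φ.hom.toRingHom) ≫ (g ≫ i').left := by
      rw [Over.comp_left, Over.comp_left, h, Category.assoc]
    rw [hσ1, he₁ A B φ (g ≫ i') (g' ≫ i') h1]
    change _ = pre v hv (Module.Grassmannian.map φ.hom (e₂ A (σ A g)))
    rw [← pre_map, hσ1]
    rfl)
  -- the lift `X₂ ⟶ Z'`
  have hlift : ∀ (A : CommAlgCat.{u} R) (g : SA A ⟶ X₂),
      ∃ h : (SA A).left ⟶ Z, h ≫ i = (g ≫ c).left := by
    intro A g
    apply (hZ A (g ≫ c)).mpr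
    rw [hc' A g]
    exact ker_le_pre v hv _
  let τ : ∀ A : CommAlgCat.{u} R, (SA A ⟶ X₂) → (SA A ⟶ Z') := fun A g =>
    Over.homMk (hlift A g).choose (by
      change _ ≫ i ≫ X₁.hom = _
      rw [← Category.assoc, (hlift A g).choose_spec]
      exact Over.w (g ≫ c))
  have hτ1 : ∀ (A : CommAlgCat.{u} R) (g : SA A ⟶ X₂), (τ A g).left ≫ i = (g ≫ c).left :=
    fun A g => (hlift A g).choose_spec
  obtain ⟨c', hc'2⟩ := exists_of_natural τ (by
    intro A B φ g g' h
    rw [← cancel_mono i, hτ1, Category.assoc, hτ1, Over.comp_left, Over.comp_left, h,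
      Category.assoc])
  have hfac : c' ≫ i' = c := by
    apply hom_ext_points
    intro A g
    apply Over.OverMorphism.ext
    rw [← Category.assoc, hc'2, Over.comp_left, hi'left, hτ1]
  have h1 : c' ≫ d = 𝟙 X₂ := by
    apply hom_ext_points
    intro A g
    rw [← Category.assoc, hd, Category.comp_id]
    apply (e₂ A).injective
    apply pre_injective v hv
    rw [hσ1, Category.assoc, hfac, hc']
  have h2 : d ≫ c' = 𝟙 Z' := by
    apply hom_ext_points
    intro A g
    rw [Category.comp_id]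
    apply Over.OverMorphism.ext
    rw [← cancel_mono i]
    have h3 : (g ≫ d) ≫ c = g ≫ i' := by
      apply (e₁ A).injective
      rw [hc', hd, hσ1]
    have h4 := congrArg (fun t => t.left) h3
    rw [← hfac] at h4
    simpa [hi'left] using h4
  have hiso : IsIso c'.left :=
    ⟨d.left, by simpa using congrArg (fun t => t.left) h1,
      by simpa using congrArg (fun t => t.left) h2⟩
  have hcl : c.left = c'.left ≫ i := by rw [← hfac, Over.comp_left, hi'left]
  rw [hcl]
  infer_instance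

end Main

end Groth.Agent.Lib.Helper54.GrassSurj
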