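import Mathlib
import Groth.Agent.Lib.Helper54.AffPts
import Groth.Agent.Lib.Helper54.GrassSurj
import Groth.Agent.Lib.Helper54.GrassOpen
import Groth.Agent.Lib.Helper54.GrassChartAlg
import Groth.Agent.Lib.Helper54.AffineSpaceSmoothDim

/-!
# Standard affine charts of a scheme representing the Grassmannian functor (helper54)
-/

set_option autoImplicit false
set_option linter.style.haveILetI false
universe u

open AlgebraicGeometry CategoryTheory Module TensorProduct Opposite
open Groth.Agent.Lib.Helper54.GrassClosedAlg Groth.Agent.Lib.Helper54.GrassClosed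
open Groth.Agent.Lib.Helper54.AffPts Groth.Agent.Lib.Helper54.GrassSurj
open Groth.Agent.Lib.Helper54.GrassOpen Groth.Agent.Lib.Helper54.GrassChartAlg

namespace Groth.Agent.Lib.Helper54.GrassChart

variable {R : Type u} [CommRing R]

section Yoneda

variable {Y Y' : Over (Spec (CommRingCat.of R))}

/-- A morphism inducing bijections on all affine points is an isomorphism. -/
theorem isIso_of_bijective_on_points (c : Y' ⟶ Y)
    (h : ∀ A : CommAlgCat.{u} R, Function.Bijective (fun g : SA A ⟶ Y' => g ≫ c)) : IsIso c := by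
  let τ : ∀ A : CommAlgCat.{u} R, (SA A ⟶ Y) → (SA A ⟶ Y') := fun A g =>
    ((h A).surjective g).choose
  have hτ : ∀ (A : CommAlgCat.{u} R) (g : SA A ⟶ Y), τ A g ≫ c = g := fun A g =>
    ((h A).surjective g).choose_spec
  obtain ⟨d, hd⟩ := exists_of_natural τ (by
    intro A B φ g g' hg
    have h1 : pullPt φ (τ A g) ≫ c = g' := by
      apply Over.OverMorphism.ext
      rw [Over.comp_left, pullPt_left, Category.assoc, ← Over.comp_left, hτ, hg]
    have h2 : τ B g' = pullPt φ (τ A g) := (h B).injective ((hτ B g').trans h1.symm)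
    rw [h2, pullPt_left])
  have h1 : d ≫ c = 𝟙 Y := by
    apply hom_ext_points
    intro A g
    rw [← Category.assoc, hd, hτ, Category.comp_id]
  have h2 : c ≫ d = 𝟙 Y' := by
    apply hom_ext_points
    intro A g
    rw [← Category.assoc, hd, Category.comp_id]
    exact (h A).injective (hτ A (g ≫ c))
  exact ⟨d, h2, h1⟩

end Yoneda

section AffPt

variable {A B : CommAlgCat.{u} R}

/-- Every point of `Spec B` is induced by an algebra map. -/
theorem exists_eq_pullPt (g : SA A ⟶ SA B) : ∃ ψ : B ⟶ A, g = pullPt ψ (𝟙 (SA B)) := by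
  have hw := Over.w g
  have hw' : g.left ≫ Spec.map (CommRingCat.ofHom (algebraMap R B)) =
      Spec.map (CommRingCat.ofHom (algebraMap R A)) := hw
  have h1 : Spec.map (Spec.preimage g.left) = g.left := Spec.map_preimage _
  rw [← h1, ← Spec.map_comp] at hw'
  have h2 := Spec.map_injective hw'
  refine ⟨CommAlgCat.ofHom (R := R) (X := B) (Y := A)
    { toRingHom := (Spec.preimage g.left).hom
      commutes' := fun r => ?_ }, ?_⟩
  · exact congrArg (fun t => t.hom r) h2
  · apply Over.OverMorphism.ext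
    rw [pullPt_left]
    change g.left = Spec.map (Spec.preimage g.left) ≫ 𝟙 _
    rw [Category.comp_id, h1]

theorem pullPt_id_injective (ψ ψ' : B ⟶ A)
    (h : pullPt ψ (𝟙 (SA B)) = pullPt ψ' (𝟙 (SA B))) : ψ.hom.toRingHom = ψ'.hom.toRingHom := by
  have h1 := congrArg (fun t => t.left) h
  simp only [pullPt_left] at h1
  have h2 : Spec.map (CommRingCat.ofHom ψ.hom.toRingHom) =
      Spec.map (CommRingCat.ofHom ψ'.hom.toRingHom) := by
    have e1 : ∀ f : Spec (CommRingCat.of A) ⟶ (SA B).left, f ≫ (𝟙 (SA B) : SA B ⟶ SA B).left = f :=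
      fun f => Category.comp_id f
    rw [e1, e1] at h1
    exact h1
  exact congrArg (fun t => t.hom) (Spec.map_injective h2)

end AffPt

section Chart

variable (R) in
/-- The polynomial algebra in `k (n - k)` variables. -/
noncomputable abbrev Pol (n k : ℕ) : CommAlgCat.{u} R :=
  CommAlgCat.of R (MvPolynomial (ULift.{u} (Fin (k * (n - k)))) R)

/-- Index bijection. -/
def δ (n k : ℕ) : ULift.{u} (Fin (k * (n - k))) ≃ Fin k × Fin (n - k) :=
  Equiv.ulift.trans finProdFinEquiv.symm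

variable (R) in
/-- The universal matrix. -/
noncomputable def aUniv (n k : ℕ) : Fin k → Fin (n - k) → Pol R n k :=
  fun j l => MvPolynomial.X ((δ n k).symm (j, l))

variable {n k : ℕ} {X : Over (Spec (CommRingCat.of R))}
  (e : ∀ A : CommAlgCat.{u} R,
    (SA A ⟶ X) ≃ (Module.Grassmannian.functor (R := R) (M := Fin n → R) k).obj A)
  (he : ∀ (A B : CommAlgCat.{u} R) (φ : A ⟶ B) (g : SA A ⟶ X) (g' : SA B ⟶ X),
    g'.left = Spec.map (CommRingCat.ofHom φ.hom.toRingHom) ≫ g.left →
    e B g' = (Module.Grassmannian.functor (R := R) (M := Fin n → R) k).map φ (e A g))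

include he in
theorem chart (σ : Fin k ⊕ Fin (n - k) ≃ Fin n) : ∃ U : X.left.Opens,
    (∀ (W : X.left.Opens) (hW : IsAffineOpen W) (s : Γ(X.left, W)),
      s ∈ JChart σ (AW X W) (e _ (gW X W hW)).toSubmodule → X.left.basicOpen s ≤ U) ∧
    Nonempty (Over.mk (U.ι ≫ X.hom) ≅ SA (Pol R n k)) := by
  have hPJ : ∀ (A C : Type u) [CommRing A] [Algebra R A] [CommRing C] [Algebra R C]
      (N : Module.Grassmannian A (A ⊗[R] (Fin n → R)) k) (φ : A →ₐ[R] C),
      PChart σ C (Module.Grassmannian.map φ N).toSubmodule ↔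
        Ideal.map φ (JChart σ A N.toSubmodule) = ⊤ :=
    fun A C _ _ _ _ N φ => pchart_map_iff σ N φ
  obtain ⟨U, hU1, hU2⟩ := exists_open (M := Fin n → R) (k := k)
    (fun C _ _ K => PChart σ C K) (fun A _ _ N => JChart σ A N) hPJ e he
  refine ⟨U, hU2, ?_⟩
  let Y : Over (Spec (CommRingCat.of R)) := Over.mk (U.ι ≫ X.hom)
  let ιU : Y ⟶ X := Over.homMk U.ι rfl
  have hιU : ιU.left = U.ι := rfl
  have hY : ∀ (A : CommAlgCat.{u} R) (g : SA A ⟶ Y),
      PChart σ A (e A (g ≫ ιU)).toSubmodule := by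
    intro A g
    apply (hU1 A (g ≫ ιU)).mp
    intro x
    change U.ι (g.left x) ∈ U
    exact (g.left x).2
  have hlift : ∀ (A : CommAlgCat.{u} R) (g : SA A ⟶ X), PChart σ A (e A g).toSubmodule →
      ∃ g' : SA A ⟶ Y, g' ≫ ιU = g := by
    intro A g hg
    have hx := (hU1 A g).mpr hg
    have hr : Set.range g.left ⊆ Set.range U.ι := by
      rintro _ ⟨x, rfl⟩
      rw [Scheme.Opens.range_ι]
      exact hx x
    refine ⟨Over.homMk (IsOpenImmersion.lift U.ι g.left hr) ?_, ?_⟩
    · change _ ≫ U.ι ≫ X.hom = _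
      rw [← Category.assoc, IsOpenImmersion.lift_fac]
      exact Over.w g
    · apply Over.OverMorphism.ext
      rw [Over.comp_left, hιU]
      exact IsOpenImmersion.lift_fac _ _ _
  have hmono : ∀ (A : CommAlgCat.{u} R) (g₁ g₂ : SA A ⟶ Y), g₁ ≫ ιU = g₂ ≫ ιU → g₁ = g₂ := by
    intro A g₁ g₂ h
    apply Over.OverMorphism.ext
    have := congrArg (fun t => t.left) h
    simp only [Over.comp_left, hιU] at this
    exact (cancel_mono U.ι).mp this
  obtain ⟨c, hc⟩ := hlift (Pol R n k) ((e (Pol R n k)).symm (Na (R := R) σ (aUniv R n k))) (by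
    rw [Equiv.apply_symm_apply]
    exact pchart_Na σ _)
  have key : ∀ (A : CommAlgCat.{u} R) (ψ : Pol R n k ⟶ A),
      e A ((pullPt ψ (𝟙 (SA (Pol R n k))) ≫ c) ≫ ιU) =
        Na (R := R) σ (fun j l => ψ.hom (aUniv R n k j l)) := by
    intro A ψ
    have h1 : ((pullPt ψ (𝟙 (SA (Pol R n k))) ≫ c) ≫ ιU).left =
        Spec.map (CommRingCat.ofHom ψ.hom.toRingHom) ≫
          ((e (Pol R n k)).symm (Na (R := R) σ (aUniv R n k))).left := by
      rw [Category.assoc, hc, Over.comp_left, pullPt_left]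
      congr 1
    rw [he _ _ ψ _ _ h1, Equiv.apply_symm_apply]
    exact map_Na σ ψ.hom (aUniv R n k)
  have hiso : IsIso c := by
    apply isIso_of_bijective_on_points
    intro A
    constructor
    · intro g₁ g₂ h
      obtain ⟨ψ₁, rfl⟩ := exists_eq_pullPt g₁
      obtain ⟨ψ₂, rfl⟩ := exists_eq_pullPt g₂
      have h' : (pullPt ψ₁ (𝟙 _) ≫ c) ≫ ιU = (pullPt ψ₂ (𝟙 _) ≫ c) ≫ ιU :=
        congrArg (fun t => t ≫ ιU) h
      have h2 := congrArg (e A) h'
      rw [key, key] at h2
      have h3 := Na_injective σ _ _ h2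
      have h4 : ψ₁.hom = ψ₂.hom := by
        apply MvPolynomial.algHom_ext
        intro d
        have := congrFun (congrFun h3 ((δ n k) d).1) ((δ n k) d).2
        simpa [aUniv] using this
      have h5 : ψ₁ = ψ₂ := CommAlgCat.hom_ext h4
      rw [h5]
    · intro g
      obtain ⟨a, ha⟩ := exists_eq_Na σ (e A (g ≫ ιU)) (hY A g)
      let ψ : Pol R n k ⟶ A := CommAlgCat.ofHom
        (MvPolynomial.aeval (fun d => a ((δ n k) d).1 ((δ n k) d).2))
      refine ⟨pullPt ψ (𝟙 _), ?_⟩
      apply hmono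
      apply (e A).injective
      rw [key, ha]
      congr 1
      funext j l
      simp [ψ, aUniv]
  exact ⟨(asIso c).symm⟩

theorem exists_chart_mem (x : X.left) : ∃ σ : Fin k ⊕ Fin (n - k) ≃ Fin n,
    ∀ U : X.left.Opens, (∀ (W : X.left.Opens) (hW : IsAffineOpen W) (s : Γ(X.left, W)),
      s ∈ JChart σ (AW X W) (e _ (gW X W hW)).toSubmodule → X.left.basicOpen s ≤ U) → x ∈ U := by
  obtain ⟨W, hW, hxW, -⟩ :=
    exists_isAffineOpen_mem_and_subset (x := x) (U := (⊤ : X.left.Opens)) trivial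
  have hxr : x ∈ Set.range hW.fromSpec := by
    rw [hW.range_fromSpec]
    exact hxW
  obtain ⟨z, rfl⟩ := hxr
  let p : Ideal (AW X W) := z.asIdeal
  haveI : p.IsPrime := z.isPrime
  let κ := p.ResidueField
  letI : Algebra R κ := ((algebraMap (AW X W) κ).comp (algebraMap R (AW X W))).toAlgebra
  haveI : IsScalarTower R (AW X W) κ := IsScalarTower.of_algebraMap_eq' rfl
  let φ : (AW X W) →ₐ[R] κ := IsScalarTower.toAlgHom R (AW X W) κ
  obtain ⟨σ, hσ⟩ := exists_pchart_of_field (R := R)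
    (Module.Grassmannian.map φ (e (AW X W) (gW X W hW)))
  refine ⟨σ, fun U hU => ?_⟩
  have h1 := (pchart_map_iff σ (e (AW X W) (gW X W hW)) φ).mp hσ
  have h2 : ∃ s ∈ JChart σ (AW X W) (e _ (gW X W hW)).toSubmodule, s ∉ p := by
    by_contra hcon
    push Not at hcon
    have h3 : Ideal.map φ (JChart σ (AW X W) (e _ (gW X W hW)).toSubmodule) = ⊥ := by
      rw [Ideal.map_eq_bot_iff_le_ker]
      intro s hs
      rw [RingHom.mem_ker]
      exact Ideal.algebraMap_residueField_eq_zero.mpr (hcon s hs)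
    rw [h3] at h1
    exact bot_ne_top h1
  obtain ⟨s, hs, hsp⟩ := h2
  apply hU W hW s hs
  rw [fromSpec_mem_basicOpen_iff]
  exact hsp

include he in
theorem main : SmoothOfRelativeDimension (k * (n - k)) X.hom ∧
    ∃ (ι : Type) (_ : Finite ι) (U : ι → X.left.Opens), ⨆ i, U i = ⊤ ∧
      ∀ i, Nonempty (Over.mk ((U i).ι ≫ X.hom) ≅
        Over.mk (𝔸(ULift.{u} (Fin (k * (n - k))); Spec (CommRingCat.of R)) ↘
          Spec (CommRingCat.of R))) := by
  choose U hU1 hU2 using fun σ : Fin k ⊕ Fin (n - k) ≃ Fin n => chart e he σ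
  have hcov : ⨆ σ, U σ = ⊤ := by
    rw [eq_top_iff]
    intro x _
    obtain ⟨σ, hσ⟩ := exists_chart_mem e x
    exact TopologicalSpace.Opens.mem_iSup.mpr ⟨σ, hσ (U σ) (hU1 σ)⟩
  let isoA : SA (Pol R n k) ≅
      Over.mk (𝔸(ULift.{u} (Fin (k * (n - k))); Spec (CommRingCat.of R)) ↘
        Spec (CommRingCat.of R)) :=
    Over.isoMk (AffineSpace.SpecIso (ULift.{u} (Fin (k * (n - k)))) (CommRingCat.of R)).symm
      (AffineSpace.SpecIso_inv_over _)
  have hiso : ∀ σ, Nonempty (Over.mk ((U σ).ι ≫ X.hom) ≅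
      Over.mk (𝔸(ULift.{u} (Fin (k * (n - k))); Spec (CommRingCat.of R)) ↘
        Spec (CommRingCat.of R))) := fun σ => ⟨(hU2 σ).some ≪≫ isoA⟩
  refine ⟨?_, (Fin k ⊕ Fin (n - k) ≃ Fin n), inferInstance, U, hcov, hiso⟩
  apply IsZariskiLocalAtSource.of_iSup_eq_top (P := @SmoothOfRelativeDimension (k * (n - k))) U hcov
  intro σ
  obtain ⟨i⟩ := hiso σ
  have hw : i.hom.left ≫ (𝔸(ULift.{u} (Fin (k * (n - k))); Spec (CommRingCat.of R)) ↘
      Spec (CommRingCat.of R)) = (U σ).ι ≫ X.hom := Over.w i.hom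
  rw [← hw]
  have hsm := AffineSpaceSmoothDim.smoothOfRelativeDimension_affineSpace
    (ULift.{u} (Fin (k * (n - k)))) (CommRingCat.of R)
  have hcard : Nat.card (ULift.{u} (Fin (k * (n - k)))) = k * (n - k) := by simp
  rw [hcard] at hsm
  haveI : IsIso i.hom.left := inferInstance
  exact (MorphismProperty.cancel_left_of_respectsIso
    (P := @SmoothOfRelativeDimension (k * (n - k))) _ _).mpr hsm

end Chart

end Groth.Agent.Lib.Helper54.GrassChart
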