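import Mathlib
import Groth.Agent.Lib.Helper54.GrassClosedAlg
import Groth.Agent.Lib.Helper79.ZarProj

/-!
# The Grassmannian functor is a Zariski sheaf on affine schemes: algebra (helper54)
-/

set_option autoImplicit false
set_option linter.style.haveILetI false
set_option linter.unusedSectionVars false
universe u v w

open TensorProduct Module

namespace Groth.Agent.Lib.Helper54.GrassGlueAlg

open Module.Grassmannian TensorProduct.AlgebraTensorModule
open Groth.Agent.Lib.Helper54.GrassClosedAlg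

section Ker

variable {R : Type u} [CommRing R] {M : Type v} [AddCommGroup M] [Module R M]
  {A : Type w} [CommRing A] [Algebra R A] {C : Type w} [CommRing C] [Algebra R C]
  [Algebra A C] [IsScalarTower R A C] (N : Submodule A (A ⊗[R] M))

theorem jmap_mem_ker (z : A ⊗[R] M) (hz : z ∈ N) :
    jmap (R := R) C z ∈ LinearMap.ker (baseChangeMkQ C N) := by
  rw [LinearMap.mem_ker, baseChangeMkQ_jmap, Submodule.mkQ_apply,
    (Submodule.Quotient.mk_eq_zero N).mpr hz, tmul_zero]

/-- The kernel of `baseChangeMkQ` is generated by the image of `N` (no projectivity needed). -/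
theorem ker_baseChangeMkQ' :
    LinearMap.ker (baseChangeMkQ C N) =
      Submodule.span C (jmap (R := R) C '' (N : Set (A ⊗[R] M))) := by
  apply le_antisymm
  · intro y hy
    set y' := (cancelBaseChange R A C C M).symm y with hy'
    have hy'0 : N.mkQ.lTensor C y' = 0 := hy
    have hex := lTensor_mkQ C N
    have hy'1 : y' ∈ LinearMap.ker (N.mkQ.lTensor C) := hy'0
    rw [hex] at hy'1
    obtain ⟨w, hw⟩ := hy'1
    have key : ∀ w : C ⊗[A] N, cancelBaseChange R A C C M (N.subtype.lTensor C w) ∈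
        Submodule.span C (jmap (R := R) C '' (N : Set (A ⊗[R] M))) := by
      intro w
      induction w using TensorProduct.induction_on with
      | zero => simp
      | tmul c z =>
        rw [LinearMap.lTensor_tmul, cancel_tmul]
        exact Submodule.smul_mem _ _ (Submodule.subset_span ⟨z.1, z.2, rfl⟩)
      | add x y hx hy => rw [map_add, map_add]; exact Submodule.add_mem _ hx hy
    have := key w
    rwa [hw, hy', LinearEquiv.apply_symm_apply] at this
  · rw [Submodule.span_le]
    rintro _ ⟨z, hz, rfl⟩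
    exact jmap_mem_ker N z hz

end Ker

section Sep

variable {R : Type u} [CommRing R] {M : Type v} [AddCommGroup M] [Module R M]
  {A : Type w} [CommRing A] [Algebra R A] {k : ℕ}

/-- In a projective module, an element killed by all functionals is zero. -/
theorem eq_zero_of_forall_dual {Q : Type*} [AddCommGroup Q] [Module A Q] [Module.Projective A Q]
    (q : Q) (h : ∀ l : Q →ₗ[A] A, l q = 0) : q = 0 := by
  have h1 : (1 : A) ⊗ₜ[A] q = 0 :=
    (one_tmul_eq_zero_iff (A := A) (C := A) q).mpr (by intro l; rw [h l, map_zero])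
  have h2 := congrArg (TensorProduct.lid A Q) h1
  simpa using h2

theorem apply_dual_eq_zero {C : Type w} [CommRing C] [Algebra R C]
    (N N' : G(k, A ⊗[R] M; A)) (φ : A →ₐ[R] C)
    (h : Grassmannian.map φ N = Grassmannian.map φ N') (x : A ⊗[R] M) (hx : x ∈ N.toSubmodule)
    (l : ((A ⊗[R] M) ⧸ N'.toSubmodule) →ₗ[A] A) : φ (l (N'.toSubmodule.mkQ x)) = 0 := by
  letI : Algebra A C := φ.toAlgebra
  letI : IsScalarTower R A C :=
    IsScalarTower.of_algebraMap_eq' <| IsScalarTower.algebraMap_eq R A C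
  have h1 : jmap (R := R) C x ∈ (Grassmannian.map φ N).toSubmodule := by
    rw [map_toSubmodule]
    exact jmap_mem_ker _ x hx
  rw [h, map_toSubmodule, LinearMap.mem_ker, baseChangeMkQ_jmap] at h1
  exact (one_tmul_eq_zero_iff _).mp h1 l

theorem eq_zero_of_pow_mul (s : Set A) (hs : Ideal.span s = ⊤) (a : A)
    (h : ∀ r ∈ s, ∃ m : ℕ, r ^ m * a = 0) : a = 0 := by
  let I : Ideal A := LinearMap.ker (LinearMap.toSpanSingleton A A a)
  have hI : ∀ b, b ∈ I ↔ b * a = 0 := fun b => by
    rw [LinearMap.mem_ker, LinearMap.toSpanSingleton_apply, smul_eq_mul]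
  have h1 : s ⊆ I.radical := by
    intro r hr
    obtain ⟨m, hm⟩ := h r hr
    exact ⟨m, (hI _).mpr hm⟩
  have h2 : I.radical = ⊤ := by
    rw [eq_top_iff, ← hs]
    exact Ideal.span_le.mpr h1
  rw [Ideal.radical_eq_top] at h2
  have h3 : (1 : A) ∈ I := by rw [h2]; trivial
  rw [hI, one_mul] at h3
  exact h3

theorem le_of_locally_eq (N N' : G(k, A ⊗[R] M; A)) (s : Set A) (hs : Ideal.span s = ⊤)
    (h : ∀ r ∈ s, ∃ (C : Type w) (_ : CommRing C) (_ : Algebra R C) (φ : A →ₐ[R] C),
      (∀ a, φ a = 0 → ∃ m : ℕ, r ^ m * a = 0) ∧ Grassmannian.map φ N = Grassmannian.map φ N') :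
    N.toSubmodule ≤ N'.toSubmodule := by
  intro x hx
  rw [← Submodule.Quotient.mk_eq_zero, ← Submodule.mkQ_apply]
  apply eq_zero_of_forall_dual (A := A)
  intro l
  apply eq_zero_of_pow_mul s hs
  intro r hr
  obtain ⟨C, _, _, φ, hker, hφ⟩ := h r hr
  exact hker _ (apply_dual_eq_zero N N' φ hφ x hx l)

/-- Separatedness of the Grassmannian functor for the Zariski topology on affine schemes. -/
theorem eq_of_locally_eq (N N' : G(k, A ⊗[R] M; A)) (s : Set A) (hs : Ideal.span s = ⊤)
    (h : ∀ r ∈ s, ∃ (C : Type w) (_ : CommRing C) (_ : Algebra R C) (φ : A →ₐ[R] C),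
      (∀ a, φ a = 0 → ∃ m : ℕ, r ^ m * a = 0) ∧ Grassmannian.map φ N = Grassmannian.map φ N') :
    N = N' := by
  apply Module.Grassmannian.ext
  apply le_antisymm (le_of_locally_eq N N' s hs h)
  apply le_of_locally_eq N' N s hs
  intro r hr
  obtain ⟨C, i1, i2, φ, hker, hφ⟩ := h r hr
  exact ⟨C, i1, i2, φ, hker, hφ.symm⟩

end Sep

section BC

variable {R : Type u} [CommRing R] {M : Type v} [AddCommGroup M] [Module R M]
  {A : Type w} [CommRing A] [Algebra R A] {C : Type w} [CommRing C] [Algebra R C] {k : ℕ}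

/-- Base change of elements along an algebra map (instance-free version of `jmap`). -/
noncomputable def bc (φ : A →ₐ[R] C) : A ⊗[R] M →ₗ[R] C ⊗[R] M :=
  TensorProduct.map φ.toLinearMap LinearMap.id

@[simp] theorem bc_tmul (φ : A →ₐ[R] C) (a : A) (m : M) :
    bc φ (a ⊗ₜ[R] m) = φ a ⊗ₜ[R] m := rfl

theorem bc_comp {D : Type w} [CommRing D] [Algebra R D] (φ : A →ₐ[R] C) (ψ : C →ₐ[R] D)
    (z : A ⊗[R] M) : bc (ψ.comp φ) z = bc ψ (bc φ z) := by
  induction z using TensorProduct.induction_on with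
  | zero => simp
  | tmul a m => rfl
  | add x y hx hy => rw [map_add, map_add, map_add, hx, hy]

theorem bc_smul (φ : A →ₐ[R] C) (a : A) (z : A ⊗[R] M) : bc φ (a • z) = φ a • bc φ z := by
  induction z using TensorProduct.induction_on with
  | zero => simp
  | tmul b m => rw [smul_tmul', bc_tmul, bc_tmul, smul_tmul', smul_eq_mul, smul_eq_mul, map_mul]
  | add x y hx hy => rw [smul_add, map_add, map_add, hx, hy, smul_add]

theorem jmap_eq_bc (φ : A →ₐ[R] C) (z : A ⊗[R] M) :
    letI : Algebra A C := φ.toAlgebra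
    letI : IsScalarTower R A C :=
      IsScalarTower.of_algebraMap_eq' <| IsScalarTower.algebraMap_eq R A C
    jmap (R := R) C z = bc φ z := by
  letI : Algebra A C := φ.toAlgebra
  letI : IsScalarTower R A C :=
    IsScalarTower.of_algebraMap_eq' <| IsScalarTower.algebraMap_eq R A C
  induction z using TensorProduct.induction_on with
  | zero => simp
  | tmul a m => rfl
  | add x y hx hy => rw [map_add, map_add, hx, hy]

theorem bc_mem_map (φ : A →ₐ[R] C) (N : G(k, A ⊗[R] M; A)) (z : A ⊗[R] M)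
    (hz : z ∈ N.toSubmodule) : bc φ z ∈ (Grassmannian.map φ N).toSubmodule := by
  letI : Algebra A C := φ.toAlgebra
  letI : IsScalarTower R A C :=
    IsScalarTower.of_algebraMap_eq' <| IsScalarTower.algebraMap_eq R A C
  rw [map_toSubmodule, ← jmap_eq_bc]
  exact jmap_mem_ker _ z hz

theorem dual_of_bc_mem (φ : A →ₐ[R] C) (N : G(k, A ⊗[R] M; A)) (z : A ⊗[R] M)
    (hz : bc φ z ∈ (Grassmannian.map φ N).toSubmodule)
    (l : ((A ⊗[R] M) ⧸ N.toSubmodule) →ₗ[A] A) : φ (l (N.toSubmodule.mkQ z)) = 0 := by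
  letI : Algebra A C := φ.toAlgebra
  letI : IsScalarTower R A C :=
    IsScalarTower.of_algebraMap_eq' <| IsScalarTower.algebraMap_eq R A C
  rw [map_toSubmodule, ← jmap_eq_bc, LinearMap.mem_ker, baseChangeMkQ_jmap] at hz
  exact (one_tmul_eq_zero_iff _).mp hz l

theorem map_eq_span (φ : A →ₐ[R] C) (N : G(k, A ⊗[R] M; A)) :
    (Grassmannian.map φ N).toSubmodule =
      Submodule.span C (bc φ '' (N.toSubmodule : Set (A ⊗[R] M))) := by
  letI : Algebra A C := φ.toAlgebra
  letI : IsScalarTower R A C :=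
    IsScalarTower.of_algebraMap_eq' <| IsScalarTower.algebraMap_eq R A C
  rw [map_toSubmodule, ker_baseChangeMkQ']
  have h1 : jmap (R := R) C '' (N.toSubmodule : Set (A ⊗[R] M)) =
      bc φ '' (N.toSubmodule : Set (A ⊗[R] M)) := by
    ext y
    constructor
    · rintro ⟨z, hz, rfl⟩
      exact ⟨z, hz, (jmap_eq_bc φ z).symm⟩
    · rintro ⟨z, hz, rfl⟩
      exact ⟨z, hz, jmap_eq_bc φ z⟩
  rw [h1]

end BC

section Glue

variable {R : Type u} [CommRing R] {M : Type u} [AddCommGroup M] [Module R M]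
  {A : Type u} [CommRing A] [Algebra R A] {k : ℕ}

variable (R) in
/-- The localization map as an algebra hom. -/
noncomputable abbrev ιr (r : A) : A →ₐ[R] Localization.Away r :=
  IsScalarTower.toAlgHom R A (Localization.Away r)

theorem exists_bc_eq_pow_smul (r : A) (x : Localization.Away r ⊗[R] M) :
    ∃ (m : ℕ) (y : A ⊗[R] M),
      bc (ιr R r) y = (algebraMap A (Localization.Away r) r) ^ m • x := by
  induction x using TensorProduct.induction_on with
  | zero => exact ⟨0, 0, by simp⟩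
  | tmul b m' =>
    obtain ⟨n, a, h⟩ := IsLocalization.Away.surj r b
    refine ⟨n, a ⊗ₜ m', ?_⟩
    rw [bc_tmul, smul_tmul', smul_eq_mul, mul_comm, h]
    rfl
  | add x₁ x₂ h₁ h₂ =>
    obtain ⟨m₁, y₁, e₁⟩ := h₁
    obtain ⟨m₂, y₂, e₂⟩ := h₂
    refine ⟨m₁ + m₂, r ^ m₂ • y₁ + r ^ m₁ • y₂, ?_⟩
    have h3 : ∀ n : ℕ, (ιr R r) (r ^ n) = (algebraMap A (Localization.Away r) r) ^ n :=
      fun n => map_pow _ _ _
    rw [map_add, bc_smul, bc_smul, e₁, e₂, h3, h3, smul_add, ← mul_smul, ← mul_smul, ← pow_add,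
      ← pow_add, add_comm m₂ m₁]

theorem exists_pow_smul_eq_zero {A' : Type*} [CommRing A'] {Q : Type*} [AddCommGroup Q]
    [Module A' Q] [Module.Finite A' Q] [Module.Projective A' Q] (ρ : A') (q : Q)
    (h : ∀ l : Q →ₗ[A'] A', ∃ m : ℕ, ρ ^ m * l q = 0) : ∃ m : ℕ, ρ ^ m • q = 0 := by
  obtain ⟨n, π, hπ⟩ := Module.Finite.exists_fin' A' Q
  obtain ⟨σ, hσ⟩ := Module.projective_lifting_property π LinearMap.id hπ
  choose m hm using fun i : Fin n => h ((LinearMap.proj i).comp σ)
  refine ⟨∑ i, m i, ?_⟩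
  have h1 : ρ ^ (∑ i, m i) • σ q = 0 := by
    funext i
    have hle : m i ≤ ∑ j, m j :=
      Finset.single_le_sum (fun _ _ => Nat.zero_le _) (Finset.mem_univ i)
    have h2 : ρ ^ m i * (σ q) i = 0 := hm i
    rw [Pi.smul_apply, smul_eq_mul, ← Nat.sub_add_cancel hle, pow_add, mul_assoc, h2, mul_zero]
    rfl
  have h2 : q = π (σ q) := (LinearMap.congr_fun hσ q).symm
  rw [h2, ← map_smul, h1, map_zero]

/-- Compatibility of local Grassmannian points on overlaps, in functor-of-points form. -/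
def Compat (s : Finset A)
    (Nr : ∀ r : A, r ∈ s → G(k, Localization.Away r ⊗[R] M; Localization.Away r)) : Prop :=
  ∀ (r : A) (hr : r ∈ s) (r' : A) (hr' : r' ∈ s) (C : Type u) [CommRing C] [Algebra R C]
    (φ : Localization.Away r →ₐ[R] C) (φ' : Localization.Away r' →ₐ[R] C),
    φ.comp (ιr R r) = φ'.comp (ιr R r') →
      Grassmannian.map φ (Nr r hr) = Grassmannian.map φ' (Nr r' hr')

theorem exists_pow_smul_mem (s : Finset A)
    (Nr : ∀ r : A, r ∈ s → G(k, Localization.Away r ⊗[R] M; Localization.Away r))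
    (hcompat : Compat s Nr) (r : A) (hr : r ∈ s) (r' : A) (hr' : r' ∈ s)
    (x : Localization.Away r ⊗[R] M) (hx : x ∈ (Nr r hr).toSubmodule) (y₀ : A ⊗[R] M) (m₀ : ℕ)
    (hy₀ : bc (ιr R r) y₀ = (algebraMap A (Localization.Away r) r) ^ m₀ • x) :
    ∃ m : ℕ, (algebraMap A (Localization.Away r') r) ^ m • bc (ιr R r') y₀ ∈
      (Nr r' hr').toSubmodule := by
  set ρ : Localization.Away r' := algebraMap A (Localization.Away r') r with hρ
  let C := Localization.Away ρ
  let φ' : Localization.Away r' →ₐ[R] C := IsScalarTower.toAlgHom R (Localization.Away r') C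
  let f : A →ₐ[R] C := φ'.comp (ιr R r')
  have hf : ∀ y : Submonoid.powers r, IsUnit (f y) := by
    rintro ⟨_, n, rfl⟩
    change IsUnit (f (r ^ n))
    rw [map_pow]
    exact (IsLocalization.Away.algebraMap_isUnit (S := C) ρ).pow n
  let φ : Localization.Away r →ₐ[R] C := IsLocalization.liftAlgHom (M := Submonoid.powers r) hf
  have hφ : φ.comp (ιr R r) = f := by
    ext a
    exact IsLocalization.lift_eq _ a
  have hmap := hcompat r hr r' hr' C φ φ' hφ
  set z := bc (ιr R r') y₀ with hz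
  have h1 : bc φ' z ∈ (Grassmannian.map φ' (Nr r' hr')).toSubmodule := by
    have hφ' : φ'.comp (ιr R r') = φ.comp (ιr R r) := hφ.symm
    rw [← hmap, hz, ← bc_comp, hφ', bc_comp, hy₀, bc_smul]
    exact Submodule.smul_mem _ _ (bc_mem_map φ (Nr r hr) x hx)
  obtain ⟨m, hm⟩ := exists_pow_smul_eq_zero (A' := Localization.Away r') ρ
    ((Nr r' hr').toSubmodule.mkQ z) (by
      intro l
      have h2 := dual_of_bc_mem φ' (Nr r' hr') z h1 l
      have h3 : algebraMap (Localization.Away r') C (l ((Nr r' hr').toSubmodule.mkQ z)) = 0 := h2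
      rw [IsLocalization.map_eq_zero_iff (Submonoid.powers ρ)] at h3
      obtain ⟨⟨_, n, rfl⟩, hn⟩ := h3
      exact ⟨n, hn⟩)
  refine ⟨m, ?_⟩
  rw [← map_smul, Submodule.mkQ_apply, Submodule.Quotient.mk_eq_zero] at hm
  exact hm

/-- The glued submodule. -/
def glueSub (s : Finset A)
    (Nr : ∀ r : A, r ∈ s → G(k, Localization.Away r ⊗[R] M; Localization.Away r)) :
    Submodule A (A ⊗[R] M) where
  carrier := {y | ∀ (r : A) (hr : r ∈ s), bc (ιr R r) y ∈ (Nr r hr).toSubmodule}
  add_mem' := by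
    intro a b ha hb r hr
    rw [map_add]
    exact Submodule.add_mem _ (ha r hr) (hb r hr)
  zero_mem' := by
    intro r _
    rw [map_zero]
    exact Submodule.zero_mem _
  smul_mem' := by
    intro c y hy r hr
    rw [bc_smul]
    exact Submodule.smul_mem _ _ (hy r hr)

theorem mem_glueSub (s : Finset A)
    (Nr : ∀ r : A, r ∈ s → G(k, Localization.Away r ⊗[R] M; Localization.Away r)) (y : A ⊗[R] M) :
    y ∈ glueSub s Nr ↔ ∀ (r : A) (hr : r ∈ s), bc (ιr R r) y ∈ (Nr r hr).toSubmodule := Iff.rfl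

theorem exists_mem_glueSub (s : Finset A)
    (Nr : ∀ r : A, r ∈ s → G(k, Localization.Away r ⊗[R] M; Localization.Away r))
    (hcompat : Compat s Nr) (r : A) (hr : r ∈ s)
    (x : Localization.Away r ⊗[R] M) (hx : x ∈ (Nr r hr).toSubmodule) :
    ∃ (m : ℕ) (y : A ⊗[R] M), y ∈ glueSub s Nr ∧
      bc (ιr R r) y = (algebraMap A (Localization.Away r) r) ^ m • x := by
  classical
  obtain ⟨m₀, y₀, hy₀⟩ := exists_bc_eq_pow_smul r x
  have H : ∀ r' : A, ∃ m : ℕ, ∀ hr' : r' ∈ s, (algebraMap A (Localization.Away r') r) ^ m •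
      bc (ιr R r') y₀ ∈ (Nr r' hr').toSubmodule := by
    intro r'
    by_cases hr' : r' ∈ s
    · obtain ⟨m, hm⟩ := exists_pow_smul_mem s Nr hcompat r hr r' hr' x hx y₀ m₀ hy₀
      exact ⟨m, fun _ => hm⟩
    · exact ⟨0, fun h => absurd h hr'⟩
  choose mm hmm using H
  refine ⟨∑ r' ∈ s, mm r' + m₀, r ^ (∑ r' ∈ s, mm r') • y₀, ?_, ?_⟩
  · intro r' hr'
    have hle : mm r' ≤ ∑ j ∈ s, mm j := Finset.single_le_sum (fun _ _ => Nat.zero_le _) hr'
    have h3 : (ιr R r') (r ^ (∑ j ∈ s, mm j)) =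
        (algebraMap A (Localization.Away r') r) ^ (∑ j ∈ s, mm j) := map_pow _ _ _
    rw [bc_smul, h3, ← Nat.sub_add_cancel hle, pow_add, mul_smul]
    exact Submodule.smul_mem _ _ (hmm r' hr')
  · have h3 : (ιr R r) (r ^ (∑ j ∈ s, mm j)) =
        (algebraMap A (Localization.Away r) r) ^ (∑ j ∈ s, mm j) := map_pow _ _ _
    rw [bc_smul, h3, hy₀, ← mul_smul, ← pow_add]

theorem span_bc_glueSub (s : Finset A)
    (Nr : ∀ r : A, r ∈ s → G(k, Localization.Away r ⊗[R] M; Localization.Away r))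
    (hcompat : Compat s Nr) (r : A) (hr : r ∈ s) :
    Submodule.span (Localization.Away r) (bc (ιr R r) '' (glueSub s Nr : Set (A ⊗[R] M))) =
      (Nr r hr).toSubmodule := by
  apply le_antisymm
  · rw [Submodule.span_le]
    rintro _ ⟨y, hy, rfl⟩
    exact hy r hr
  · intro x hx
    obtain ⟨m, y, hy, hxy⟩ := exists_mem_glueSub s Nr hcompat r hr x hx
    have hu : IsUnit ((algebraMap A (Localization.Away r) r) ^ m) :=
      (IsLocalization.Away.algebraMap_isUnit (S := Localization.Away r) r).pow m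
    obtain ⟨u, hu'⟩ := hu
    have h1 : x = (↑u⁻¹ : Localization.Away r) • bc (ιr R r) y := by
      rw [hxy, ← hu', ← mul_smul, Units.inv_mul, one_smul]
    rw [h1]
    exact Submodule.smul_mem _ _ (Submodule.subset_span ⟨y, hy, rfl⟩)

/-- **Gluing for the Grassmannian functor** on a standard open cover of an affine scheme. -/
theorem exists_glue [Module.Finite R M] (s : Finset A) (hs : Ideal.span (s : Set A) = ⊤)
    (Nr : ∀ r : A, r ∈ s → G(k, Localization.Away r ⊗[R] M; Localization.Away r))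
    (hcompat : Compat s Nr) :
    ∃ N : G(k, A ⊗[R] M; A), ∀ (r : A) (hr : r ∈ s), Grassmannian.map (ιr R r) N = Nr r hr := by
  set N₀ := glueSub s Nr with hN₀
  have hj : ∀ (r : A) (y : A ⊗[R] M),
      jmap (R := R) (Localization.Away r) y = bc (ιr R r) y := by
    intro r y
    induction y using TensorProduct.induction_on with
    | zero => simp
    | tmul a m => rfl
    | add x y hx hy => rw [map_add, map_add, hx, hy]
  have hker : ∀ (r : A) (hr : r ∈ s), LinearMap.ker (baseChangeMkQ (Localization.Away r) N₀) =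
      (Nr r hr).toSubmodule := by
    intro r hr
    rw [ker_baseChangeMkQ', ← span_bc_glueSub s Nr hcompat r hr]
    have h1 : jmap (R := R) (Localization.Away r) '' (N₀ : Set (A ⊗[R] M)) =
        bc (ιr R r) '' (N₀ : Set (A ⊗[R] M)) := by
      ext y
      simp only [Set.mem_image, hj]
    rw [h1]
  let e : ∀ (r : A) (hr : r ∈ s), ((Localization.Away r ⊗[R] M) ⧸ (Nr r hr).toSubmodule) ≃ₗ[Localization.Away r]
      Localization.Away r ⊗[A] ((A ⊗[R] M) ⧸ N₀) := fun r hr =>
    (Submodule.quotEquivOfEq _ _ (hker r hr).symm).trans (baseChangeMkQEquiv N₀)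
  haveI hfin : Module.Finite A ((A ⊗[R] M) ⧸ N₀) := inferInstance
  haveI hproj : Module.Projective A ((A ⊗[R] M) ⧸ N₀) :=
    Groth.Agent.Lib.Helper79.ZarProj.projective_of_localizationSpan (s : Set A) hs _
      (fun r hr => Module.Projective.of_equiv (e r hr))
  have hrank : ∀ p : PrimeSpectrum A, Module.rankAtStalk ((A ⊗[R] M) ⧸ N₀) p = k := by
    intro p
    have h0 : ∃ r ∈ s, r ∉ p.asIdeal := by
      by_contra hcon
      push Not at hcon
      have h1 : Ideal.span (s : Set A) ≤ p.asIdeal := Ideal.span_le.mpr hcon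
      rw [hs] at h1
      exact p.isPrime.ne_top (top_le_iff.mp h1)
    obtain ⟨r, hr, hrp⟩ := h0
    have h1 : p ∈ Set.range (PrimeSpectrum.comap (algebraMap A (Localization.Away r))) := by
      rw [PrimeSpectrum.localization_away_comap_range (Localization.Away r) r]
      exact hrp
    obtain ⟨p', hp'⟩ := h1
    have h2 := Module.rankAtStalk_baseChange (R := A) (M := (A ⊗[R] M) ⧸ N₀)
      (S := Localization.Away r) p'
    have h3 := congrFun (Module.rankAtStalk_eq_of_equiv (e r hr)) p'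
    rw [← hp', ← h2, ← h3]
    exact (Nr r hr).rankAtStalk_eq p'
  refine ⟨⟨N₀, hfin, hproj, hrank⟩, fun r hr => ?_⟩
  apply Module.Grassmannian.ext
  rw [map_eq_span]
  exact span_bc_glueSub s Nr hcompat r hr

end Glue

end Groth.Agent.Lib.Helper54.GrassGlueAlg
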