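import Mathlib
import Groth.Agent.Lib.Helper54.AffPts
import Groth.Agent.Lib.Helper54.GrassSurj
import Groth.Agent.Lib.Helper54.GrassGlueAlg
import Groth.Agent.Lib.Helper54.GrassChart

/-!
# The Grassmannian functor on schemes over `Spec R`, via natural families on affine points
(helper54)
-/

set_option autoImplicit false
set_option linter.style.haveILetI false
set_option linter.unusedSectionVars false
universe u

open AlgebraicGeometry CategoryTheory Module TensorProduct Opposite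
open Groth.Agent.Lib.Helper54.GrassClosedAlg Groth.Agent.Lib.Helper54.GrassClosed
open Groth.Agent.Lib.Helper54.AffPts Groth.Agent.Lib.Helper54.GrassSurj
open Groth.Agent.Lib.Helper54.GrassGlueAlg Groth.Agent.Lib.Helper54.GrassChart

namespace Groth.Agent.Lib.Helper54.GrassFun

variable {R : Type u} [CommRing R]

section PullPt

variable {T T' : Over (Spec (CommRingCat.of R))}

theorem pullPt_comp {A B : CommAlgCat.{u} R} (φ : A ⟶ B) (g : SA A ⟶ T) (h : T ⟶ T') :
    pullPt φ g ≫ h = pullPt φ (g ≫ h) := by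
  apply Over.OverMorphism.ext
  rw [Over.comp_left, pullPt_left, pullPt_left, Over.comp_left, Category.assoc]

theorem pullPt_id {A : CommAlgCat.{u} R} (g : SA A ⟶ T) : pullPt (𝟙 A) g = g := by
  apply Over.OverMorphism.ext
  rw [pullPt_left]
  have : CommRingCat.ofHom (𝟙 A : A ⟶ A).hom.toRingHom = 𝟙 (CommRingCat.of A) := rfl
  rw [this, Spec.map_id, Category.id_comp]

theorem pullPt_pullPt {A B C : CommAlgCat.{u} R} (φ : A ⟶ B) (ψ : B ⟶ C) (g : SA A ⟶ T) :
    pullPt ψ (pullPt φ g) = pullPt (φ ≫ ψ) g := by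
  apply Over.OverMorphism.ext
  rw [pullPt_left, pullPt_left, pullPt_left, ← Category.assoc, ← Spec.map_comp]
  rfl

theorem eq_pullPt_of_left {A B : CommAlgCat.{u} R} (φ : A ⟶ B) (g : SA A ⟶ T) (g' : SA B ⟶ T)
    (h : g'.left = Spec.map (CommRingCat.ofHom φ.hom.toRingHom) ≫ g.left) : g' = pullPt φ g := by
  apply Over.OverMorphism.ext
  rw [h, pullPt_left]

end PullPt

section NatFam

variable (M : Type u) [AddCommGroup M] [Module R M] (k : ℕ)

/-- Natural families of Grassmannian points on the affine points of `T`. -/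
structure NatFam (T : Over (Spec (CommRingCat.of R))) where
  /-- the value on a point -/
  val : ∀ (A : CommAlgCat.{u} R), (SA A ⟶ T) → Module.Grassmannian A (A ⊗[R] M) k
  /-- naturality -/
  nat : ∀ (A B : CommAlgCat.{u} R) (φ : A ⟶ B) (g : SA A ⟶ T),
    val B (pullPt φ g) = Module.Grassmannian.map φ.hom (val A g)

variable {M k}

theorem NatFam.ext' {T : Over (Spec (CommRingCat.of R))} {e e' : NatFam M k T}
    (h : ∀ A g, e.val A g = e'.val A g) : e = e' := by
  cases e; cases e'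
  congr 1
  funext A g
  exact h A g

theorem NatFam.nat_left {T : Over (Spec (CommRingCat.of R))} (e : NatFam M k T)
    (A B : CommAlgCat.{u} R) (φ : A ⟶ B) (g : SA A ⟶ T) (g' : SA B ⟶ T)
    (h : g'.left = Spec.map (CommRingCat.ofHom φ.hom.toRingHom) ≫ g.left) :
    e.val B g' = Module.Grassmannian.map φ.hom (e.val A g) := by
  rw [eq_pullPt_of_left φ g g' h, e.nat]

/-- Pull a natural family back along a morphism. -/
noncomputable def NatFam.pull {T T' : Over (Spec (CommRingCat.of R))} (h : T' ⟶ T) (e : NatFam M k T) :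
    NatFam M k T' where
  val A g := e.val A (g ≫ h)
  nat A B φ g := by rw [pullPt_comp, e.nat]

@[simp] theorem NatFam.pull_val {T T' : Over (Spec (CommRingCat.of R))} (h : T' ⟶ T)
    (e : NatFam M k T) (A : CommAlgCat.{u} R) (g : SA A ⟶ T') :
    (e.pull h).val A g = e.val A (g ≫ h) := rfl

theorem NatFam.pull_id {T : Over (Spec (CommRingCat.of R))} (e : NatFam M k T) :
    e.pull (𝟙 T) = e := by
  apply NatFam.ext'
  intro A g
  rw [NatFam.pull_val, Category.comp_id]

theorem NatFam.pull_comp {T T' T'' : Over (Spec (CommRingCat.of R))} (h : T' ⟶ T)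
    (h' : T'' ⟶ T') (e : NatFam M k T) : e.pull (h' ≫ h) = (e.pull h).pull h' := by
  apply NatFam.ext'
  intro A g
  rw [NatFam.pull_val, NatFam.pull_val, NatFam.pull_val, Category.assoc]

end NatFam

section Cover

variable {T : Over (Spec (CommRingCat.of R))} {ι : Type*} {Ui : ι → Over (Spec (CommRingCat.of R))}
  (fi : ∀ i, Ui i ⟶ T) (hopen : ∀ i, IsOpenImmersion (fi i).left)
  (hcov : ∀ t : T.left, ∃ i, t ∈ Set.range (fi i).left)

/-- The localization `A_r` as an object of `CommAlgCat R`. -/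
noncomputable abbrev locAlg {A : CommAlgCat.{u} R} (r : A) : CommAlgCat.{u} R :=
  CommAlgCat.of R (Localization.Away r)

/-- The localization map `A ⟶ A_r`. -/
noncomputable abbrev locHom {A : CommAlgCat.{u} R} (r : A) : A ⟶ locAlg r :=
  CommAlgCat.ofHom (ιr R r)

include hopen in
theorem exists_lift_of_range {C : CommAlgCat.{u} R} (p : SA C ⟶ T) (i : ι)
    (h : Set.range p.left ⊆ Set.range (fi i).left) : ∃ ℓ : SA C ⟶ Ui i, ℓ ≫ fi i = p := by
  haveI := hopen i
  refine ⟨Over.homMk (IsOpenImmersion.lift (fi i).left p.left h) ?_, ?_⟩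
  · have h1 := Over.w (fi i)
    have h2 : (Ui i).hom = (fi i).left ≫ T.hom := h1.symm
    rw [h2, ← Category.assoc, IsOpenImmersion.lift_fac]
    exact Over.w p
  · apply Over.OverMorphism.ext
    rw [Over.comp_left]
    exact IsOpenImmersion.lift_fac _ _ _

include hopen hcov in
theorem exists_cover {A : CommAlgCat.{u} R} (g : SA A ⟶ T) :
    ∃ s : Finset A, Ideal.span (s : Set A) = ⊤ ∧
      ∀ r ∈ s, ∃ (i : ι) (ℓ : SA (locAlg r) ⟶ Ui i), ℓ ≫ fi i = pullPt (locHom r) g := by
  have H : ∀ x : PrimeSpectrum A, ∃ (r : A) (i : ι), x ∈ PrimeSpectrum.basicOpen r ∧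
      ∀ y : PrimeSpectrum A, y ∈ PrimeSpectrum.basicOpen r →
        g.left (y : (SA A).left) ∈ Set.range (fi i).left := by
    intro x
    obtain ⟨i, hi⟩ := hcov (g.left (x : (SA A).left))
    haveI := hopen i
    let O : (SA A).left.Opens := g.left ⁻¹ᵁ (fi i).left.opensRange
    have hxO : (x : (SA A).left) ∈ O := hi
    obtain ⟨_, ⟨r, rfl⟩, hxr, hrO⟩ :=
      (TopologicalSpace.Opens.isBasis_iff_nbhd.mp PrimeSpectrum.isBasis_basic_opens) hxO
    exact ⟨r, i, hxr, fun y hy => hrO hy⟩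
  choose r i hx hsub using H
  have h1 : Ideal.span (Set.range r) = ⊤ := by
    rw [← PrimeSpectrum.iSup_basicOpen_eq_top_iff, eq_top_iff]
    intro x _
    exact TopologicalSpace.Opens.mem_iSup.mpr ⟨x, hx x⟩
  obtain ⟨s, hs1, hs2⟩ := (Ideal.span_eq_top_iff_finite _).mp h1
  refine ⟨s, hs2, fun r₀ hr₀ => ?_⟩
  obtain ⟨x, rfl⟩ := hs1 hr₀
  refine ⟨i x, ?_⟩
  apply exists_lift_of_range fi hopen
  rintro _ ⟨y, rfl⟩
  rw [pullPt_left]
  apply hsub x
  change r x ∉ (Spec.map (CommRingCat.ofHom (locHom (r x)).hom.toRingHom) y).asIdeal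
  intro hmem
  have h2 : algebraMap A (Localization.Away (r x)) (r x) ∈ y.asIdeal := hmem
  exact y.isPrime.ne_top (Ideal.eq_top_of_isUnit_mem _ h2
    (IsLocalization.Away.algebraMap_isUnit (S := Localization.Away (r x)) (r x)))

end Cover

section Star

theorem exists_lift_loc {A D : Type u} [CommRing A] [Algebra R A] [CommRing D] [Algebra R D]
    (r : A) (f : A →ₐ[R] D) (hf : IsUnit (f r)) :
    ∃ θ : Localization.Away r →ₐ[R] D, θ.comp (ιr R r) = f := by
  have hf' : ∀ y : Submonoid.powers r, IsUnit (f y) := by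
    rintro ⟨_, n, rfl⟩
    change IsUnit (f (r ^ n))
    rw [map_pow]
    exact hf.pow n
  refine ⟨IsLocalization.liftAlgHom (M := Submonoid.powers r) hf', ?_⟩
  ext a
  exact IsLocalization.lift_eq _ a

variable {M : Type u} [AddCommGroup M] [Module R M] {k : ℕ}
  {T : Over (Spec (CommRingCat.of R))} {ι : Type*} {Ui : ι → Over (Spec (CommRingCat.of R))}
  (fi : ∀ i, Ui i ⟶ T) (hopen : ∀ i, IsOpenImmersion (fi i).left)
  (hcov : ∀ t : T.left, ∃ i, t ∈ Set.range (fi i).left)
  (d : ∀ i, NatFam M k (Ui i))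
  (hd : ∀ (i j : ι) (C : CommAlgCat.{u} R) (ℓ : SA C ⟶ Ui i) (ℓ' : SA C ⟶ Ui j),
    ℓ ≫ fi i = ℓ' ≫ fi j → (d i).val C ℓ = (d j).val C ℓ')

/-- The characterizing property of the glued family at a point. -/
def Star {A : CommAlgCat.{u} R} (g : SA A ⟶ T) (N : Module.Grassmannian A (A ⊗[R] M) k) : Prop :=
  ∀ (C : CommAlgCat.{u} R) (ψ : A ⟶ C) (i : ι) (ℓ : SA C ⟶ Ui i), ℓ ≫ fi i = pullPt ψ g →
    Module.Grassmannian.map ψ.hom N = (d i).val C ℓ

include hopen hcov in
theorem star_unique {A : CommAlgCat.{u} R} (g : SA A ⟶ T)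
    (N N' : Module.Grassmannian A (A ⊗[R] M) k) (h : Star fi d g N) (h' : Star fi d g N') :
    N = N' := by
  obtain ⟨s, hs, hsl⟩ := exists_cover fi hopen hcov g
  apply eq_of_locally_eq N N' (s : Set A) hs
  intro r hr
  obtain ⟨i, ℓ, hℓ⟩ := hsl r hr
  refine ⟨Localization.Away r, inferInstance, inferInstance, ιr R r, ?_, ?_⟩
  · intro a ha
    have ha' : algebraMap A (Localization.Away r) a = 0 := ha
    rw [IsLocalization.map_eq_zero_iff (Submonoid.powers r)] at ha'
    obtain ⟨⟨_, n, rfl⟩, hn⟩ := ha'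
    exact ⟨n, hn⟩
  · exact (h (locAlg r) (locHom r) i ℓ hℓ).trans (h' (locAlg r) (locHom r) i ℓ hℓ).symm

include hopen hcov hd in
theorem star_exists [Module.Finite R M] {A : CommAlgCat.{u} R} (g : SA A ⟶ T) :
    ∃ N : Module.Grassmannian A (A ⊗[R] M) k, Star fi d g N := by
  obtain ⟨s, hs, hsl⟩ := exists_cover fi hopen hcov g
  choose i ℓ hℓ using hsl
  let Nr : ∀ r : A, r ∈ s →
      Module.Grassmannian (Localization.Away r) (Localization.Away r ⊗[R] M) k :=
    fun r hr => (d (i r hr)).val (locAlg r) (ℓ r hr)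
  have hcompat : Compat s Nr := by
    intro r hr r' hr' C _ _ φ φ' hφ
    let Cc : CommAlgCat.{u} R := CommAlgCat.of R C
    let φc : locAlg r ⟶ Cc := CommAlgCat.ofHom φ
    let φc' : locAlg r' ⟶ Cc := CommAlgCat.ofHom φ'
    have h1 := (d (i r hr)).nat (locAlg r) Cc φc (ℓ r hr)
    have h2 := (d (i r' hr')).nat (locAlg r') Cc φc' (ℓ r' hr')
    have h3 : locHom r ≫ φc = locHom r' ≫ φc' := CommAlgCat.hom_ext hφ
    have h4 : pullPt φc (ℓ r hr) ≫ fi (i r hr) = pullPt φc' (ℓ r' hr') ≫ fi (i r' hr') := by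
      rw [pullPt_comp, pullPt_comp, hℓ, hℓ, pullPt_pullPt, pullPt_pullPt, h3]
    have h5 := hd _ _ Cc _ _ h4
    rw [h1, h2] at h5
    exact h5
  obtain ⟨N, hN⟩ := exists_glue s hs Nr hcompat
  refine ⟨N, ?_⟩
  intro C ψ j ℓ' hℓ'
  have hs' : Ideal.span ((ψ.hom : A → C) '' (s : Set A)) = ⊤ := by
    have : Ideal.map ψ.hom (Ideal.span (s : Set A)) = ⊤ := by rw [hs, Ideal.map_top]
    rwa [Ideal.map_span] at this
  apply eq_of_locally_eq _ _ _ hs'
  rintro _ ⟨r, hr, rfl⟩
  let D := Localization.Away (ψ.hom r)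
  let κ : C →ₐ[R] D := ιr R (ψ.hom r)
  refine ⟨D, inferInstance, inferInstance, κ, ?_, ?_⟩
  · intro a ha
    have ha' : algebraMap C D a = 0 := ha
    rw [IsLocalization.map_eq_zero_iff (Submonoid.powers (ψ.hom r))] at ha'
    obtain ⟨⟨_, n, rfl⟩, hn⟩ := ha'
    exact ⟨n, hn⟩
  · obtain ⟨θ, hθ⟩ := exists_lift_loc (R := R) r (κ.comp ψ.hom)
      (IsLocalization.Away.algebraMap_isUnit (S := D) (ψ.hom r))
    let Dc : CommAlgCat.{u} R := CommAlgCat.of R D
    let κc : C ⟶ Dc := CommAlgCat.ofHom κ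
    let θc : locAlg r ⟶ Dc := CommAlgCat.ofHom θ
    have h1 := (d (i r hr)).nat (locAlg r) Dc θc (ℓ r hr)
    have h2 := (d j).nat C Dc κc ℓ'
    have h3 : locHom r ≫ θc = ψ ≫ κc := CommAlgCat.hom_ext hθ
    have h4 : pullPt θc (ℓ r hr) ≫ fi (i r hr) = pullPt κc ℓ' ≫ fi j := by
      rw [pullPt_comp, pullPt_comp, hℓ, hℓ', pullPt_pullPt, pullPt_pullPt, h3]
    have h5 := hd _ _ Dc _ _ h4
    rw [h1, h2] at h5
    have h6 : Module.Grassmannian.map κ (Module.Grassmannian.map ψ.hom N) =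
        Module.Grassmannian.map θ (Module.Grassmannian.map (ιr R r) N) := by
      rw [← Module.Grassmannian.map_comp, ← Module.Grassmannian.map_comp, hθ]
    rw [h6, hN r hr]
    exact h5

/-- The glued family. -/
noncomputable def glueFam [Module.Finite R M] : NatFam M k T where
  val A g := (star_exists fi hopen hcov d hd g).choose
  nat A B φ g := by
    apply star_unique fi hopen hcov d (pullPt φ g)
    · exact (star_exists fi hopen hcov d hd (pullPt φ g)).choose_spec
    · intro C ψ i ℓ hℓ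
      rw [← Module.Grassmannian.map_comp]
      exact (star_exists fi hopen hcov d hd g).choose_spec C (φ ≫ ψ) i ℓ
        (by rw [hℓ, pullPt_pullPt])

theorem glueFam_pull [Module.Finite R M] (i : ι) :
    (glueFam fi hopen hcov d hd).pull (fi i) = d i := by
  apply NatFam.ext'
  intro C ℓ
  have h1 := (star_exists fi hopen hcov d hd (ℓ ≫ fi i)).choose_spec C (𝟙 C) i ℓ
    (by rw [pullPt_id])
  have h2 : ∀ N : Module.Grassmannian C (C ⊗[R] M) k,
      Module.Grassmannian.map (𝟙 C : C ⟶ C).hom N = N := fun N =>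
    Module.Grassmannian.map_id k C N
  rw [h2] at h1
  exact h1

include hopen hcov in
theorem ext_of_cover (e e' : NatFam M k T) (h : ∀ i, e.pull (fi i) = e'.pull (fi i)) :
    e = e' := by
  apply NatFam.ext'
  intro A g
  apply star_unique fi hopen hcov (fun i => e.pull (fi i)) g
  · intro C ψ i ℓ hℓ
    change Module.Grassmannian.map ψ.hom (e.val A g) = (e.pull (fi i)).val C ℓ
    rw [NatFam.pull_val, hℓ, e.nat]
  · intro C ψ i ℓ hℓ
    change Module.Grassmannian.map ψ.hom (e'.val A g) = (e.pull (fi i)).val C ℓ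
    rw [h i, NatFam.pull_val, hℓ, e'.nat]

end Star

end Groth.Agent.Lib.Helper54.GrassFun
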