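import Mathlib
import Groth.Agent.Lib.Helper54.GrassFun
import Groth.Agent.Lib.Helper18.RepOver

/-!
# The Grassmannian functor as a presheaf on `Over (Spec R)`; separatedness and gluing
(helper54)
-/

set_option autoImplicit false
set_option linter.style.haveILetI false
set_option linter.unusedSectionVars false
universe u

open AlgebraicGeometry CategoryTheory CategoryTheory.Limits Module TensorProduct Opposite
open Groth.Agent.Lib.Helper54.GrassClosedAlg Groth.Agent.Lib.Helper54.GrassClosed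
open Groth.Agent.Lib.Helper54.AffPts Groth.Agent.Lib.Helper54.GrassSurj
open Groth.Agent.Lib.Helper54.GrassGlueAlg Groth.Agent.Lib.Helper54.GrassChart
open Groth.Agent.Lib.Helper54.GrassFun Groth.Agent.Lib.Helper18.RepOver

namespace Groth.Agent.Lib.Helper54.GrassRep

variable {R : Type u} [CommRing R] (M : Type u) [AddCommGroup M] [Module R M] (k : ℕ)

section Small

variable {M k}

theorem pull_gW_ext {T : Over (Spec (CommRingCat.of R))} (e e' : NatFam M k T)
    (W : T.left.Opens) (hW : IsAffineOpen W)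
    (h : e.val (AW T W) (gW T W hW) = e'.val (AW T W) (gW T W hW)) :
    e.pull (gW T W hW) = e'.pull (gW T W hW) := by
  apply NatFam.ext'
  intro C ℓ
  obtain ⟨ψ, rfl⟩ := exists_eq_pullPt ℓ
  rw [NatFam.pull_val, NatFam.pull_val, pullPt_comp, Category.id_comp, e.nat, e'.nat, h]

theorem isOpenImmersion_gW (T : Over (Spec (CommRingCat.of R))) (W : T.left.Opens)
    (hW : IsAffineOpen W) : IsOpenImmersion (gW T W hW).left := by
  change IsOpenImmersion hW.fromSpec
  infer_instance

theorem range_gW (T : Over (Spec (CommRingCat.of R))) (W : T.left.Opens)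
    (hW : IsAffineOpen W) : Set.range (gW T W hW).left = (W : Set T.left) := by
  change Set.range hW.fromSpec = _
  exact hW.range_fromSpec

theorem natFam_ext_affine {T : Over (Spec (CommRingCat.of R))} (e e' : NatFam M k T)
    (h : ∀ W : T.left.affineOpens,
      e.val (AW T W.1) (gW T W.1 W.2) = e'.val (AW T W.1) (gW T W.1 W.2)) : e = e' := by
  apply ext_of_cover (fun W : T.left.affineOpens => gW T W.1 W.2)
    (fun W => isOpenImmersion_gW T W.1 W.2)
  · intro t
    obtain ⟨U, hU, htU, -⟩ :=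
      exists_isAffineOpen_mem_and_subset (x := t) (U := (⊤ : T.left.Opens)) trivial
    refine ⟨⟨U, hU⟩, ?_⟩
    rw [range_gW]
    exact htU
  · intro W
    exact pull_gW_ext e e' W.1 W.2 (h W)

instance natFam_small (T : Over (Spec (CommRingCat.of R))) : Small.{u} (NatFam M k T) := by
  let Φ : NatFam M k T → ∀ W : T.left.affineOpens,
      Module.Grassmannian (AW T W.1) (AW T W.1 ⊗[R] M) k :=
    fun e W => e.val (AW T W.1) (gW T W.1 W.2)
  apply small_of_injective (f := Φ)
  intro e e' h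
  exact natFam_ext_affine e e' (fun W => congrFun h W)

end Small

section Functor

/-- The map function of `D`. -/
noncomputable def Dmap {T T' : Over (Spec (CommRingCat.of R))} (h : T' ⟶ T)
    (x : Shrink.{u} (NatFam M k T)) : Shrink.{u} (NatFam M k T') :=
  equivShrink (NatFam M k T') (((equivShrink (NatFam M k T)).symm x).pull h)

/-- The Grassmannian functor on `Over (Spec R)`. -/
noncomputable def D : (Over (Spec (CommRingCat.of R)))ᵒᵖ ⥤ Type u where
  obj T := Shrink.{u} (NatFam M k T.unop)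
  map {T T'} h := ↾(Dmap M k h.unop)
  map_id T := ConcreteCategory.hom_ext _ _ fun x => by
    change equivShrink _ (((equivShrink _).symm x).pull (𝟙 T.unop)) = x
    rw [NatFam.pull_id, Equiv.apply_symm_apply]
  map_comp {T T' T''} f g := ConcreteCategory.hom_ext _ _ fun x => by
    change equivShrink _ (((equivShrink _).symm x).pull (g.unop ≫ f.unop)) =
      equivShrink _ (((equivShrink _).symm
        (equivShrink _ (((equivShrink _).symm x).pull f.unop))).pull g.unop)
    rw [Equiv.symm_apply_apply, NatFam.pull_comp]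

variable {M k}

/-- the underlying natural family -/
noncomputable def D.fam {T : Over (Spec (CommRingCat.of R))} (x : (D M k).obj (op T)) :
    NatFam M k T := (equivShrink _).symm x

theorem D.fam_injective {T : Over (Spec (CommRingCat.of R))} :
    Function.Injective (D.fam (M := M) (k := k) (T := T)) :=
  (equivShrink _).symm.injective

theorem D.fam_map {T T' : Over (Spec (CommRingCat.of R))} (h : T' ⟶ T)
    (x : (D M k).obj (op T)) : D.fam ((D M k).map h.op x) = (D.fam x).pull h := by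
  change (equivShrink _).symm (equivShrink _ (((equivShrink _).symm x).pull h)) = _
  rw [Equiv.symm_apply_apply]
  rfl

/-- the element attached to a natural family -/
noncomputable def D.mk {T : Over (Spec (CommRingCat.of R))} (e : NatFam M k T) :
    (D M k).obj (op T) := equivShrink _ e

@[simp] theorem D.fam_mk {T : Over (Spec (CommRingCat.of R))} (e : NatFam M k T) :
    D.fam (D.mk e) = e := (equivShrink _).symm_apply_apply e

theorem hsep : HSep.{u, u + 1} (D (R := R) M k) := by
  intro T s 𝒰 e e' h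
  apply D.fam_injective
  apply ext_of_cover (fun i => ovHom (𝒰.f i) s) (fun i => inferInstanceAs (IsOpenImmersion (𝒰.f i)))
  · intro t
    obtain ⟨i, y, hy⟩ := 𝒰.exists_eq t
    exact ⟨i, y, hy⟩
  · intro i
    rw [← D.fam_map, ← D.fam_map, h i]

theorem hglue [Module.Finite R M] : HGlue.{u, u + 1} (D (R := R) M k) := by
  intro T s 𝒰 d hd
  have hcov : ∀ t : (Over.mk s).left, ∃ i, t ∈ Set.range (ovHom (𝒰.f i) s).left := by
    intro t
    obtain ⟨i, y, hy⟩ := 𝒰.exists_eq t
    exact ⟨i, y, hy⟩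
  have hopen : ∀ i, IsOpenImmersion (ovHom (𝒰.f i) s).left :=
    fun i => inferInstanceAs (IsOpenImmersion (𝒰.f i))
  have hd' : ∀ (i j : 𝒰.I₀) (C : CommAlgCat.{u} R) (ℓ : SA C ⟶ Over.mk (𝒰.f i ≫ s))
      (ℓ' : SA C ⟶ Over.mk (𝒰.f j ≫ s)),
      ℓ ≫ ovHom (𝒰.f i) s = ℓ' ≫ ovHom (𝒰.f j) s →
        (D.fam (d i)).val C ℓ = (D.fam (d j)).val C ℓ' := by
    intro i j C ℓ ℓ' hℓ
    have h1 : ℓ.left ≫ 𝒰.f i = ℓ'.left ≫ 𝒰.f j := congrArg (fun t => t.left) hℓ
    have hw : ℓ.left ≫ 𝒰.f i ≫ s = (SA C).hom := Over.w ℓ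
    let p : SA C ⟶ Over.mk (pullback.fst (𝒰.f i) (𝒰.f j) ≫ 𝒰.f i ≫ s) :=
      Over.homMk (pullback.lift ℓ.left ℓ'.left h1) (by
        change pullback.lift ℓ.left ℓ'.left h1 ≫ pullback.fst (𝒰.f i) (𝒰.f j) ≫ 𝒰.f i ≫ s = _
        rw [pullback.lift_fst_assoc]
        exact hw)
    have hp1 : p ≫ ovHom (pullback.fst (𝒰.f i) (𝒰.f j)) (𝒰.f i ≫ s) = ℓ := by
      apply Over.OverMorphism.ext
      change pullback.lift ℓ.left ℓ'.left h1 ≫ pullback.fst (𝒰.f i) (𝒰.f j) = _
      rw [pullback.lift_fst]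
    have hp2 : p ≫ sndHom s 𝒰 i j = ℓ' := by
      apply Over.OverMorphism.ext
      change pullback.lift ℓ.left ℓ'.left h1 ≫ pullback.snd (𝒰.f i) (𝒰.f j) = _
      rw [pullback.lift_snd]
    have h2 := congrArg (fun x => (D.fam x).val C p) (hd i j)
    simp only [D.fam_map, NatFam.pull_val] at h2
    rw [hp1, hp2] at h2
    exact h2
  refine ⟨D.mk (glueFam (fun i => ovHom (𝒰.f i) s) hopen hcov (fun i => D.fam (d i)) hd'), ?_⟩
  intro i
  apply D.fam_injective
  rw [D.fam_map, D.fam_mk]
  exact glueFam_pull (fun i => ovHom (𝒰.f i) s) hopen hcov (fun i => D.fam (d i)) hd' i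

end Functor

section Eval

variable {M k} {A C C' : CommAlgCat.{u} R}

/-- The algebra map of a point of an affine scheme. -/
noncomputable def ptHom (g : SA C ⟶ SA A) : A ⟶ C :=
  (exists_eq_pullPt g).choose

theorem eq_pullPt_ptHom (g : SA C ⟶ SA A) : g = pullPt (ptHom g) (𝟙 (SA A)) :=
  (exists_eq_pullPt g).choose_spec

theorem algHom_eq_of_pullPt_eq (ψ ψ' : A ⟶ C)
    (h : pullPt ψ (𝟙 (SA A)) = pullPt ψ' (𝟙 (SA A))) : ψ.hom = ψ'.hom :=
  AlgHom.coe_ringHom_injective (pullPt_id_injective ψ ψ' h)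

theorem ptHom_pullPt_id (ψ : A ⟶ C) : (ptHom (pullPt ψ (𝟙 (SA A)))).hom = ψ.hom :=
  algHom_eq_of_pullPt_eq _ _ (eq_pullPt_ptHom _).symm

theorem ptHom_pullPt (φ : C ⟶ C') (g : SA C ⟶ SA A) :
    (ptHom (pullPt φ g)).hom = φ.hom.comp (ptHom g).hom := by
  have h1 : pullPt (ptHom (pullPt φ g)) (𝟙 (SA A)) = pullPt (ptHom g ≫ φ) (𝟙 (SA A)) := by
    rw [← eq_pullPt_ptHom, ← pullPt_pullPt, ← eq_pullPt_ptHom]
  exact algHom_eq_of_pullPt_eq _ _ h1

theorem ptHom_id : (ptHom (𝟙 (SA A))).hom = AlgHom.id R A := by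
  have h1 : pullPt (ptHom (𝟙 (SA A))) (𝟙 (SA A)) = pullPt (𝟙 A) (𝟙 (SA A)) := by
    rw [← eq_pullPt_ptHom, pullPt_id]
  exact algHom_eq_of_pullPt_eq _ _ h1

/-- The family attached to a point of the Grassmannian. -/
noncomputable def famOf (N : Module.Grassmannian A (A ⊗[R] M) k) : NatFam M k (SA A) where
  val C g := Module.Grassmannian.map (ptHom g).hom N
  nat C C' φ g := by rw [ptHom_pullPt, Module.Grassmannian.map_comp]

theorem famOf_val (N : Module.Grassmannian A (A ⊗[R] M) k) (g : SA C ⟶ SA A) :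
    (famOf N).val C g = Module.Grassmannian.map (ptHom g).hom N := rfl

theorem famOf_val_pullPt (N : Module.Grassmannian A (A ⊗[R] M) k) (ψ : A ⟶ C) :
    (famOf N).val C (pullPt ψ (𝟙 (SA A))) = Module.Grassmannian.map ψ.hom N := by
  rw [famOf_val, ptHom_pullPt_id]

theorem famOf_val_id (N : Module.Grassmannian A (A ⊗[R] M) k) :
    (famOf N).val A (𝟙 (SA A)) = N := by
  rw [famOf_val, ptHom_id]
  exact Module.Grassmannian.map_id k A N

theorem famOf_eval (e : NatFam M k (SA A)) : famOf (e.val A (𝟙 (SA A))) = e := by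
  apply NatFam.ext'
  intro C g
  rw [famOf_val, ← e.nat, ← eq_pullPt_ptHom]

/-- Evaluation at the identity point. -/
noncomputable def evalEquiv (A : CommAlgCat.{u} R) :
    NatFam M k (SA A) ≃ Module.Grassmannian A (A ⊗[R] M) k where
  toFun e := e.val A (𝟙 (SA A))
  invFun N := famOf N
  left_inv e := famOf_eval e
  right_inv N := famOf_val_id N

/-- From a representing object to the explicit description of points. -/
theorem exists_equiv_of_representableBy (Z : Over (Spec (CommRingCat.of R)))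
    (r : (D (R := R) M k).RepresentableBy Z) :
    ∃ (e : ∀ A : CommAlgCat.{u} R,
        (SA A ⟶ Z) ≃ (Module.Grassmannian.functor (R := R) (M := M) k).obj A),
      ∀ (A B : CommAlgCat.{u} R) (φ : A ⟶ B) (g : SA A ⟶ Z) (g' : SA B ⟶ Z),
        g'.left = Spec.map (CommRingCat.ofHom φ.hom.toRingHom) ≫ g.left →
          e B g' = (Module.Grassmannian.functor (R := R) (M := M) k).map φ (e A g) := by
  let e : ∀ A : CommAlgCat.{u} R,
      (SA A ⟶ Z) ≃ (Module.Grassmannian.functor (R := R) (M := M) k).obj A := fun A =>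
    (r.homEquiv (X := SA A)).trans (((equivShrink (NatFam M k (SA A))).symm).trans (evalEquiv A))
  refine ⟨e, ?_⟩
  intro A B φ g g' hg
  have h1 : g' = pullPt φ g := eq_pullPt_of_left φ g g' hg
  have h2 : pullPt φ g = pullPt φ (𝟙 (SA A)) ≫ g := by
    rw [pullPt_comp, Category.id_comp]
  have h3 : r.homEquiv g' = (D M k).map (pullPt φ (𝟙 (SA A))).op (r.homEquiv g) := by
    rw [h1, h2]
    exact r.homEquiv_comp _ _
  change (D.fam (r.homEquiv g')).val B (𝟙 (SA B)) =
    Module.Grassmannian.map φ.hom ((D.fam (r.homEquiv g)).val A (𝟙 (SA A)))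
  rw [h3, D.fam_map, NatFam.pull_val, Category.id_comp, ← (D.fam (r.homEquiv g)).nat]

end Eval

end Groth.Agent.Lib.Helper54.GrassRep
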