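import Mathlib
import Groth.Agent.Lib.Helper54.GrassRep
import Groth.Agent.Lib.Helper54.GrassOpen2

/-!
# Representability of the Grassmannian of `R^n` over `Spec R` by gluing the standard charts
(helper54)
-/

set_option autoImplicit false
set_option linter.style.haveILetI false
set_option linter.unusedSectionVars false
universe u

open AlgebraicGeometry CategoryTheory CategoryTheory.Limits Module TensorProduct Opposite
open Groth.Agent.Lib.Helper54.GrassClosedAlg Groth.Agent.Lib.Helper54.GrassClosed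
open Groth.Agent.Lib.Helper54.AffPts Groth.Agent.Lib.Helper54.GrassSurj
open Groth.Agent.Lib.Helper54.GrassGlueAlg Groth.Agent.Lib.Helper54.GrassChart
open Groth.Agent.Lib.Helper54.GrassChartAlg
open Groth.Agent.Lib.Helper54.GrassFun Groth.Agent.Lib.Helper18.RepOver
open Groth.Agent.Lib.Helper54.GrassRep

namespace Groth.Agent.Lib.Helper54.GrassRepFree

variable {R : Type u} [CommRing R] {n k : ℕ}

section Fam

variable {T : Over (Spec (CommRingCat.of R))} (d : NatFam (Fin n → R) k T)

theorem fam_he (A B : CommAlgCat.{u} R) (φ : A ⟶ B) (g : SA A ⟶ T) (g' : SA B ⟶ T)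
    (h : g'.left = Spec.map (CommRingCat.ofHom φ.hom.toRingHom) ≫ g.left) :
    d.val B g' =
      (Module.Grassmannian.functor (R := R) (M := Fin n → R) k).map φ (d.val A g) :=
  d.nat_left A B φ g g' h

theorem hPJ (σ : Fin k ⊕ Fin (n - k) ≃ Fin n) :
    ∀ (A C : Type u) [CommRing A] [Algebra R A] [CommRing C] [Algebra R C]
      (N : Module.Grassmannian A (A ⊗[R] (Fin n → R)) k) (φ : A →ₐ[R] C),
      PChart σ C (Module.Grassmannian.map φ N).toSubmodule ↔
        Ideal.map φ (JChart σ A N.toSubmodule) = ⊤ :=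
  fun A C _ _ _ _ N φ => pchart_map_iff σ N φ

/-- The chart locus of a family. -/
noncomputable def chartOpen (σ : Fin k ⊕ Fin (n - k) ≃ Fin n) : T.left.Opens :=
  (GrassOpen2.exists_open (M := Fin n → R) (k := k)
    (fun C _ _ K => PChart σ C K) (fun A _ _ N => JChart σ A N) (hPJ σ)
    (fun A g => d.val A g) (fam_he d)).choose

theorem chartOpen_iff (σ : Fin k ⊕ Fin (n - k) ≃ Fin n) (A : CommAlgCat.{u} R) (g : SA A ⟶ T) :
    (∀ x, g.left x ∈ chartOpen d σ) ↔ PChart σ A (d.val A g).toSubmodule :=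
  (GrassOpen2.exists_open (M := Fin n → R) (k := k)
    (fun C _ _ K => PChart σ C K) (fun A _ _ N => JChart σ A N) (hPJ σ)
    (fun A g => d.val A g) (fam_he d)).choose_spec.1 A g

theorem basicOpen_le_chartOpen (σ : Fin k ⊕ Fin (n - k) ≃ Fin n) (W : T.left.Opens)
    (hW : IsAffineOpen W) (s : Γ(T.left, W))
    (hs : s ∈ JChart σ (AW T W) (d.val _ (gW T W hW)).toSubmodule) :
    T.left.basicOpen s ≤ chartOpen d σ :=
  (GrassOpen2.exists_open (M := Fin n → R) (k := k)
    (fun C _ _ K => PChart σ C K) (fun A _ _ N => JChart σ A N) (hPJ σ)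
    (fun A g => d.val A g) (fam_he d)).choose_spec.2 W hW s hs

theorem exists_mem_chartOpen (x : T.left) :
    ∃ σ : Fin k ⊕ Fin (n - k) ≃ Fin n, x ∈ chartOpen d σ := by
  obtain ⟨W, hW, hxW, -⟩ :=
    exists_isAffineOpen_mem_and_subset (x := x) (U := (⊤ : T.left.Opens)) trivial
  have hxr : x ∈ Set.range hW.fromSpec := by
    rw [hW.range_fromSpec]
    exact hxW
  obtain ⟨z, rfl⟩ := hxr
  let p : Ideal (AW T W) := z.asIdeal
  haveI : p.IsPrime := z.isPrime
  let κ := p.ResidueField
  letI : Algebra R κ := ((algebraMap (AW T W) κ).comp (algebraMap R (AW T W))).toAlgebra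
  haveI : IsScalarTower R (AW T W) κ := IsScalarTower.of_algebraMap_eq' rfl
  let φ : (AW T W) →ₐ[R] κ := IsScalarTower.toAlgHom R (AW T W) κ
  obtain ⟨σ, hσ⟩ := exists_pchart_of_field (R := R)
    (Module.Grassmannian.map φ (d.val (AW T W) (gW T W hW)))
  refine ⟨σ, ?_⟩
  have h1 := (pchart_map_iff σ (d.val (AW T W) (gW T W hW)) φ).mp hσ
  have h2 : ∃ s ∈ JChart σ (AW T W) (d.val _ (gW T W hW)).toSubmodule, s ∉ p := by
    by_contra hcon
    push Not at hcon
    have h3 : Ideal.map φ (JChart σ (AW T W) (d.val _ (gW T W hW)).toSubmodule) = ⊥ := by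
      rw [Ideal.map_eq_bot_iff_le_ker]
      intro s hs
      rw [RingHom.mem_ker]
      exact Ideal.algebraMap_residueField_eq_zero.mpr (hcon s hs)
    rw [h3] at h1
    exact bot_ne_top h1
  obtain ⟨s, hs, hsp⟩ := h2
  apply basicOpen_le_chartOpen d σ W hW s hs
  rw [GrassOpen2.fromSpec_mem_basicOpen_iff]
  exact hsp

end Fam

section Charts

variable (R n k) in
/-- The universal point of the chart `σ`. -/
noncomputable def NU (σ : Fin k ⊕ Fin (n - k) ≃ Fin n) :
    Module.Grassmannian (Pol R n k) (Pol R n k ⊗[R] (Fin n → R)) k :=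
  Na (R := R) σ (aUniv R n k)

/-- The algebra map attached to a matrix. -/
noncomputable def matHom {A : CommAlgCat.{u} R} (a : Fin k → Fin (n - k) → A) : Pol R n k ⟶ A :=
  CommAlgCat.ofHom (MvPolynomial.aeval (fun d => a ((δ n k) d).1 ((δ n k) d).2))

theorem matHom_aUniv {A : CommAlgCat.{u} R} (a : Fin k → Fin (n - k) → A) (j : Fin k)
    (l : Fin (n - k)) : (matHom a).hom (aUniv R n k j l) = a j l := by
  simp [matHom, aUniv]

theorem map_NU (σ : Fin k ⊕ Fin (n - k) ≃ Fin n) {A : CommAlgCat.{u} R} (ψ : Pol R n k ⟶ A) :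
    Module.Grassmannian.map ψ.hom (NU R n k σ) =
      Na (R := R) σ (fun j l => ψ.hom (aUniv R n k j l)) :=
  map_Na σ ψ.hom (aUniv R n k)

theorem hom_eq_of_aUniv {A : CommAlgCat.{u} R} (ψ ψ' : Pol R n k ⟶ A)
    (h : ∀ j l, ψ.hom (aUniv R n k j l) = ψ'.hom (aUniv R n k j l)) : ψ = ψ' := by
  apply CommAlgCat.hom_ext
  apply MvPolynomial.algHom_ext
  intro d
  have := h ((δ n k) d).1 ((δ n k) d).2
  simpa [aUniv] using this

theorem pull_famOf_injective (σ : Fin k ⊕ Fin (n - k) ≃ Fin n)
    {T : Over (Spec (CommRingCat.of R))} (z z' : T ⟶ SA (Pol R n k))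
    (h : (famOf (NU R n k σ)).pull z = (famOf (NU R n k σ)).pull z') : z = z' := by
  apply hom_ext_points
  intro A g
  obtain ⟨ψ, hψ⟩ := exists_eq_pullPt (g ≫ z)
  obtain ⟨ψ', hψ'⟩ := exists_eq_pullPt (g ≫ z')
  have h1 := congrArg (fun x => x.val A g) h
  simp only [NatFam.pull_val] at h1
  rw [hψ, hψ', famOf_val_pullPt, famOf_val_pullPt, map_NU, map_NU] at h1
  have h2 := Na_injective σ _ _ h1
  have h3 : ψ = ψ' := hom_eq_of_aUniv ψ ψ' (fun j l => congrFun (congrFun h2 j) l)
  rw [hψ, hψ', h3]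

theorem exists_classifying (σ : Fin k ⊕ Fin (n - k) ≃ Fin n)
    {T : Over (Spec (CommRingCat.of R))} (d : NatFam (Fin n → R) k T)
    (h : ∀ (A : CommAlgCat.{u} R) (g : SA A ⟶ T), PChart σ A (d.val A g).toSubmodule) :
    ∃ z : T ⟶ SA (Pol R n k), (famOf (NU R n k σ)).pull z = d := by
  choose a ha using fun (A : CommAlgCat.{u} R) (g : SA A ⟶ T) =>
    exists_eq_Na σ (d.val A g) (h A g)
  obtain ⟨c, hc⟩ := exists_of_natural (X := SA (Pol R n k)) (Y := T)
    (fun A g => pullPt (matHom (a A g)) (𝟙 (SA (Pol R n k)))) (by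
      intro A B φ g g' hg
      have h1 : d.val B g' = Module.Grassmannian.map φ.hom (d.val A g) :=
        d.nat_left A B φ g g' hg
      rw [ha B g', ha A g, map_Na] at h1
      have h2 := Na_injective σ _ _ h1
      have h3 : matHom (a B g') = matHom (a A g) ≫ φ := by
        apply hom_eq_of_aUniv
        intro j l
        rw [matHom_aUniv]
        change _ = φ.hom ((matHom (a A g)).hom (aUniv R n k j l))
        rw [matHom_aUniv]
        exact congrFun (congrFun h2 j) l
      rw [h3, ← pullPt_pullPt, pullPt_left])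
  refine ⟨c, ?_⟩
  apply NatFam.ext'
  intro A g
  rw [NatFam.pull_val, hc, famOf_val_pullPt, map_NU, ha A g]
  congr 1
  funext j l
  exact matHom_aUniv _ j l

theorem pchart_of_factor (σ : Fin k ⊕ Fin (n - k) ≃ Fin n) {A : CommAlgCat.{u} R}
    (g : SA A ⟶ SA (Pol R n k)) : PChart σ A ((famOf (NU R n k σ)).val A g).toSubmodule := by
  obtain ⟨ψ, rfl⟩ := exists_eq_pullPt g
  rw [famOf_val_pullPt, map_NU]
  exact pchart_Na σ _

end Charts

section Main

variable (R n k)

/-- The universal elements over the charts. -/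
noncomputable def dZ (σ : ULift.{u} (Fin k ⊕ Fin (n - k) ≃ Fin n)) :
    (D (R := R) (Fin n → R) k).obj (op (SA (Pol R n k))) :=
  D.mk (famOf (NU R n k σ.down))

theorem representable :
    ∃ Z : Over (Spec (CommRingCat.of R)), Nonempty ((D (R := R) (Fin n → R) k).RepresentableBy Z) := by
  apply representable_of_local' (D := D (R := R) (Fin n → R) k)
    (fun _ : ULift.{u} (Fin k ⊕ Fin (n - k) ≃ Fin n) => SA (Pol R n k)) (dZ R n k)
    hsep hglue
    (Vf := fun σ T d => chartOpen (D.fam d) σ.down)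
  · -- hmono
    intro σ T z z' h
    apply pull_famOf_injective σ.down
    have h1 := congrArg D.fam h
    rw [D.fam_map, D.fam_map, dZ, D.fam_mk] at h1
    exact h1
  · -- hfac
    intro σ T d
    obtain ⟨z, hz⟩ := exists_classifying σ.down
      ((D.fam d).pull (resι T (chartOpen (D.fam d) σ.down))) (by
        intro A g
        rw [NatFam.pull_val]
        apply (chartOpen_iff (D.fam d) σ.down A _).mp
        intro x
        change (chartOpen (D.fam d) σ.down).ι (g.left x) ∈ chartOpen (D.fam d) σ.down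
        exact (g.left x).2)
    refine ⟨z, ?_⟩
    apply D.fam_injective
    rw [D.fam_map, D.fam_map, dZ, D.fam_mk]
    exact hz
  · -- hmax
    intro σ T d W w a h x
    obtain ⟨U, hU, hxU, -⟩ :=
      exists_isAffineOpen_mem_and_subset (x := x) (U := (⊤ : W.left.Opens)) trivial
    have hxr : x ∈ Set.range (gW W U hU).left := by
      rw [range_gW]
      exact hxU
    obtain ⟨y, rfl⟩ := hxr
    have h1 := congrArg (fun t => (D.fam t).val _ (gW W U hU)) h
    simp only [D.fam_map, NatFam.pull_val, dZ, D.fam_mk] at h1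
    have h2 := pchart_of_factor σ.down (gW W U hU ≫ a)
    rw [h1] at h2
    exact (chartOpen_iff (D.fam d) σ.down _ (gW W U hU ≫ w)).mpr h2 y
  · -- hcov
    intro T d t
    obtain ⟨σ, hσ⟩ := exists_mem_chartOpen (D.fam d) t
    exact ⟨ULift.up σ, hσ⟩

end Main

end Groth.Agent.Lib.Helper54.GrassRepFree
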