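import Mathlib
import Groth.Agent.Lib.Helper54.GrassRepFree
import Groth.Agent.Lib.Helper54.GrassClosed2
import Groth.Agent.Lib.Helper54.GrassSurjAlg

/-!
# Representability of the Grassmannian of a finitely generated module over `Spec R`
(helper54)

For a surjection `v : M₁ → M₂`, the Grassmannian of `M₂` is the closed subscheme of the
Grassmannian of `M₁` where `ker (A ⊗ v) ≤ N`.
-/

set_option autoImplicit false
set_option linter.style.haveILetI false
set_option linter.unusedSectionVars false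
universe u

open AlgebraicGeometry CategoryTheory CategoryTheory.Limits Module TensorProduct Opposite
open Groth.Agent.Lib.Helper54.GrassClosedAlg Groth.Agent.Lib.Helper54.GrassClosed
open Groth.Agent.Lib.Helper54.AffPts Groth.Agent.Lib.Helper54.GrassSurj
open Groth.Agent.Lib.Helper54.GrassSurjAlg
open Groth.Agent.Lib.Helper54.GrassRep

namespace Groth.Agent.Lib.Helper54.GrassRepFin

variable {R : Type u} [CommRing R]

section Closed

variable {M₁ M₂ : Type u} [AddCommGroup M₁] [Module R M₁] [AddCommGroup M₂] [Module R M₂] {k : ℕ}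
  (v : M₁ →ₗ[R] M₂) (hv : Function.Surjective v)
  {X₁ : Over (Spec (CommRingCat.of R))}
  (e₁ : ∀ A : CommAlgCat.{u} R,
    (SA A ⟶ X₁) ≃ (Module.Grassmannian.functor (R := R) (M := M₁) k).obj A)
  (he₁ : ∀ (A B : CommAlgCat.{u} R) (φ : A ⟶ B) (g : SA A ⟶ X₁) (g' : SA B ⟶ X₁),
    g'.left = Spec.map (CommRingCat.ofHom φ.hom.toRingHom) ≫ g.left →
    e₁ B g' = (Module.Grassmannian.functor (R := R) (M := M₁) k).map φ (e₁ A g))

include hv he₁ in
theorem exists_rep_of_surjective :
    ∃ (X₂ : Over (Spec (CommRingCat.of R)))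
      (e₂ : ∀ A : CommAlgCat.{u} R,
        (SA A ⟶ X₂) ≃ (Module.Grassmannian.functor (R := R) (M := M₂) k).obj A),
      ∀ (A B : CommAlgCat.{u} R) (φ : A ⟶ B) (g : SA A ⟶ X₂) (g' : SA B ⟶ X₂),
        g'.left = Spec.map (CommRingCat.ofHom φ.hom.toRingHom) ≫ g.left →
          e₂ B g' = (Module.Grassmannian.functor (R := R) (M := M₂) k).map φ (e₂ A g) := by
  obtain ⟨Z, i, hi, hZ⟩ := GrassClosed2.exists_closed (M := M₁) (k := k)
    (fun C _ _ K => LinearMap.ker (v.baseChange C) ≤ K) (fun A _ _ N => kerIdeal v N)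
    (fun A C _ _ _ _ N φ => ker_le_map_iff v hv N φ) e₁ he₁
  let X₂ : Over (Spec (CommRingCat.of R)) := Over.mk (i ≫ X₁.hom)
  let ι : X₂ ⟶ X₁ := Over.homMk i rfl
  have hι : ι.left = i := rfl
  haveI : Mono i := inferInstance
  have hmono : ∀ (A : CommAlgCat.{u} R) (g₁ g₂ : SA A ⟶ X₂), g₁ ≫ ι = g₂ ≫ ι → g₁ = g₂ := by
    intro A g₁ g₂ h
    apply Over.OverMorphism.ext
    have := congrArg (fun t => t.left) h
    simp only [Over.comp_left, hι] at this
    exact (cancel_mono i).mp this
  have hP : ∀ (A : CommAlgCat.{u} R) (g : SA A ⟶ X₂),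
      LinearMap.ker (v.baseChange A) ≤ (e₁ A (g ≫ ι)).toSubmodule :=
    fun A g => (hZ A (g ≫ ι)).mp ⟨g.left, rfl⟩
  have hlift : ∀ (A : CommAlgCat.{u} R) (g : SA A ⟶ X₁),
      LinearMap.ker (v.baseChange A) ≤ (e₁ A g).toSubmodule → ∃ g' : SA A ⟶ X₂, g' ≫ ι = g := by
    intro A g hg
    obtain ⟨h, hh⟩ := (hZ A g).mpr hg
    refine ⟨Over.homMk h ?_, ?_⟩
    · change h ≫ i ≫ X₁.hom = _
      rw [← Category.assoc, hh]
      exact Over.w g
    · apply Over.OverMorphism.ext
      exact hh
  have hlift' : ∀ (A : CommAlgCat.{u} R) (N : Module.Grassmannian A (A ⊗[R] M₂) k),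
      ∃ g' : SA A ⟶ X₂, g' ≫ ι = (e₁ A).symm (pre v hv N) := by
    intro A N
    apply hlift
    rw [Equiv.apply_symm_apply]
    exact ker_le_pre v hv N
  let e₂ : ∀ A : CommAlgCat.{u} R,
      (SA A ⟶ X₂) ≃ (Module.Grassmannian.functor (R := R) (M := M₂) k).obj A := fun A =>
    { toFun := fun g => push v hv (e₁ A (g ≫ ι)) (hP A g)
      invFun := fun N => (hlift' A N).choose
      left_inv := by
        intro g
        apply hmono
        have h1 := (hlift' A (push v hv (e₁ A (g ≫ ι)) (hP A g))).choose_spec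
        rw [h1, pre_push, Equiv.symm_apply_apply]
      right_inv := by
        intro N
        have h1 := (hlift' A N).choose_spec
        apply pre_injective v hv
        rw [pre_push, h1, Equiv.apply_symm_apply] }
  refine ⟨X₂, e₂, ?_⟩
  intro A B φ g g' hg
  change push v hv (e₁ B (g' ≫ ι)) (hP B g') =
    Module.Grassmannian.map φ.hom (push v hv (e₁ A (g ≫ ι)) (hP A g))
  apply pre_injective v hv
  rw [pre_push, ← pre_map, pre_push]
  apply he₁ A B φ (g ≫ ι) (g' ≫ ι)
  rw [Over.comp_left, Over.comp_left, hg, Category.assoc]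

end Closed

/-- The Grassmannian functor of a finitely generated module over `Spec R` is representable. -/
theorem main (M : Type u) [AddCommGroup M] [Module R M] [Module.Finite R M] (k : ℕ) :
    ∃ (X : Over (Spec (CommRingCat.of R)))
      (e : ∀ A : CommAlgCat.{u} R,
        (SA A ⟶ X) ≃ (Module.Grassmannian.functor (R := R) (M := M) k).obj A),
      ∀ (A B : CommAlgCat.{u} R) (φ : A ⟶ B) (g : SA A ⟶ X) (g' : SA B ⟶ X),
        g'.left = Spec.map (CommRingCat.ofHom φ.hom.toRingHom) ≫ g.left →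
          e B g' = (Module.Grassmannian.functor (R := R) (M := M) k).map φ (e A g) := by
  obtain ⟨n, v, hv⟩ := Module.Finite.exists_fin' R M
  obtain ⟨Z, ⟨r⟩⟩ := GrassRepFree.representable R n k
  obtain ⟨e₁, he₁⟩ := exists_equiv_of_representableBy Z r
  exact exists_rep_of_surjective v hv e₁ he₁

end Groth.Agent.Lib.Helper54.GrassRepFin
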