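import Mathlib
import Groth.Agent.Lib.Helper54.GrassSurjAlg
import Groth.Agent.Lib.Helper54.GrassClosed

/-!
# Transfer of a representing scheme of the Grassmannian along a linear equivalence (helper54)
-/

set_option autoImplicit false
set_option linter.unusedSectionVars false
universe u

open AlgebraicGeometry CategoryTheory Module TensorProduct
open Groth.Agent.Lib.Helper54.GrassClosed Groth.Agent.Lib.Helper54.GrassSurjAlg

namespace Groth.Agent.Lib.Helper54.GrassTransfer

variable {R : Type u} [CommRing R] {M₁ M₂ : Type u} [AddCommGroup M₁] [Module R M₁]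
  [AddCommGroup M₂] [Module R M₂] (v : M₁ ≃ₗ[R] M₂) {k : ℕ}

theorem pre_symm_pre {A : Type u} [CommRing A] [Algebra R A]
    (N : Module.Grassmannian A (A ⊗[R] M₂) k) :
    pre v.symm.toLinearMap v.symm.surjective (pre v.toLinearMap v.surjective N) = N := by
  apply Module.Grassmannian.ext
  rw [pre_toSubmodule, pre_toSubmodule, ← Submodule.comap_comp, ← LinearMap.baseChange_comp]
  have : v.toLinearMap ∘ₗ v.symm.toLinearMap = LinearMap.id := by
    ext x
    simp
  rw [this, LinearMap.baseChange_id, Submodule.comap_id]

theorem pre_pre_symm {A : Type u} [CommRing A] [Algebra R A]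
    (K : Module.Grassmannian A (A ⊗[R] M₁) k) :
    pre v.toLinearMap v.surjective (pre v.symm.toLinearMap v.symm.surjective K) = K := by
  apply Module.Grassmannian.ext
  rw [pre_toSubmodule, pre_toSubmodule, ← Submodule.comap_comp, ← LinearMap.baseChange_comp]
  have : v.symm.toLinearMap ∘ₗ v.toLinearMap = LinearMap.id := by
    ext x
    simp
  rw [this, LinearMap.baseChange_id, Submodule.comap_id]

include v in
theorem transfer {X : Over (Spec (CommRingCat.of R))}
    (e : ∀ A : CommAlgCat.{u} R,
      (SA A ⟶ X) ≃ (Module.Grassmannian.functor (R := R) (M := M₂) k).obj A)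
    (he : ∀ (A B : CommAlgCat.{u} R) (φ : A ⟶ B) (g : SA A ⟶ X) (g' : SA B ⟶ X),
      g'.left = Spec.map (CommRingCat.ofHom φ.hom.toRingHom) ≫ g.left →
      e B g' = (Module.Grassmannian.functor (R := R) (M := M₂) k).map φ (e A g)) :
    ∃ e' : ∀ A : CommAlgCat.{u} R,
      (SA A ⟶ X) ≃ (Module.Grassmannian.functor (R := R) (M := M₁) k).obj A,
      ∀ (A B : CommAlgCat.{u} R) (φ : A ⟶ B) (g : SA A ⟶ X) (g' : SA B ⟶ X),
        g'.left = Spec.map (CommRingCat.ofHom φ.hom.toRingHom) ≫ g.left →
        e' B g' = (Module.Grassmannian.functor (R := R) (M := M₁) k).map φ (e' A g) := by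
  let e' : ∀ A : CommAlgCat.{u} R,
      (SA A ⟶ X) ≃ (Module.Grassmannian.functor (R := R) (M := M₁) k).obj A := fun A =>
    { toFun := fun g => pre v.toLinearMap v.surjective (e A g)
      invFun := fun K => (e A).symm (pre v.symm.toLinearMap v.symm.surjective K)
      left_inv := by
        intro g
        change (e A).symm (pre v.symm.toLinearMap v.symm.surjective
          (pre v.toLinearMap v.surjective (e A g))) = g
        rw [pre_symm_pre, Equiv.symm_apply_apply]
      right_inv := by
        intro K
        change pre v.toLinearMap v.surjective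
          (e A ((e A).symm (pre v.symm.toLinearMap v.symm.surjective K))) = K
        rw [Equiv.apply_symm_apply, pre_pre_symm] }
  refine ⟨e', ?_⟩
  intro A B φ g g' hg
  change pre v.toLinearMap v.surjective (e B g') =
    Module.Grassmannian.map φ.hom (pre v.toLinearMap v.surjective (e A g))
  rw [he A B φ g g' hg]
  exact (pre_map v.toLinearMap v.surjective φ.hom (e A g)).symm

end Groth.Agent.Lib.Helper54.GrassTransfer
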