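import Mathlib

set_option autoImplicit false
universe v u
open CategoryTheory MonoidalCategory CartesianMonoidalCategory MonObj

namespace Groth.Agent.Lib.Helper54.GrpOfShear

/-- a semigroup with unique left and right division which is nonempty has a two-sided unit and
left inverses; every idempotent is the unit. -/
theorem exists_unit_of_div {G : Type*} (m : G → G → G)
    (hassoc : ∀ a b c, m (m a b) c = m a (m b c))
    (hl : ∀ a b, ∃! c, m a c = b) (hr : ∀ a b, ∃! c, m c a = b) (x : G) :
    ∃ e : G, (∀ a, m e a = a) ∧ (∀ a, m a e = a) ∧ (∀ a, ∃ b, m b a = e ∧ m a b = e) ∧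
      ∀ y, m y y = y → y = e := by
  obtain ⟨e, he, -⟩ := hl x x
  obtain ⟨e', he', -⟩ := hr x x
  have hre : ∀ b, m b e = b := by
    intro b
    obtain ⟨c, hc, -⟩ := hr x b
    rw [← hc, hassoc, he]
  have hle : ∀ b, m e' b = b := by
    intro b
    obtain ⟨c, hc, -⟩ := hl x b
    rw [← hc, ← hassoc, he']
  have hee : e' = e := by rw [← hre e', hle e]
  rw [hee] at hle
  refine ⟨e, hle, hre, ?_, ?_⟩
  · intro a
    obtain ⟨b, hb, -⟩ := hr a e
    refine ⟨b, hb, ?_⟩
    -- m a b = e : (a b) a = a (b a) = a e = a = e a, cancel on the right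
    obtain ⟨c, -, hc⟩ := hr a a
    have h1 : m (m a b) a = a := by rw [hassoc, hb, hre]
    rw [hc _ h1, ← hc _ (hle a)]
  · intro y hy
    obtain ⟨c, -, hc⟩ := hl y y
    rw [hc _ hy, ← hc _ (hre y)]

variable {C : Type u} [Category.{v} C] [CartesianMonoidalCategory C] {X : C} (P : X ⊗ X ⟶ X)

/-- the composition law on `T`-points induced by `P`. -/
def mulHom {T : C} (a b : T ⟶ X) : T ⟶ X := lift a b ≫ P

lemma comp_mulHom {T T' : C} (g : T' ⟶ T) (a b : T ⟶ X) :
    g ≫ mulHom P a b = mulHom P (g ≫ a) (g ≫ b) := by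
  unfold mulHom
  rw [← Category.assoc, comp_lift]

lemma mulHom_assoc (hassoc : (P ▷ X) ≫ P = (α_ X X X).hom ≫ (X ◁ P) ≫ P) {T : C}
    (a b c : T ⟶ X) : mulHom P (mulHom P a b) c = mulHom P a (mulHom P b c) := by
  unfold mulHom
  have h1 : lift (lift a b ≫ P) c = lift (lift a b) c ≫ (P ▷ X) := by rw [lift_whiskerRight]
  have h2 : lift a (lift b c ≫ P) = lift a (lift b c) ≫ (X ◁ P) := by rw [lift_whiskerLeft]
  rw [h1, h2, Category.assoc, hassoc, ← Category.assoc, lift_lift_associator_hom, Category.assoc]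

lemma exists_unique_left_div [IsIso (lift (fst X X) P)] {T : C} (a b : T ⟶ X) :
    ∃! c : T ⟶ X, mulHom P a c = b := by
  have key : ∀ c : T ⟶ X, lift a c ≫ lift (fst X X) P = lift a (mulHom P a c) := by
    intro c
    ext
    · simp
    · simp [mulHom]
  refine ⟨lift a b ≫ inv (lift (fst X X) P) ≫ snd X X, ?_, ?_⟩
  · set d := lift a b ≫ inv (lift (fst X X) P) with hd
    have hd1 : d ≫ lift (fst X X) P = lift a b := by
      rw [hd, Category.assoc, IsIso.inv_hom_id, Category.comp_id]
    have hd2 : d ≫ fst X X = a := by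
      have := congrArg (fun f => f ≫ fst X X) hd1
      simpa using this
    have hd3 : d ≫ P = b := by
      have := congrArg (fun f => f ≫ snd X X) hd1
      simpa using this
    show mulHom P a (lift a b ≫ inv (lift (fst X X) P) ≫ snd X X) = b
    rw [← Category.assoc, ← hd, ← hd3]
    unfold mulHom
    congr 1
    ext
    · simp [hd2]
    · simp
  · intro c hc
    have h1 : lift a c ≫ lift (fst X X) P = lift a b := by rw [key, hc]
    have h2 : lift a c = lift a b ≫ inv (lift (fst X X) P) := by
      rw [← h1, Category.assoc, IsIso.hom_inv_id, Category.comp_id]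
    rw [← Category.assoc, ← h2, lift_snd]

lemma exists_unique_right_div [IsIso (lift P (snd X X))] {T : C} (a b : T ⟶ X) :
    ∃! c : T ⟶ X, mulHom P c a = b := by
  have key : ∀ c : T ⟶ X, lift c a ≫ lift P (snd X X) = lift (mulHom P c a) a := by
    intro c
    ext
    · simp [mulHom]
    · simp
  refine ⟨lift b a ≫ inv (lift P (snd X X)) ≫ fst X X, ?_, ?_⟩
  · set d := lift b a ≫ inv (lift P (snd X X)) with hd
    have hd1 : d ≫ lift P (snd X X) = lift b a := by
      rw [hd, Category.assoc, IsIso.inv_hom_id, Category.comp_id]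
    have hd2 : d ≫ snd X X = a := by
      have := congrArg (fun f => f ≫ snd X X) hd1
      simpa using this
    have hd3 : d ≫ P = b := by
      have := congrArg (fun f => f ≫ fst X X) hd1
      simpa using this
    show mulHom P (lift b a ≫ inv (lift P (snd X X)) ≫ fst X X) a = b
    rw [← Category.assoc, ← hd, ← hd3]
    unfold mulHom
    congr 1
    ext
    · simp
    · simp [hd2]
  · intro c hc
    have h1 : lift c a ≫ lift P (snd X X) = lift b a := by rw [key, hc]
    have h2 : lift c a = lift b a ≫ inv (lift P (snd X X)) := by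
      rw [← h1, Category.assoc, IsIso.hom_inv_id, Category.comp_id]
    rw [← Category.assoc, ← h2, lift_fst]

/-- the unit of the semigroup of `T`-points, when this is nonempty. -/
theorem exists_unit (hassoc : (P ▷ X) ≫ P = (α_ X X X).hom ≫ (X ◁ P) ≫ P)
    [IsIso (lift (fst X X) P)] [IsIso (lift P (snd X X))] {T : C} (x : T ⟶ X) :
    ∃ e : T ⟶ X, (∀ a, mulHom P e a = a) ∧ (∀ a, mulHom P a e = a) ∧
      (∀ a, ∃ b, mulHom P b a = e ∧ mulHom P a b = e) ∧ ∀ y, mulHom P y y = y → y = e :=
  exists_unit_of_div (mulHom P) (mulHom_assoc P hassoc) (exists_unique_left_div P)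
    (exists_unique_right_div P) x

/-- idempotent `T`-points are equal. -/
theorem eq_of_idem (hassoc : (P ▷ X) ≫ P = (α_ X X X).hom ≫ (X ◁ P) ≫ P)
    [IsIso (lift (fst X X) P)] [IsIso (lift P (snd X X))] {T : C} (x y : T ⟶ X)
    (hx : mulHom P x x = x) (hy : mulHom P y y = y) : x = y := by
  obtain ⟨e, -, -, -, he⟩ := exists_unit P hassoc x
  rw [he x hx, he y hy]

/-- **an associative law with invertible shear maps and a section is a group law.** -/
theorem exists_grpObj (hassoc : (P ▷ X) ≫ P = (α_ X X X).hom ≫ (X ◁ P) ≫ P)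
    [IsIso (lift (fst X X) P)] [IsIso (lift P (snd X X))] (ε : 𝟙_ C ⟶ X) :
    ∃ _ : GrpObj X, μ[X] = P := by
  obtain ⟨η₁, hη1, hη2, -, hη4⟩ := exists_unit P hassoc ε
  have hidem : mulHom P η₁ η₁ = η₁ := hη1 η₁
  -- the unit of `T`-points is `toUnit T ≫ η₁`
  have hunit : ∀ {T : C} (a : T ⟶ X), mulHom P (toUnit T ≫ η₁) a = a ∧
      mulHom P a (toUnit T ≫ η₁) = a := by
    intro T a
    obtain ⟨e, he1, he2, -, he4⟩ := exists_unit P hassoc a
    have : toUnit T ≫ η₁ = e := by
      apply he4
      rw [← comp_mulHom, hidem]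
    rw [this]
    exact ⟨he1 a, he2 a⟩
  obtain ⟨eX, -, -, heX3, heX4⟩ := exists_unit P hassoc (𝟙 X)
  have heX : eX = toUnit X ≫ η₁ := by
    symm
    apply heX4
    rw [← comp_mulHom, hidem]
  obtain ⟨ι₁, hι1, hι2⟩ := heX3 (𝟙 X)
  refine ⟨{ one := η₁
            mul := P
            one_mul := ?_
            mul_one := ?_
            mul_assoc := hassoc
            inv := ι₁
            left_inv := ?_
            right_inv := ?_ }, rfl⟩
  · have h1 : η₁ ▷ X ≫ P = mulHom P (fst (𝟙_ C) X ≫ η₁) (snd (𝟙_ C) X) := by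
      unfold mulHom
      congr 1
      ext <;> simp
    rw [h1, leftUnitor_hom]
    have h2 : fst (𝟙_ C) X = toUnit _ := toUnit_unique _ _
    rw [h2]
    exact (hunit _).1
  · have h1 : X ◁ η₁ ≫ P = mulHom P (fst X (𝟙_ C)) (snd X (𝟙_ C) ≫ η₁) := by
      unfold mulHom
      congr 1
      ext <;> simp
    rw [h1, rightUnitor_hom]
    have h2 : snd X (𝟙_ C) = toUnit _ := toUnit_unique _ _
    rw [h2]
    exact (hunit _).2
  · rw [← heX]; exact hι1
  · rw [← heX]; exact hι2

section Grp

variable (G : C) [GrpObj G]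

lemma mul_eq_fst_mul_snd : μ[G] = fst G G * snd G G := by
  rw [Hom.mul_def, lift_fst_snd, Category.id_comp]

/-- the left shear map `(x, y) ↦ (x, xy)` of a group object is an isomorphism. -/
theorem isIso_shearL : IsIso (lift (fst G G) μ[G]) := by
  refine ⟨lift (fst G G) ((fst G G)⁻¹ * snd G G), ?_, ?_⟩
  · ext
    · simp
    · simp only [Category.assoc, lift_snd, Category.id_comp]
      rw [MonObj.comp_mul, GrpObj.comp_inv, lift_fst, lift_snd, mul_eq_fst_mul_snd,
        inv_mul_cancel_left]
  · ext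
    · simp
    · simp only [Category.assoc, lift_snd, Category.id_comp]
      rw [mul_eq_fst_mul_snd, MonObj.comp_mul, lift_fst, lift_snd, mul_inv_cancel_left]

/-- the right shear map `(x, y) ↦ (xy, y)` of a group object is an isomorphism. -/
theorem isIso_shearR : IsIso (lift μ[G] (snd G G)) := by
  refine ⟨lift (fst G G * (snd G G)⁻¹) (snd G G), ?_, ?_⟩
  · ext
    · simp only [Category.assoc, lift_fst, Category.id_comp]
      rw [MonObj.comp_mul, GrpObj.comp_inv, lift_fst, lift_snd, mul_eq_fst_mul_snd,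
        mul_inv_cancel_right]
    · simp
  · ext
    · simp only [Category.assoc, lift_fst, Category.id_comp]
      rw [mul_eq_fst_mul_snd, MonObj.comp_mul, lift_fst, lift_snd, inv_mul_cancel_right]
    · simp

end Grp

section Functor

open Functor.LaxMonoidal Functor.OplaxMonoidal Functor.Monoidal

variable {D : Type*} [Category D] [CartesianMonoidalCategory D] (F : C ⥤ D) [F.Monoidal]

/-- if `F` is monoidal and `F.obj X` is a group object whose multiplication is induced by `P`, then
`F` maps the shear maps of `P` to isomorphisms. -/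
theorem isIso_map_shearL [GrpObj (F.obj X)] (h : μ[F.obj X] = Functor.LaxMonoidal.μ F X X ≫ F.map P) :
    IsIso (F.map (lift (fst X X) P)) := by
  have key : Functor.LaxMonoidal.μ F X X ≫ F.map (lift (fst X X) P) =
      lift (fst (F.obj X) (F.obj X)) μ[F.obj X] ≫ Functor.LaxMonoidal.μ F X X := by
    have h1 : (Functor.LaxMonoidal.μ F X X ≫ F.map (lift (fst X X) P)) ≫ Functor.OplaxMonoidal.δ F X X =
        lift (fst (F.obj X) (F.obj X)) μ[F.obj X] := by
      rw [Category.assoc, lift_δ, comp_lift, μ_fst, ← h]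
    have h2 := congrArg (fun f => f ≫ Functor.LaxMonoidal.μ F X X) h1
    simp only [Category.assoc, δ_μ, Category.comp_id] at h2
    exact h2
  have : IsIso (lift (fst (F.obj X) (F.obj X)) μ[F.obj X]) := isIso_shearL _
  have e : F.map (lift (fst X X) P) =
      Functor.OplaxMonoidal.δ F X X ≫ lift (fst (F.obj X) (F.obj X)) μ[F.obj X] ≫ Functor.LaxMonoidal.μ F X X := by
    rw [← key, ← Category.assoc, δ_μ, Category.id_comp]
  rw [e]
  infer_instance

theorem isIso_map_shearR [GrpObj (F.obj X)] (h : μ[F.obj X] = Functor.LaxMonoidal.μ F X X ≫ F.map P) :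
    IsIso (F.map (lift P (snd X X))) := by
  have key : Functor.LaxMonoidal.μ F X X ≫ F.map (lift P (snd X X)) =
      lift μ[F.obj X] (snd (F.obj X) (F.obj X)) ≫ Functor.LaxMonoidal.μ F X X := by
    have h1 : (Functor.LaxMonoidal.μ F X X ≫ F.map (lift P (snd X X))) ≫ Functor.OplaxMonoidal.δ F X X =
        lift μ[F.obj X] (snd (F.obj X) (F.obj X)) := by
      rw [Category.assoc, lift_δ, comp_lift, μ_snd, ← h]
    have h2 := congrArg (fun f => f ≫ Functor.LaxMonoidal.μ F X X) h1
    simp only [Category.assoc, δ_μ, Category.comp_id] at h2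
    exact h2
  have : IsIso (lift μ[F.obj X] (snd (F.obj X) (F.obj X))) := isIso_shearR _
  have e : F.map (lift P (snd X X)) =
      Functor.OplaxMonoidal.δ F X X ≫ lift μ[F.obj X] (snd (F.obj X) (F.obj X)) ≫ Functor.LaxMonoidal.μ F X X := by
    rw [← key, ← Category.assoc, δ_μ, Category.id_comp]
  rw [e]
  infer_instance

end Functor

end Groth.Agent.Lib.Helper54.GrpOfShear
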