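import Mathlib
import Groth.Agent.Lib.Helper54.GrassClosedAlg

/-!
# The closed condition `T(N₁) ≤ N₂` on pairs of points of Grassmannians (helper54)
-/

set_option autoImplicit false
set_option linter.unusedSectionVars false
universe u v w

open Module TensorProduct
open Module.Grassmannian TensorProduct.AlgebraTensorModule
open Groth.Agent.Lib.Helper54.GrassClosedAlg

namespace Groth.Agent.Lib.Helper54.LinkAlg

variable {R : Type u} [CommRing R] {M : Type v} [AddCommGroup M] [Module R M]
  (T : M →ₗ[R] M)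

/-- `T` carries `K₁` into `K₂` after base change. -/
def Lk (C : Type w) [CommRing C] [Algebra R C] (K₁ K₂ : Submodule C (C ⊗[R] M)) : Prop :=
  ∀ y ∈ K₁, T.baseChange C y ∈ K₂

variable {A : Type w} [CommRing A] [Algebra R A]

/-- The ideal cutting out the linking condition. -/
def linkIdeal (N₁ N₂ : Submodule A (A ⊗[R] M)) : Ideal A :=
  Ideal.span {x | ∃ (l : ((A ⊗[R] M) ⧸ N₂) →ₗ[A] A) (z : A ⊗[R] M),
    z ∈ N₁ ∧ x = l (N₂.mkQ (T.baseChange A z))}

section

variable {C : Type w} [CommRing C] [Algebra R C]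
  [Algebra A C] [IsScalarTower R A C] (N₁ N₂ : Submodule A (A ⊗[R] M))

theorem baseChange_jmap' (z : A ⊗[R] M) :
    T.baseChange C (jmap (R := R) C z) = jmap (R := R) C (T.baseChange A z) := by
  induction z using TensorProduct.induction_on with
  | zero => simp
  | tmul a m => simp [LinearMap.baseChange_tmul]
  | add x y hx hy => rw [map_add, map_add, hx, hy, map_add, map_add]

theorem lk_ker_iff [Module.Projective A ((A ⊗[R] M) ⧸ N₁)] :
    Lk T C (LinearMap.ker (baseChangeMkQ C N₁)) (LinearMap.ker (baseChangeMkQ C N₂)) ↔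
      ∀ z ∈ N₁, (1 : C) ⊗ₜ[A] N₂.mkQ (T.baseChange A z) = 0 := by
  constructor
  · intro h z hz
    have h1 : jmap (R := R) C z ∈ LinearMap.ker (baseChangeMkQ C N₁) := by
      rw [ker_baseChangeMkQ]
      exact Submodule.subset_span ⟨z, hz, rfl⟩
    have h2 := h _ h1
    rwa [baseChange_jmap', LinearMap.mem_ker, baseChangeMkQ_jmap] at h2
  · intro h y hy
    rw [ker_baseChangeMkQ] at hy
    induction hy using Submodule.span_induction with
    | mem x hx =>
      obtain ⟨z, hz, rfl⟩ := hx
      rw [baseChange_jmap', LinearMap.mem_ker, baseChangeMkQ_jmap]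
      exact h z hz
    | zero => rw [map_zero]; exact Submodule.zero_mem _
    | add x y _ _ hx hy => rw [map_add]; exact Submodule.add_mem _ hx hy
    | smul c x _ hx => rw [map_smul]; exact Submodule.smul_mem _ _ hx

theorem lk_ker_iff_le [Module.Projective A ((A ⊗[R] M) ⧸ N₁)]
    [Module.Projective A ((A ⊗[R] M) ⧸ N₂)] :
    Lk T C (LinearMap.ker (baseChangeMkQ C N₁)) (LinearMap.ker (baseChangeMkQ C N₂)) ↔
      linkIdeal T N₁ N₂ ≤ RingHom.ker (algebraMap A C) := by
  rw [lk_ker_iff, linkIdeal, Ideal.span_le]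
  constructor
  · rintro h _ ⟨l, z, hz, rfl⟩
    rw [SetLike.mem_coe, RingHom.mem_ker]
    exact (one_tmul_eq_zero_iff _).mp (h z hz) l
  · intro h z hz
    rw [one_tmul_eq_zero_iff]
    intro l
    have := h ⟨l, z, hz, rfl⟩
    rwa [SetLike.mem_coe, RingHom.mem_ker] at this

end

theorem lk_map_iff {k₁ k₂ : ℕ} {C : Type w} [CommRing C] [Algebra R C]
    (N₁ : Grassmannian A (A ⊗[R] M) k₁) (N₂ : Grassmannian A (A ⊗[R] M) k₂) (φ : A →ₐ[R] C) :
    Lk T C (Grassmannian.map φ N₁).toSubmodule (Grassmannian.map φ N₂).toSubmodule ↔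
      linkIdeal T N₁.toSubmodule N₂.toSubmodule ≤ RingHom.ker φ := by
  letI : Algebra A C := φ.toAlgebra
  letI : IsScalarTower R A C :=
    IsScalarTower.of_algebraMap_eq' <| IsScalarTower.algebraMap_eq R A C
  rw [map_toSubmodule, map_toSubmodule]
  exact lk_ker_iff_le T N₁.toSubmodule N₂.toSubmodule

end Groth.Agent.Lib.Helper54.LinkAlg
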