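import Mathlib
import Groth.Agent.Lib.Helper54.GrassClosed

/-!
# Finite self-products of a proper scheme over `Spec R`, with their universal property (helper54)
-/

set_option autoImplicit false
set_option linter.unusedSectionVars false
set_option linter.style.haveILetI false
universe u

open AlgebraicGeometry CategoryTheory CategoryTheory.Limits

namespace Groth.Agent.Lib.Helper54.OverProd

variable {S : Scheme.{u}} {G : Over S}

theorem exists_prod (hG : IsProper G.hom) (m : ℕ) :
    ∃ (P : Over S) (p : Fin m → (P ⟶ G)), IsProper P.hom ∧
      ∀ (T : Over S) (t : Fin m → (T ⟶ G)),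
        ∃ h : T ⟶ P, (∀ i, h ≫ p i = t i) ∧ ∀ h' : T ⟶ P, (∀ i, h' ≫ p i = t i) → h' = h := by
  induction m with
  | zero =>
    refine ⟨Over.mk (𝟙 S), fun i => Fin.elim0 i, ?_, ?_⟩
    · change IsProper (𝟙 S)
      infer_instance
    · intro T t
      refine ⟨Over.homMk T.hom (Category.comp_id _), fun i => Fin.elim0 i, fun h' _ => ?_⟩
      apply Over.OverMorphism.ext
      have h1 : h'.left ≫ 𝟙 S = T.hom := Over.w h'
      exact (Category.comp_id h'.left).symm.trans h1
  | succ m ih =>
    obtain ⟨P, p, hP, hU⟩ := ih
    let P' : Over S := Over.mk (pullback.fst P.hom G.hom ≫ P.hom)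
    let π₁ : P' ⟶ P := Over.homMk (pullback.fst P.hom G.hom) rfl
    let π₂ : P' ⟶ G := Over.homMk (pullback.snd P.hom G.hom) pullback.condition.symm
    refine ⟨P', Fin.cons π₂ (fun i => π₁ ≫ p i), ?_, ?_⟩
    · change IsProper (pullback.fst P.hom G.hom ≫ P.hom)
      haveI : IsProper (pullback.fst P.hom G.hom) := MorphismProperty.pullback_fst _ _ hG
      haveI := hP
      infer_instance
    · intro T t
      obtain ⟨h₀, hh₀, hu₀⟩ := hU T (fun i => t i.succ)
      have hw : h₀.left ≫ P.hom = (t 0).left ≫ G.hom := by
        rw [Over.w h₀, Over.w (t 0)]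
      let h : T ⟶ P' := Over.homMk (pullback.lift h₀.left (t 0).left hw) (by
        change pullback.lift h₀.left (t 0).left hw ≫ pullback.fst P.hom G.hom ≫ P.hom = T.hom
        rw [pullback.lift_fst_assoc]
        exact Over.w h₀)
      have h1 : h ≫ π₁ = h₀ := by
        apply Over.OverMorphism.ext
        change pullback.lift h₀.left (t 0).left hw ≫ pullback.fst P.hom G.hom = _
        rw [pullback.lift_fst]
      have h2 : h ≫ π₂ = t 0 := by
        apply Over.OverMorphism.ext
        change pullback.lift h₀.left (t 0).left hw ≫ pullback.snd P.hom G.hom = _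
        rw [pullback.lift_snd]
      refine ⟨h, ?_, ?_⟩
      · intro i
        refine Fin.cases ?_ (fun j => ?_) i
        · rw [Fin.cons_zero]
          exact h2
        · rw [Fin.cons_succ, ← Category.assoc, h1]
          exact hh₀ j
      · intro h' hh'
        have e1 : h' ≫ π₁ = h₀ := by
          apply hu₀
          intro j
          have := hh' j.succ
          rw [Fin.cons_succ, ← Category.assoc] at this
          exact this
        have e2 : h' ≫ π₂ = t 0 := by
          have := hh' 0
          rw [Fin.cons_zero] at this
          exact this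
        apply Over.OverMorphism.ext
        apply pullback.hom_ext
        · have a1 := congrArg (fun q => q.left) e1
          have a2 := congrArg (fun q => q.left) h1
          exact a1.trans a2.symm
        · have a1 := congrArg (fun q => q.left) e2
          have a2 := congrArg (fun q => q.left) h2
          exact a1.trans a2.symm

end Groth.Agent.Lib.Helper54.OverProd
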