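import Mathlib
import Groth.Agent.Lib.Helper54.GrassChartAlg

/-!
# Minors of frames of points of the Grassmannian (Plücker coordinates) (helper54)
-/

set_option autoImplicit false
set_option linter.unusedSectionVars false
universe u w

open Module TensorProduct
open Groth.Agent.Lib.Helper54.GrassChartAlg

namespace Groth.Agent.Lib.Helper54.PluckerAlg

variable {R : Type u} [CommRing R] {n k : ℕ} {A : Type w} [CommRing A] [Algebra R A]

section Minor

variable (R A) in
/-- The standard basis vectors of `A ⊗ R^n`. -/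
noncomputable def eb (i : Fin n) : A ⊗[R] (Fin n → R) :=
  (1 : A) ⊗ₜ[R] (Pi.single i 1 : Fin n → R)

theorem bas_eq_eb {L : Type} [Fintype L] (σ : Fin k ⊕ L ≃ Fin n) (i : Fin k ⊕ L) :
    bas σ A i = eb R A (σ i) := bas_apply σ A i

/-- The matrix of the images of the basis vectors `w j`. -/
noncomputable def fmat (π : A ⊗[R] (Fin n → R) →ₗ[A] (Fin k → A)) (w : Fin k → Fin n) :
    Matrix (Fin k) (Fin k) A :=
  Matrix.of fun j j' => π (eb R A (w j')) j

/-- The minor of a frame. -/
noncomputable def minor (π : A ⊗[R] (Fin n → R) →ₗ[A] (Fin k → A)) (w : Fin k → Fin n) : A :=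
  (fmat π w).det

theorem fmat_mul (π π' : A ⊗[R] (Fin n → R) →ₗ[A] (Fin k → A)) (b : Fin k → A ⊗[R] (Fin n → R))
    (hb : ∀ j, π (b j) = Pi.single j 1) (hker : LinearMap.ker π ≤ LinearMap.ker π')
    (w : Fin k → Fin n) :
    fmat π' w = (Matrix.of fun j i => π' (b i) j) * fmat π w := by
  have key : ∀ x, π' x = ∑ i, π x i • π' (b i) := by
    intro x
    have h1 : x - ∑ i, π x i • b i ∈ LinearMap.ker π := by
      rw [LinearMap.mem_ker, map_sub, map_sum]
      simp only [map_smul, hb]
      rw [sub_eq_zero]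
      funext j
      simp [Finset.sum_apply, Pi.single_apply]
    have h2 := hker h1
    rw [LinearMap.mem_ker, map_sub, map_sum, sub_eq_zero] at h2
    simp only [map_smul] at h2
    exact h2
  ext j j'
  rw [Matrix.mul_apply]
  change π' (eb R A (w j')) j = ∑ i, π' (b i) j * π (eb R A (w j')) i
  rw [key (eb R A (w j'))]
  simp [Finset.sum_apply, mul_comm]

theorem minor_mul (π π' : A ⊗[R] (Fin n → R) →ₗ[A] (Fin k → A)) (b : Fin k → A ⊗[R] (Fin n → R))
    (hb : ∀ j, π (b j) = Pi.single j 1) (hker : LinearMap.ker π ≤ LinearMap.ker π')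
    (w : Fin k → Fin n) :
    minor π' w = (Matrix.of fun j i => π' (b i) j).det * minor π w := by
  rw [minor, fmat_mul π π' b hb hker w, Matrix.det_mul]
  rfl

theorem minor_perm (w w' : Fin k → Fin n) (hw : Function.Injective w)
    (hw' : Function.Injective w') (h : Set.range w = Set.range w') :
    ∃ ε : A, IsUnit ε ∧ ∀ π : A ⊗[R] (Fin n → R) →ₗ[A] (Fin k → A),
      minor π w' = ε * minor π w := by
  let ρ : Fin k ≃ Fin k :=
    ((Equiv.ofInjective w' hw').trans (Equiv.setCongr h.symm)).trans (Equiv.ofInjective w hw).symm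
  have hρ : ∀ j, w (ρ j) = w' j := by
    intro j
    exact Equiv.apply_ofInjective_symm hw _
  refine ⟨((Equiv.Perm.sign ρ : ℤˣ) : ℤ), ?_, fun π => ?_⟩
  · have : IsUnit ((Equiv.Perm.sign ρ : ℤˣ) : ℤ) := Units.isUnit _
    exact this.map (Int.castRingHom A)
  · have h1 : fmat π w' = (fmat π w).submatrix id ρ := by
      ext j j'
      change π (eb R A (w' j')) j = π (eb R A (w (ρ j'))) j
      rw [hρ]
    rw [minor, h1, Matrix.det_permute', minor]

theorem minor_perm_int (w w' : Fin k → Fin n) (hw : Function.Injective w)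
    (hw' : Function.Injective w') (h : Set.range w = Set.range w') :
    ∃ s : ℤˣ, ∀ π : A ⊗[R] (Fin n → R) →ₗ[A] (Fin k → A),
      minor π w' = (((s : ℤˣ) : ℤ) : A) * minor π w := by
  let ρ : Fin k ≃ Fin k :=
    ((Equiv.ofInjective w' hw').trans (Equiv.setCongr h.symm)).trans (Equiv.ofInjective w hw).symm
  have hρ : ∀ j, w (ρ j) = w' j := by
    intro j
    exact Equiv.apply_ofInjective_symm hw _
  refine ⟨Equiv.Perm.sign ρ, fun π => ?_⟩
  have h1 : fmat π w' = (fmat π w).submatrix id ρ := by
    ext j j'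
    change π (eb R A (w' j')) j = π (eb R A (w (ρ j'))) j
    rw [hρ]
  rw [minor, h1, Matrix.det_permute', minor]

end Minor

section Chart

variable {L : Type} [Fintype L] (σ : Fin k ⊕ L ≃ Fin n)

theorem fmat_self (a : Fin k → L → A) :
    fmat (piMap (R := R) σ a) (fun j => σ (Sum.inl j)) = 1 := by
  ext j j'
  change piMap (R := R) σ a (eb R A (σ (Sum.inl j'))) j = _
  rw [← bas_eq_eb, piMap_inl, Matrix.one_apply, Pi.single_apply]

theorem minor_self (a : Fin k → L → A) :
    minor (piMap (R := R) σ a) (fun j => σ (Sum.inl j)) = 1 := by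
  rw [minor, fmat_self, Matrix.det_one]

theorem minor_update (a : Fin k → L → A) (j : Fin k) (l : L) :
    minor (piMap (R := R) σ a) (Function.update (fun j => σ (Sum.inl j)) j (σ (Sum.inr l))) =
      a j l := by
  have h1 : fmat (piMap (R := R) σ a)
      (Function.update (fun j => σ (Sum.inl j)) j (σ (Sum.inr l))) =
      (1 : Matrix (Fin k) (Fin k) A).updateCol j (fun i => a i l) := by
    ext i i'
    change piMap (R := R) σ a (eb R A (Function.update (fun j => σ (Sum.inl j)) j
      (σ (Sum.inr l)) i')) i = _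
    rw [Matrix.updateCol_apply]
    by_cases hi : i' = j
    · subst hi
      rw [Function.update_self, if_pos rfl, ← bas_eq_eb, piMap_inr]
    · rw [Function.update_of_ne hi, if_neg hi, ← bas_eq_eb, piMap_inl, Matrix.one_apply,
        Pi.single_apply]
  rw [minor, h1, ← Matrix.cramer_apply, Matrix.cramer_one]
  rfl

variable {L' : Type} [Fintype L'] (τ : Fin k ⊕ L' ≃ Fin n)

theorem exists_unit_minor_eq (a : Fin k → L → A) (a' : Fin k → L' → A)
    (h : Na (R := R) σ a = Na (R := R) τ a') :
    ∃ l : A, IsUnit l ∧ ∀ w : Fin k → Fin n,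
      minor (piMap (R := R) τ a') w = l * minor (piMap (R := R) σ a) w := by
  have hk : LinearMap.ker (piMap (R := R) σ a) = LinearMap.ker (piMap (R := R) τ a') := by
    have := congrArg Module.Grassmannian.toSubmodule h
    rwa [Na_toSubmodule, Na_toSubmodule] at this
  let G : Matrix (Fin k) (Fin k) A :=
    Matrix.of fun j i => piMap (R := R) τ a' (bas σ A (Sum.inl i)) j
  let G' : Matrix (Fin k) (Fin k) A :=
    Matrix.of fun j i => piMap (R := R) σ a (bas τ A (Sum.inl i)) j
  have h1 : ∀ w, minor (piMap (R := R) τ a') w = G.det * minor (piMap (R := R) σ a) w :=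
    fun w => minor_mul _ _ (fun j => bas σ A (Sum.inl j)) (fun j => piMap_inl σ a j) hk.le w
  have h2 : ∀ w, minor (piMap (R := R) σ a) w = G'.det * minor (piMap (R := R) τ a') w :=
    fun w => minor_mul _ _ (fun j => bas τ A (Sum.inl j)) (fun j => piMap_inl τ a' j) hk.ge w
  refine ⟨G.det, ?_, h1⟩
  have h3 := h2 (fun j => σ (Sum.inl j))
  rw [minor_self, h1, minor_self, mul_one] at h3
  exact isUnit_iff_exists_inv'.mpr ⟨G'.det, h3.symm⟩

theorem pchart_of_isUnit_minor (a' : Fin k → L' → A)
    (h : IsUnit (minor (piMap (R := R) τ a') (fun j => σ (Sum.inl j)))) :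
    PChart σ A (Na (R := R) τ a').toSubmodule := by
  set M := fmat (piMap (R := R) τ a') (fun j => σ (Sum.inl j)) with hM
  have hMu : IsUnit M := (Matrix.isUnit_iff_isUnit_det M).mpr h
  obtain ⟨Mi, hMi⟩ := hMu.exists_right_inv
  intro q
  obtain ⟨z, rfl⟩ := Submodule.mkQ_surjective _ q
  let f : Fin k → A := Mi.mulVec (piMap (R := R) τ a' z)
  refine ⟨f, ?_⟩
  rw [uMap_apply, Submodule.mkQ_apply, Submodule.mkQ_apply, Submodule.Quotient.eq,
    Na_toSubmodule, LinearMap.mem_ker, map_sub, map_sum, sub_eq_zero]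
  simp only [map_smul]
  have h1 : ∀ j, piMap (R := R) τ a' (bas σ A (Sum.inl j)) = fun i => M i j := by
    intro j
    funext i
    rw [bas_eq_eb]
    rfl
  have h2 : (∑ j, f j • piMap (R := R) τ a' (bas σ A (Sum.inl j))) = M.mulVec f := by
    funext i
    simp only [h1, Finset.sum_apply, Pi.smul_apply, smul_eq_mul, Matrix.mulVec, dotProduct,
      mul_comm]
  rw [h2, Matrix.mulVec_mulVec, hMi, Matrix.one_mulVec]

theorem minor_map {C : Type w} [CommRing C] [Algebra R C] (φ : A →ₐ[R] C) (a : Fin k → L → A)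
    (w : Fin k → Fin n) :
    minor (piMap (R := R) σ (fun j l => φ (a j l))) w = φ (minor (piMap (R := R) σ a) w) := by
  have h1 : fmat (piMap (R := R) σ (fun j l => φ (a j l))) w =
      (φ : A →+* C).mapMatrix (fmat (piMap (R := R) σ a) w) := by
    ext i i'
    change piMap (R := R) σ (fun j l => φ (a j l)) (eb R C (w i')) i =
      φ (piMap (R := R) σ a (eb R A (w i')) i)
    obtain ⟨x, hx⟩ := σ.surjective (w i')
    rw [← hx, ← bas_eq_eb, ← bas_eq_eb]
    rcases x with j | l
    · rw [piMap_inl, piMap_inl, Pi.single_apply, Pi.single_apply]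
      split_ifs
      · exact (map_one φ).symm
      · exact (map_zero φ).symm
    · rw [piMap_inr, piMap_inr]
  rw [minor, h1, minor]
  exact (RingHom.map_det (φ : A →+* C) _).symm

end Chart

end Groth.Agent.Lib.Helper54.PluckerAlg
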