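import Mathlib

/-!
# Points of `Proj` from ring maps inverting a homogeneous element (helper54)

For a graded ring `A`, a ring map `f : A → B` and a homogeneous `t` with `f t` a unit, we get
`ev : A_(t) → B` and the point `Spec B → Spec A_(t) → Proj A`.
-/

set_option autoImplicit false
set_option linter.unusedSectionVars false
universe u

open AlgebraicGeometry CategoryTheory HomogeneousLocalization

namespace Groth.Agent.Lib.Helper54.PluckerEv

variable {σ A : Type u} [CommRing A] [SetLike σ A] [AddSubgroupClass σ A] (𝒜 : ℕ → σ)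
  [GradedRing 𝒜] {B : Type u} [CommRing B]

section Ev

variable (f : A →+* B) {t : A} {d : ℕ} (ht : t ∈ 𝒜 d) (hu : IsUnit (f t))

/-- Evaluation `a / t^n ↦ f a / (f t)^n`. -/
noncomputable def ev : Away 𝒜 t →+* B :=
  (IsLocalization.Away.lift (S := Localization.Away t) t hu).comp
    (algebraMap (Away 𝒜 t) (Localization.Away t))

include ht in
theorem ev_mk_mul (n : ℕ) (a : A) (ha : a ∈ 𝒜 (n • d)) :
    ev 𝒜 f hu (Away.mk 𝒜 ht n a ha) * (f t) ^ n = f a := by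
  have h1 : (Away.mk 𝒜 ht n a ha).val * algebraMap A (Localization.Away t) (t ^ n) =
      algebraMap A (Localization.Away t) a := by
    rw [Away.val_mk, Localization.mk_eq_mk']
    exact IsLocalization.mk'_spec _ _ _
  have h2 := congrArg (IsLocalization.Away.lift (S := Localization.Away t) t hu) h1
  rw [map_mul, IsLocalization.Away.lift_eq, IsLocalization.Away.lift_eq, map_pow] at h2
  exact h2

include ht in
theorem ev_mk_eq (n : ℕ) (a : A) (ha : a ∈ 𝒜 (n • d)) (b : B) (hb : b * (f t) ^ n = f a) :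
    ev 𝒜 f hu (Away.mk 𝒜 ht n a ha) = b := by
  have h := ev_mk_mul 𝒜 f ht hu n a ha
  exact (hu.pow n).mul_left_injective (h.trans hb.symm)

include ht in
theorem ev_ext (g : Away 𝒜 t →+* B)
    (h : ∀ (n : ℕ) (a : A) (ha : a ∈ 𝒜 (n • d)), g (Away.mk 𝒜 ht n a ha) * (f t) ^ n = f a) :
    g = ev 𝒜 f hu := by
  ext z
  obtain ⟨n, a, ha, rfl⟩ := Away.mk_surjective 𝒜 ht z
  exact (ev_mk_eq 𝒜 f ht hu n a ha _ (h n a ha)).symm

include ht in
/-- functoriality in `B` -/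
theorem ev_comp {B' : Type u} [CommRing B'] (φ : B →+* B') :
    φ.comp (ev 𝒜 f hu) = ev 𝒜 (φ.comp f) (t := t) (hu.map φ) := by
  apply ev_ext 𝒜 (φ.comp f) ht
  intro n a ha
  change φ (ev 𝒜 f hu (Away.mk 𝒜 ht n a ha)) * (φ (f t)) ^ n = φ (f a)
  rw [← map_pow, ← map_mul, ev_mk_mul 𝒜 f ht hu]

include ht in
/-- invariance under rescaling -/
theorem ev_scale (f' : A →+* B) (l : B) (hl : IsUnit l)
    (hf' : ∀ (i : ℕ) (a : A), a ∈ 𝒜 i → f' a = l ^ i * f a) (hu' : IsUnit (f' t)) :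
    ev 𝒜 f' hu' = ev 𝒜 f hu := by
  apply ev_ext 𝒜 f ht
  intro n a ha
  have h1 := ev_mk_mul 𝒜 f' ht hu' n a ha
  rw [hf' _ a ha, hf' _ t ht, mul_pow, ← pow_mul, ← mul_assoc,
    mul_comm _ (l ^ (d * n)), mul_assoc] at h1
  have h2 : n • d = d * n := by rw [smul_eq_mul, mul_comm]
  rw [h2] at h1
  exact (hl.pow (d * n)).mul_left_cancel h1

include ht in
/-- compatibility with `awayMap` -/
theorem ev_awayMap {e : ℕ} {g x : A} (hg : g ∈ 𝒜 e) (hx : x = t * g) (hux : IsUnit (f x)) :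
    (ev 𝒜 f hux).comp (awayMap 𝒜 hg hx) = ev 𝒜 f hu := by
  apply ev_ext 𝒜 f ht
  intro n a ha
  change ev 𝒜 f hux (awayMap 𝒜 hg hx (Away.mk 𝒜 ht n a ha)) * (f t) ^ n = f a
  rw [awayMap_mk]
  have hug : IsUnit (f g) := by
    have hux' := hux
    rw [hx, map_mul] at hux'
    exact isUnit_of_mul_isUnit_right hux'
  have h1 := ev_mk_mul 𝒜 f (hx ▸ SetLike.mul_mem_graded ht hg) hux n (a * g ^ n)
    (by rw [smul_add]; exact SetLike.mul_mem_graded ha (SetLike.pow_mem_graded n hg))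
  have hfx : f x = f t * f g := by rw [hx, map_mul]
  have h2 : ev 𝒜 f hux (Away.mk 𝒜 (hx ▸ SetLike.mul_mem_graded ht hg) n (a * g ^ n)
      (by rw [smul_add]; exact SetLike.mul_mem_graded ha (SetLike.pow_mem_graded n hg))) *
      (f t) ^ n * (f g) ^ n = f a * (f g) ^ n := by
    rw [mul_assoc, ← mul_pow, ← hfx, h1, map_mul, map_pow]
  exact (hug.pow n).mul_left_injective h2

theorem ev_fromZero (a : 𝒜 0) : ev 𝒜 f hu (fromZeroRingHom 𝒜 _ a) = f a := by
  change IsLocalization.Away.lift (S := Localization.Away t) t hu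
    ((fromZeroRingHom 𝒜 (Submonoid.powers t) a).val) = f a
  have : (fromZeroRingHom 𝒜 (Submonoid.powers t) a).val =
      algebraMap A (Localization.Away t) a := by
    change Localization.mk _ _ = _
    rw [Localization.mk_eq_mk']
    exact IsLocalization.mk'_one _ _
  rw [this, IsLocalization.Away.lift_eq]

end Ev

section Pt

variable (f : A →+* B) {t : A} {d : ℕ} (ht : t ∈ 𝒜 d) (hd : 0 < d) (hu : IsUnit (f t))

/-- The point `Spec B ⟶ Proj 𝒜` attached to `f` and a homogeneous `t` with `f t` a unit. -/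
noncomputable def pt : Spec (CommRingCat.of B) ⟶ Proj 𝒜 :=
  Spec.map (CommRingCat.ofHom (ev 𝒜 f hu)) ≫ Proj.awayι 𝒜 t ht hd

theorem pt_comp {B' : Type u} [CommRing B'] (φ : B →+* B') :
    Spec.map (CommRingCat.ofHom φ) ≫ pt 𝒜 f ht hd hu =
      pt 𝒜 (φ.comp f) ht hd (hu.map φ) := by
  rw [pt, pt, ← Category.assoc, ← Spec.map_comp, ← CommRingCat.ofHom_comp, ev_comp 𝒜 f ht hu φ]

theorem pt_scale (f' : A →+* B) (l : B) (hl : IsUnit l)
    (hf' : ∀ (i : ℕ) (a : A), a ∈ 𝒜 i → f' a = l ^ i * f a) (hu' : IsUnit (f' t)) :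
    pt 𝒜 f' ht hd hu' = pt 𝒜 f ht hd hu := by
  rw [pt, pt, ev_scale 𝒜 f ht hu f' l hl hf' hu']

theorem pt_indep {t' : A} {d' : ℕ} (ht' : t' ∈ 𝒜 d') (hd' : 0 < d') (hu' : IsUnit (f t')) :
    pt 𝒜 f ht hd hu = pt 𝒜 f ht' hd' hu' := by
  have hux : IsUnit (f (t * t')) := by
    rw [map_mul]
    exact hu.mul hu'
  have key : ∀ (m m' : ℕ) (_ : m = m') (hm : t * t' ∈ 𝒜 m) (hm' : t * t' ∈ 𝒜 m') (p : 0 < m)
      (p' : 0 < m'), Proj.awayι 𝒜 (t * t') hm p = Proj.awayι 𝒜 (t * t') hm' p' := by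
    intro m m' h hm hm' p p'
    subst h
    rfl
  have h1 : pt 𝒜 f ht hd hu = Spec.map (CommRingCat.ofHom (ev 𝒜 f hux)) ≫
      Proj.awayι 𝒜 (t * t') (SetLike.mul_mem_graded ht ht') (hd.trans_le (d.le_add_right d')) := by
    rw [pt, ← ev_awayMap 𝒜 f ht hu ht' rfl hux, CommRingCat.ofHom_comp, Spec.map_comp,
      Category.assoc, Proj.SpecMap_awayMap_awayι]
  have h2 : pt 𝒜 f ht' hd' hu' = Spec.map (CommRingCat.ofHom (ev 𝒜 f hux)) ≫
      Proj.awayι 𝒜 (t * t') (SetLike.mul_mem_graded ht ht') (hd.trans_le (d.le_add_right d')) := by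
    rw [pt, ← ev_awayMap 𝒜 f ht' hu' ht (mul_comm t t') hux, CommRingCat.ofHom_comp, Spec.map_comp,
      Category.assoc, Proj.SpecMap_awayMap_awayι]
    exact congrArg (Spec.map (CommRingCat.ofHom (ev 𝒜 f hux)) ≫ ·)
      (key _ _ (add_comm _ _) _ _ _ _)
  rw [h1, h2]

theorem basicOpen_eq_top_of_isUnit {r : B} (hr : IsUnit r) :
    PrimeSpectrum.basicOpen r = ⊤ := by
  obtain ⟨u, hu⟩ := hr.exists_right_inv
  have h1 : PrimeSpectrum.basicOpen r ⊓ PrimeSpectrum.basicOpen u = ⊤ := by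
    rw [← PrimeSpectrum.basicOpen_mul, hu, PrimeSpectrum.basicOpen_one]
  exact top_unique (h1 ▸ inf_le_left)

theorem pt_toSpecZero :
    pt 𝒜 f ht hd hu ≫ Proj.toSpecZero 𝒜 =
      Spec.map (CommRingCat.ofHom (f.comp (algebraMap (𝒜 0) A))) := by
  rw [pt, Category.assoc, Proj.awayι_toSpecZero, ← Spec.map_comp, ← CommRingCat.ofHom_comp]
  congr 2
  ext a
  exact ev_fromZero 𝒜 f hu a

theorem pt_preimage_basicOpen {s : A} {e : ℕ} (hs : s ∈ 𝒜 e) (he : 0 < e) :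
    pt 𝒜 f ht hd hu ⁻¹ᵁ Proj.basicOpen 𝒜 s = PrimeSpectrum.basicOpen (f s) := by
  rw [pt, Scheme.Hom.comp_preimage, Proj.awayι_preimage_basicOpen 𝒜 ht hd hs he]
  have h1 := SpecMap_preimage_basicOpen (CommRingCat.ofHom (ev 𝒜 f hu))
    (Away.isLocalizationElem ht hs)
  refine h1.trans ?_
  have h2 : ev 𝒜 f hu (Away.isLocalizationElem ht hs) * (f t) ^ e = (f s) ^ d := by
    rw [Away.isLocalizationElem, ev_mk_mul 𝒜 f ht hu, map_pow]
  have h3 : PrimeSpectrum.basicOpen (ev 𝒜 f hu (Away.isLocalizationElem ht hs) * (f t) ^ e) =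
      PrimeSpectrum.basicOpen (ev 𝒜 f hu (Away.isLocalizationElem ht hs)) := by
    rw [PrimeSpectrum.basicOpen_mul]
    have : PrimeSpectrum.basicOpen ((f t) ^ e) = ⊤ :=
      basicOpen_eq_top_of_isUnit (hu.pow e)
    rw [this, inf_top_eq]
  change PrimeSpectrum.basicOpen (ev 𝒜 f hu (Away.isLocalizationElem ht hs)) = _
  rw [← h3, h2, PrimeSpectrum.basicOpen_pow _ _ hd]

end Pt

end Groth.Agent.Lib.Helper54.PluckerEv
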