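import Mathlib
import Groth.Prelude.Def_CohB1
import Groth.Agent.Lib.Helper54.PluckerEv
import Groth.Agent.Lib.Helper54.GrassFun

/-!
# Points of projective space over `Spec R` from coordinate vectors (helper54)
-/

set_option autoImplicit false
set_option linter.unusedSectionVars false
set_option linter.style.haveILetI false
universe u

open AlgebraicGeometry CategoryTheory HomogeneousLocalization
open Groth.Agent.Lib.Helper54.GrassClosed Groth.Agent.Lib.Helper54.GrassSurj
open Groth.Agent.Lib.Helper54.PluckerEv Groth.Agent.Lib.Helper54.GrassFun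

namespace Groth.Agent.Lib.Helper54.PluckerPt

variable {R : Type u} [CommRing R] (N : ℕ)

theorem aeval_scale {ι : Type*} [Fintype ι] {B : Type*} [CommRing B] [Algebra R B] (p : ι → B)
    (l : B) (φ : MvPolynomial ι R) (i : ℕ) (hφ : φ.IsHomogeneous i) :
    MvPolynomial.aeval (fun J => l * p J) φ = l ^ i * MvPolynomial.aeval p φ := by
  rw [MvPolynomial.aeval_def, MvPolynomial.aeval_def, MvPolynomial.eval₂_eq',
    MvPolynomial.eval₂_eq', Finset.mul_sum]
  apply Finset.sum_congr rfl
  intro d hd
  have hdeg : ∑ J, d J = i := by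
    have h1 := hφ (MvPolynomial.mem_support_iff.mp hd)
    rw [← Finsupp.degree_eq_sum, Finsupp.degree_eq_weight_one]
    exact h1
  simp only [mul_pow, Finset.prod_mul_distrib, Finset.prod_pow_eq_pow_sum, hdeg]
  ring

variable (R) in
/-- Projective space as an object over `Spec R`. -/
noncomputable abbrev PR : Over (Spec (CommRingCat.of R)) := Over.mk (CohB1.ProjSpace.toSpec N R)

section Pt

variable {N} {B : CommAlgCat.{u} R} (p : Fin (N + 1) → B)

/-- The ring map attached to a coordinate vector. -/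
noncomputable def fOf : MvPolynomial (Fin (N + 1)) R →+* B :=
  (MvPolynomial.aeval p : MvPolynomial (Fin (N + 1)) R →ₐ[R] B).toRingHom

theorem fOf_X (I : Fin (N + 1)) : fOf p (MvPolynomial.X I) = p I := by
  change MvPolynomial.aeval p (MvPolynomial.X I) = p I
  rw [MvPolynomial.aeval_X]

theorem X_mem (I : Fin (N + 1)) :
    (MvPolynomial.X I : MvPolynomial (Fin (N + 1)) R) ∈ CohB1.polyGrading N R 1 :=
  MvPolynomial.isHomogeneous_X R I

/-- The point of projective space with coordinates `p`, where `p I` is a unit. -/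
noncomputable def ptO (I : Fin (N + 1)) (hu : IsUnit (p I)) : SA B ⟶ PR R N :=
  Over.homMk (pt (CohB1.polyGrading N R) (fOf p) (X_mem I) one_pos
    (by rw [fOf_X]; exact hu)) (by
    change pt (CohB1.polyGrading N R) (fOf p) (X_mem I) one_pos _ ≫
      (Proj.toSpecZero (CohB1.polyGrading N R) ≫
        Spec.map (CommRingCat.ofHom (algebraMap R (CohB1.polyGrading N R 0)))) =
      Spec.map (CommRingCat.ofHom (algebraMap R B))
    rw [← Category.assoc, pt_toSpecZero, ← Spec.map_comp, ← CommRingCat.ofHom_comp]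
    congr 2
    ext r
    change MvPolynomial.aeval p (algebraMap R (MvPolynomial (Fin (N + 1)) R) r) = _
    rw [AlgHom.commutes])

theorem ptO_left (I : Fin (N + 1)) (hu : IsUnit (p I)) :
    (ptO p I hu).left = pt (CohB1.polyGrading N R) (fOf p) (X_mem I) one_pos
      (by rw [fOf_X]; exact hu) := rfl

theorem ptO_pull {B' : CommAlgCat.{u} R} (ψ : B ⟶ B') (I : Fin (N + 1)) (hu : IsUnit (p I))
    (p' : Fin (N + 1) → B') (hp' : ∀ J, p' J = ψ.hom (p J)) (hu' : IsUnit (p' I)) :
    pullPt ψ (ptO p I hu) = ptO p' I hu' := by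
  apply Over.OverMorphism.ext
  rw [pullPt_left, ptO_left, ptO_left]
  have h1 := pt_comp (CohB1.polyGrading N R) (fOf p) (X_mem I) one_pos
    (by rw [fOf_X]; exact hu) ψ.hom.toRingHom
  refine h1.trans ?_
  have h2 : ψ.hom.toRingHom.comp (fOf p) = fOf p' := by
    have : (ψ.hom.comp (MvPolynomial.aeval p) : MvPolynomial (Fin (N + 1)) R →ₐ[R] B') =
        MvPolynomial.aeval p' := by
      apply MvPolynomial.algHom_ext
      intro J
      rw [AlgHom.comp_apply, MvPolynomial.aeval_X, MvPolynomial.aeval_X, hp']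
    exact congrArg AlgHom.toRingHom this
  congr 1

theorem ptO_scale (I : Fin (N + 1)) (hu : IsUnit (p I)) (l : B) (hl : IsUnit l)
    (p' : Fin (N + 1) → B) (hp' : ∀ J, p' J = l * p J) (hu' : IsUnit (p' I)) :
    ptO p' I hu' = ptO p I hu := by
  apply Over.OverMorphism.ext
  rw [ptO_left, ptO_left]
  apply pt_scale (CohB1.polyGrading N R) (fOf p) (X_mem I) one_pos _ (fOf p') l hl
  intro i a ha
  have hp'' : p' = fun J => l * p J := funext hp'
  change MvPolynomial.aeval p' a = l ^ i * MvPolynomial.aeval p a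
  rw [hp'']
  exact aeval_scale p l a i ((MvPolynomial.mem_homogeneousSubmodule i a).mp ha)

theorem ptO_indep (I I' : Fin (N + 1)) (hu : IsUnit (p I)) (hu' : IsUnit (p I')) :
    ptO p I hu = ptO p I' hu' := by
  apply Over.OverMorphism.ext
  rw [ptO_left, ptO_left]
  exact pt_indep (CohB1.polyGrading N R) (fOf p) (X_mem I) one_pos _ (X_mem I') one_pos _

theorem ptO_preimage (I : Fin (N + 1)) (hu : IsUnit (p I)) (J : Fin (N + 1)) :
    (ptO p I hu).left ⁻¹ᵁ Proj.basicOpen (CohB1.polyGrading N R) (MvPolynomial.X J) =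
      PrimeSpectrum.basicOpen (p J) := by
  have h := pt_preimage_basicOpen (CohB1.polyGrading N R) (fOf p) (X_mem I) one_pos
    (by rw [fOf_X]; exact hu) (X_mem J) one_pos
  exact h.trans (congrArg PrimeSpectrum.basicOpen (fOf_X p J))

end Pt

end Groth.Agent.Lib.Helper54.PluckerPt
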