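import Mathlib
import Groth.Prelude.Def_CohB1
import Groth.Agent.Lib.Helper54.PluckerPt
import Groth.Agent.Lib.Helper54.PluckerAlg
import Groth.Agent.Lib.Helper54.GrassChart
import Groth.Agent.Lib.Helper93.ProjOverIso

/-!
# The Plücker embedding of a scheme representing the Grassmannian of `R^n` (helper54)
-/

set_option autoImplicit false
set_option linter.unusedSectionVars false
set_option linter.style.haveILetI false
universe u

open AlgebraicGeometry CategoryTheory Module TensorProduct Opposite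
open Groth.Agent.Lib.Helper54.GrassClosedAlg Groth.Agent.Lib.Helper54.GrassClosed
open Groth.Agent.Lib.Helper54.AffPts Groth.Agent.Lib.Helper54.GrassSurj
open Groth.Agent.Lib.Helper54.GrassOpen Groth.Agent.Lib.Helper54.GrassChartAlg
open Groth.Agent.Lib.Helper54.GrassChart Groth.Agent.Lib.Helper54.GrassFun
open Groth.Agent.Lib.Helper54.PluckerEv Groth.Agent.Lib.Helper54.PluckerPt
open Groth.Agent.Lib.Helper54.PluckerAlg

namespace Groth.Agent.Lib.Helper54.PluckerGeom

variable {R : Type u} [CommRing R] {n k : ℕ}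

section Index

/-- Projective space of dimension `NN n k` receives the Plücker embedding. -/
abbrev NN (n k : ℕ) : ℕ := n.choose k - 1

theorem NN_succ (hkn : k ≤ n) : NN n k + 1 = n.choose k :=
  Nat.sub_add_cancel (Nat.choose_pos hkn)

/-- Enumeration of the `k`-subsets of `Fin n`. -/
noncomputable def subEquiv (hkn : k ≤ n) :
    Fin (NN n k + 1) ≃ {S : Finset (Fin n) // S.card = k} :=
  (finCongr (NN_succ hkn)).trans (Fintype.equivFinOfCardEq (by
    rw [Fintype.card_finset_len, Fintype.card_fin])).symm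

/-- The increasing enumeration of the `I`-th subset. -/
noncomputable def wI (hkn : k ≤ n) (I : Fin (NN n k + 1)) : Fin k → Fin n :=
  fun j => (subEquiv hkn I).1.orderEmbOfFin (subEquiv hkn I).2 j

theorem wI_injective (hkn : k ≤ n) (I : Fin (NN n k + 1)) : Function.Injective (wI hkn I) :=
  ((subEquiv hkn I).1.orderEmbOfFin (subEquiv hkn I).2).injective

theorem range_wI (hkn : k ≤ n) (I : Fin (NN n k + 1)) :
    Set.range (wI hkn I) = ↑(subEquiv hkn I).1 :=
  Finset.range_orderEmbOfFin _ _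

theorem exists_index (hkn : k ≤ n) (w : Fin k → Fin n) (hw : Function.Injective w) :
    ∃ I, Set.range (wI hkn I) = Set.range w := by
  classical
  let S : Finset (Fin n) := Finset.univ.image w
  have hS : S.card = k := by
    rw [Finset.card_image_of_injective _ hw, Finset.card_univ, Fintype.card_fin]
  refine ⟨(subEquiv hkn).symm ⟨S, hS⟩, ?_⟩
  rw [range_wI, Equiv.apply_symm_apply]
  simp [S]

/-- The Plücker vector of a frame. -/
noncomputable def pl (hkn : k ≤ n) {A : Type u} [CommRing A] [Algebra R A]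
    (π : A ⊗[R] (Fin n → R) →ₗ[A] (Fin k → A)) : Fin (NN n k + 1) → A :=
  fun I => minor π (wI hkn I)

theorem inl_injective (σ : Fin k ⊕ Fin (n - k) ≃ Fin n) :
    Function.Injective (fun j : Fin k => σ (Sum.inl j)) :=
  fun _ _ h => Sum.inl_injective (σ.injective h)

/-- The index of the chart `σ`. -/
noncomputable def Iσ (hkn : k ≤ n) (σ : Fin k ⊕ Fin (n - k) ≃ Fin n) : Fin (NN n k + 1) :=
  (exists_index hkn _ (inl_injective σ)).choose

theorem range_wI_Iσ (hkn : k ≤ n) (σ : Fin k ⊕ Fin (n - k) ≃ Fin n) :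
    Set.range (wI hkn (Iσ hkn σ)) = Set.range (fun j : Fin k => σ (Sum.inl j)) :=
  (exists_index hkn _ (inl_injective σ)).choose_spec

theorem isUnit_intCast_units {A : Type*} [CommRing A] (s : ℤˣ) : IsUnit (((s : ℤ) : A)) :=
  (Units.isUnit s).map (Int.castRingHom A)

/-- If the subset of `I` is the subset of the chart `σ`, the `I`-th Plücker coordinate of a point
of the chart is a unit. -/
theorem isUnit_pl (hkn : k ≤ n) (σ : Fin k ⊕ Fin (n - k) ≃ Fin n) (I : Fin (NN n k + 1))
    (hI : Set.range (wI hkn I) = Set.range (fun j : Fin k => σ (Sum.inl j)))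
    {A : Type u} [CommRing A] [Algebra R A] (a : Fin k → Fin (n - k) → A) :
    IsUnit (pl hkn (piMap (R := R) σ a) I) := by
  obtain ⟨s, hs⟩ := minor_perm_int (R := R) (A := A) _ _ (inl_injective σ) (wI_injective hkn I)
    hI.symm
  change IsUnit (minor (piMap (R := R) σ a) (wI hkn I))
  rw [hs, minor_self, mul_one]
  exact isUnit_intCast_units s

end Index

section Charts

variable {X : Over (Spec (CommRingCat.of R))}
  (e : ∀ A : CommAlgCat.{u} R,
    (SA A ⟶ X) ≃ (Module.Grassmannian.functor (R := R) (M := Fin n → R) k).obj A)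
  (he : ∀ (A B : CommAlgCat.{u} R) (φ : A ⟶ B) (g : SA A ⟶ X) (g' : SA B ⟶ X),
    g'.left = Spec.map (CommRingCat.ofHom φ.hom.toRingHom) ≫ g.left →
    e B g' = (Module.Grassmannian.functor (R := R) (M := Fin n → R) k).map φ (e A g))

/-- The universal point of the chart `σ`. -/
noncomputable def uPt (σ : Fin k ⊕ Fin (n - k) ≃ Fin n) : SA (Pol R n k) ⟶ X :=
  (e (Pol R n k)).symm (Na (R := R) σ (aUniv R n k))

include he in
theorem e_pull_uPt (σ : Fin k ⊕ Fin (n - k) ≃ Fin n) {B : CommAlgCat.{u} R}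
    (ψ : Pol R n k ⟶ B) :
    e B (pullPt ψ (uPt e σ)) = Na (R := R) σ (fun j l => ψ.hom (aUniv R n k j l)) := by
  rw [he _ _ ψ (uPt e σ) (pullPt ψ (uPt e σ)) (pullPt_left ψ _)]
  change Module.Grassmannian.map ψ.hom (e _ (uPt e σ)) = _
  rw [uPt, Equiv.apply_symm_apply]
  exact map_Na σ ψ.hom _

include he in
theorem chart_spec (σ : Fin k ⊕ Fin (n - k) ≃ Fin n) : ∃ U : X.left.Opens,
    (∀ (W : X.left.Opens) (hW : IsAffineOpen W) (s : Γ(X.left, W)),
      s ∈ JChart σ (AW X W) (e _ (gW X W hW)).toSubmodule → X.left.basicOpen s ≤ U) ∧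
    IsOpenImmersion (uPt e σ).left ∧ Set.range (uPt e σ).left = (U : Set X.left) ∧
    (∀ (A : CommAlgCat.{u} R) (g : SA A ⟶ X), PChart σ A (e A g).toSubmodule →
      ∃ ℓ : SA A ⟶ SA (Pol R n k), ℓ ≫ uPt e σ = g) := by
  have hPJ : ∀ (A C : Type u) [CommRing A] [Algebra R A] [CommRing C] [Algebra R C]
      (N : Module.Grassmannian A (A ⊗[R] (Fin n → R)) k) (φ : A →ₐ[R] C),
      PChart σ C (Module.Grassmannian.map φ N).toSubmodule ↔
        Ideal.map φ (JChart σ A N.toSubmodule) = ⊤ :=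
    fun A C _ _ _ _ N φ => pchart_map_iff σ N φ
  obtain ⟨U, hU1, hU2⟩ := exists_open (M := Fin n → R) (k := k)
    (fun C _ _ K => PChart σ C K) (fun A _ _ N => JChart σ A N) hPJ e he
  refine ⟨U, hU2, ?_⟩
  let Y : Over (Spec (CommRingCat.of R)) := Over.mk (U.ι ≫ X.hom)
  let ιU : Y ⟶ X := Over.homMk U.ι rfl
  have hιU : ιU.left = U.ι := rfl
  have hY : ∀ (A : CommAlgCat.{u} R) (g : SA A ⟶ Y),
      PChart σ A (e A (g ≫ ιU)).toSubmodule := by
    intro A g
    apply (hU1 A (g ≫ ιU)).mp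
    intro x
    change U.ι (g.left x) ∈ U
    exact (g.left x).2
  have hlift : ∀ (A : CommAlgCat.{u} R) (g : SA A ⟶ X), PChart σ A (e A g).toSubmodule →
      ∃ g' : SA A ⟶ Y, g' ≫ ιU = g := by
    intro A g hg
    have hx := (hU1 A g).mpr hg
    have hr : Set.range g.left ⊆ Set.range U.ι := by
      rintro _ ⟨x, rfl⟩
      rw [Scheme.Opens.range_ι]
      exact hx x
    refine ⟨Over.homMk (IsOpenImmersion.lift U.ι g.left hr) ?_, ?_⟩
    · change _ ≫ U.ι ≫ X.hom = _
      rw [← Category.assoc, IsOpenImmersion.lift_fac]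
      exact Over.w g
    · apply Over.OverMorphism.ext
      rw [Over.comp_left, hιU]
      exact IsOpenImmersion.lift_fac _ _ _
  have hmono : ∀ (A : CommAlgCat.{u} R) (g₁ g₂ : SA A ⟶ Y), g₁ ≫ ιU = g₂ ≫ ιU → g₁ = g₂ := by
    intro A g₁ g₂ h
    apply Over.OverMorphism.ext
    have := congrArg (fun t => t.left) h
    simp only [Over.comp_left, hιU] at this
    exact (cancel_mono U.ι).mp this
  obtain ⟨c, hc⟩ := hlift (Pol R n k) (uPt e σ) (by
    rw [uPt, Equiv.apply_symm_apply]
    exact pchart_Na σ _)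
  have key : ∀ (A : CommAlgCat.{u} R) (ψ : Pol R n k ⟶ A),
      e A ((pullPt ψ (𝟙 (SA (Pol R n k))) ≫ c) ≫ ιU) =
        Na (R := R) σ (fun j l => ψ.hom (aUniv R n k j l)) := by
    intro A ψ
    rw [Category.assoc, hc, pullPt_comp, Category.id_comp]
    exact e_pull_uPt e he σ ψ
  have hiso : IsIso c := by
    apply isIso_of_bijective_on_points
    intro A
    constructor
    · intro g₁ g₂ h
      obtain ⟨ψ₁, rfl⟩ := exists_eq_pullPt g₁
      obtain ⟨ψ₂, rfl⟩ := exists_eq_pullPt g₂
      have h' : (pullPt ψ₁ (𝟙 _) ≫ c) ≫ ιU = (pullPt ψ₂ (𝟙 _) ≫ c) ≫ ιU :=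
        congrArg (fun t => t ≫ ιU) h
      have h2 := congrArg (e A) h'
      rw [key, key] at h2
      have h3 := Na_injective σ _ _ h2
      have h4 : ψ₁.hom = ψ₂.hom := by
        apply MvPolynomial.algHom_ext
        intro d
        have := congrFun (congrFun h3 ((δ n k) d).1) ((δ n k) d).2
        simpa [aUniv] using this
      have h5 : ψ₁ = ψ₂ := CommAlgCat.hom_ext h4
      rw [h5]
    · intro g
      obtain ⟨a, ha⟩ := exists_eq_Na σ (e A (g ≫ ιU)) (hY A g)
      let ψ : Pol R n k ⟶ A := CommAlgCat.ofHom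
        (MvPolynomial.aeval (fun d => a ((δ n k) d).1 ((δ n k) d).2))
      refine ⟨pullPt ψ (𝟙 _), ?_⟩
      apply hmono
      apply (e A).injective
      rw [key, ha]
      congr 1
      funext j l
      simp [ψ, aUniv]
  have hleft : (uPt e σ).left = c.left ≫ U.ι := by
    rw [← hc, Over.comp_left, hιU]
  haveI : IsIso c.left :=
    inferInstanceAs (IsIso ((Over.forget (Spec (CommRingCat.of R))).map c))
  refine ⟨?_, ?_, ?_⟩
  · rw [hleft]
    infer_instance
  · rw [hleft, Scheme.Hom.comp_base, TopCat.coe_comp, Set.range_comp,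
      Set.range_eq_univ.mpr (by exact c.left.homeomorph.surjective), Set.image_univ,
      Scheme.Opens.range_ι]
  · intro A g hg
    obtain ⟨g', hg'⟩ := hlift A g hg
    refine ⟨g' ≫ inv c, ?_⟩
    rw [Category.assoc, ← hc, IsIso.inv_hom_id_assoc, hg']

end Charts

section Glue

variable (hkn : k ≤ n) {X : Over (Spec (CommRingCat.of R))}
  (e : ∀ A : CommAlgCat.{u} R,
    (SA A ⟶ X) ≃ (Module.Grassmannian.functor (R := R) (M := Fin n → R) k).obj A)
  (he : ∀ (A B : CommAlgCat.{u} R) (φ : A ⟶ B) (g : SA A ⟶ X) (g' : SA B ⟶ X),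
    g'.left = Spec.map (CommRingCat.ofHom φ.hom.toRingHom) ≫ g.left →
    e B g' = (Module.Grassmannian.functor (R := R) (M := Fin n → R) k).map φ (e A g))

/-- The Plücker vector of the matrix `a` in the chart `σ`. -/
noncomputable def plσ (σ : Fin k ⊕ Fin (n - k) ≃ Fin n) {B : CommAlgCat.{u} R}
    (a : Fin k → Fin (n - k) → B) : Fin (NN n k + 1) → B :=
  pl hkn (piMap (R := R) σ a)

theorem isUnit_plσ (σ : Fin k ⊕ Fin (n - k) ≃ Fin n) {B : CommAlgCat.{u} R}
    (a : Fin k → Fin (n - k) → B) : IsUnit (plσ hkn σ a (Iσ hkn σ)) :=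
  isUnit_pl hkn σ (Iσ hkn σ) (range_wI_Iσ hkn σ) a

/-- The point of projective space attached to a matrix in the chart `σ`. -/
noncomputable def ptσ (σ : Fin k ⊕ Fin (n - k) ≃ Fin n) {B : CommAlgCat.{u} R}
    (a : Fin k → Fin (n - k) → B) : SA B ⟶ PR R (NN n k) :=
  ptO (plσ hkn σ a) (Iσ hkn σ) (isUnit_plσ hkn σ a)

/-- The Plücker morphism on the chart `σ`. -/
noncomputable def cσ (σ : Fin k ⊕ Fin (n - k) ≃ Fin n) : SA (Pol R n k) ⟶ PR R (NN n k) :=
  ptσ hkn σ (aUniv R n k)

theorem pull_cσ (σ : Fin k ⊕ Fin (n - k) ≃ Fin n) {B : CommAlgCat.{u} R} (ψ : Pol R n k ⟶ B) :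
    pullPt ψ (cσ hkn σ) = ptσ hkn σ (fun j l => ψ.hom (aUniv R n k j l)) := by
  exact ptO_pull (plσ hkn σ (aUniv R n k)) ψ (Iσ hkn σ) (isUnit_plσ hkn σ _)
    (plσ hkn σ (fun j l => ψ.hom (aUniv R n k j l)))
    (fun J => minor_map σ ψ.hom (aUniv R n k) (wI hkn J)) (isUnit_plσ hkn σ _)

include he in
theorem compat (σ τ : Fin k ⊕ Fin (n - k) ≃ Fin n) {B : CommAlgCat.{u} R}
    (ℓ ℓ' : SA B ⟶ SA (Pol R n k)) (h : ℓ ≫ uPt e σ = ℓ' ≫ uPt e τ) :
    ℓ ≫ cσ hkn σ = ℓ' ≫ cσ hkn τ := by
  obtain ⟨ψ, rfl⟩ := exists_eq_pullPt ℓ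
  obtain ⟨ψ', rfl⟩ := exists_eq_pullPt ℓ'
  rw [pullPt_comp, pullPt_comp, Category.id_comp, Category.id_comp] at h ⊢
  have h1 := congrArg (e B) h
  rw [e_pull_uPt e he, e_pull_uPt e he] at h1
  obtain ⟨l, hl, hlw⟩ := exists_unit_minor_eq σ τ _ _ h1
  rw [pull_cσ, pull_cσ, ptσ, ptσ]
  set a := fun j l => ψ.hom (aUniv R n k j l) with ha
  set a' := fun j l => ψ'.hom (aUniv R n k j l) with ha'
  have hp : ∀ J, plσ hkn τ a' J = l * plσ hkn σ a J := fun J => hlw (wI hkn J)
  have hu : IsUnit (plσ hkn σ a (Iσ hkn τ)) := by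
    have := isUnit_plσ hkn τ a'
    rw [hp] at this
    exact isUnit_of_mul_isUnit_right this
  rw [ptO_scale (plσ hkn σ a) (Iσ hkn τ) hu l hl (plσ hkn τ a') hp (isUnit_plσ hkn τ a')]
  exact ptO_indep _ _ _ _ _

end Glue

section Main

open CategoryTheory.Limits

variable (hkn : k ≤ n) {X : Over (Spec (CommRingCat.of R))}
  (e : ∀ A : CommAlgCat.{u} R,
    (SA A ⟶ X) ≃ (Module.Grassmannian.functor (R := R) (M := Fin n → R) k).obj A)
  (he : ∀ (A B : CommAlgCat.{u} R) (φ : A ⟶ B) (g : SA A ⟶ X) (g' : SA B ⟶ X),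
    g'.left = Spec.map (CommRingCat.ofHom φ.hom.toRingHom) ≫ g.left →
    e B g' = (Module.Grassmannian.functor (R := R) (M := Fin n → R) k).map φ (e A g))

include he in
theorem exists_mem_range_uPt (x : X.left) :
    ∃ σ : Fin k ⊕ Fin (n - k) ≃ Fin n, x ∈ Set.range (uPt e σ).left := by
  obtain ⟨σ, hσ⟩ := exists_chart_mem e x
  obtain ⟨U, hU1, -, hU3, -⟩ := chart_spec e he σ
  refine ⟨σ, ?_⟩
  rw [hU3]
  exact hσ U hU1

/-- The cover of `X` by the standard charts. -/
noncomputable def chartCover : X.left.OpenCover :=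
  Scheme.Cover.mkOfCovers (Fin k ⊕ Fin (n - k) ≃ Fin n) (fun _ => (SA (Pol R n k)).left)
    (fun σ => (uPt e σ).left)
    (fun x => by
      obtain ⟨σ, y, hy⟩ := exists_mem_range_uPt e he x
      exact ⟨σ, y, hy⟩)
    (fun σ => (chart_spec e he σ).choose_spec.2.1)

include he in
theorem glue_cond (σ τ : Fin k ⊕ Fin (n - k) ≃ Fin n) :
    pullback.fst (uPt e σ).left (uPt e τ).left ≫ (cσ hkn σ).left =
      pullback.snd (uPt e σ).left (uPt e τ).left ≫ (cσ hkn τ).left := by
  let V : Over (Spec (CommRingCat.of R)) :=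
    Over.mk (pullback.fst (uPt e σ).left (uPt e τ).left ≫ (SA (Pol R n k)).hom)
  let f1 : V ⟶ SA (Pol R n k) := Over.homMk (pullback.fst _ _) rfl
  have hw : pullback.snd (uPt e σ).left (uPt e τ).left ≫ (SA (Pol R n k)).hom =
      pullback.fst (uPt e σ).left (uPt e τ).left ≫ (SA (Pol R n k)).hom := by
    have h1 : (SA (Pol R n k)).hom = (uPt e σ).left ≫ X.hom := (Over.w (uPt e σ)).symm
    have h2 : (SA (Pol R n k)).hom = (uPt e τ).left ≫ X.hom := (Over.w (uPt e τ)).symm
    conv_lhs => rw [h2]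
    conv_rhs => rw [h1]
    rw [← Category.assoc, ← Category.assoc, pullback.condition]
  let f2 : V ⟶ SA (Pol R n k) := Over.homMk (pullback.snd _ _) hw
  have h12 : f1 ≫ uPt e σ = f2 ≫ uPt e τ := by
    apply Over.OverMorphism.ext
    exact pullback.condition
  have key : f1 ≫ cσ hkn σ = f2 ≫ cσ hkn τ := by
    apply hom_ext_points
    intro A g
    rw [← Category.assoc, ← Category.assoc]
    apply compat hkn e he
    rw [Category.assoc, Category.assoc, h12]
  exact congrArg (fun t => t.left) key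

/-- The Plücker morphism. -/
noncomputable def plucker : X.left ⟶ CohB1.ProjSpace (NN n k) R :=
  (chartCover e he).glueMorphisms (fun σ => (cσ hkn σ).left)
    (fun σ τ => glue_cond hkn e he σ τ)

theorem uPt_plucker (σ : Fin k ⊕ Fin (n - k) ≃ Fin n) :
    (uPt e σ).left ≫ plucker hkn e he = (cσ hkn σ).left :=
  (chartCover e he).ι_glueMorphisms _ _ σ

theorem plucker_toSpec : plucker hkn e he ≫ CohB1.ProjSpace.toSpec (NN n k) R = X.hom := by
  apply (chartCover e he).hom_ext
  intro σ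
  change (uPt e σ).left ≫ _ = (uPt e σ).left ≫ _
  rw [← Category.assoc, uPt_plucker]
  exact (Over.w (cσ hkn σ)).trans (Over.w (uPt e σ)).symm

end Main

section Closed

open CategoryTheory.Limits HomogeneousLocalization

variable (hkn : k ≤ n) {X : Over (Spec (CommRingCat.of R))}
  (e : ∀ A : CommAlgCat.{u} R,
    (SA A ⟶ X) ≃ (Module.Grassmannian.functor (R := R) (M := Fin n → R) k).obj A)
  (he : ∀ (A B : CommAlgCat.{u} R) (φ : A ⟶ B) (g : SA A ⟶ X) (g' : SA B ⟶ X),
    g'.left = Spec.map (CommRingCat.ofHom φ.hom.toRingHom) ≫ g.left →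
    e B g' = (Module.Grassmannian.functor (R := R) (M := Fin n → R) k).map φ (e A g))

theorem exists_chart_of_index (J : Fin (NN n k + 1)) :
    ∃ σ : Fin k ⊕ Fin (n - k) ≃ Fin n,
      Set.range (wI hkn J) = Set.range (fun j : Fin k => σ (Sum.inl j)) := by
  obtain ⟨σ, hσ⟩ := exists_equiv_extend (wI hkn J) (wI_injective hkn J)
  refine ⟨σ, ?_⟩
  congr 1
  funext j
  exact (hσ j).symm

theorem intCast_units_mul_self {A : Type*} [CommRing A] (s : ℤˣ) :
    (((s : ℤ) : A)) * (((s : ℤ) : A)) = 1 := by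
  rw [← Int.cast_mul, ← Units.val_mul, Int.units_mul_self, Units.val_one, Int.cast_one]

variable (σ : Fin k ⊕ Fin (n - k) ≃ Fin n) (J : Fin (NN n k + 1))
  (hJ : Set.range (wI hkn J) = Set.range (fun j : Fin k => σ (Sum.inl j)))

/-- The universal Plücker vector of the chart `σ`. -/
noncomputable abbrev Puniv : Fin (NN n k + 1) → Pol R n k := plσ hkn σ (aUniv R n k)

/-- The ring map of the universal Plücker vector. -/
noncomputable abbrev fU : MvPolynomial (Fin (NN n k + 1)) R →+* Pol R n k :=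
  fOf (B := Pol R n k) (Puniv hkn σ)

include hJ in
theorem isUnit_f_X : IsUnit (fU hkn σ
    (MvPolynomial.X J : MvPolynomial (Fin (NN n k + 1)) R)) := by
  rw [fOf_X]
  exact isUnit_pl hkn σ J hJ _

include hJ in
theorem cσ_left_eq :
    (cσ hkn σ).left = Spec.map (CommRingCat.ofHom (ev (CohB1.polyGrading (NN n k) R)
      (fU hkn σ) (isUnit_f_X hkn σ J hJ))) ≫
      Proj.awayι (CohB1.polyGrading (NN n k) R) (MvPolynomial.X J) (X_mem J) one_pos := by
  have h1 : cσ hkn σ = ptO (B := Pol R n k) (Puniv hkn σ) J (isUnit_pl hkn σ J hJ _) :=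
    ptO_indep (B := Pol R n k) (Puniv hkn σ) (Iσ hkn σ) J (isUnit_plσ hkn σ _)
      (isUnit_pl hkn σ J hJ _)
  rw [h1, ptO_left]
  rfl

include hJ in
theorem ev_surjective : Function.Surjective (ev (CohB1.polyGrading (NN n k) R)
    (fU hkn σ) (isUnit_f_X hkn σ J hJ)) := by
  set E := ev (CohB1.polyGrading (NN n k) R) (fU hkn σ) (isUnit_f_X hkn σ J hJ) with hE
  have hint : ∀ s : ℤˣ, (((s : ℤ) : Pol R n k)) ∈ E.range := fun s =>
    ⟨((s : ℤ) : _), map_intCast E _⟩
  obtain ⟨sJ, hsJ⟩ := minor_perm_int (R := R) (A := Pol R n k) _ _ (inl_injective σ)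
    (wI_injective hkn J) hJ.symm
  have hPJ : Puniv hkn σ J = ((sJ : ℤ) : Pol R n k) := by
    change minor _ _ = _
    rw [hsJ, minor_self, mul_one]
  have hcoord : ∀ I' : Fin (NN n k + 1), Puniv hkn σ I' ∈ E.range := by
    intro I'
    have hmem : (MvPolynomial.X I' : MvPolynomial (Fin (NN n k + 1)) R) ∈
        CohB1.polyGrading (NN n k) R (1 • 1) := X_mem I'
    have h1 := ev_mk_mul (CohB1.polyGrading (NN n k) R) (fU hkn σ) (X_mem J)
      (isUnit_f_X hkn σ J hJ) 1 (MvPolynomial.X I') hmem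
    rw [fOf_X, fOf_X, pow_one, hPJ] at h1
    have h2 : Puniv hkn σ I' = ((sJ : ℤ) : Pol R n k) *
        E (Away.mk (CohB1.polyGrading (NN n k) R) (X_mem J) 1 (MvPolynomial.X I') hmem) := by
      rw [← h1, mul_comm]
    rw [h2]
    exact E.range.mul_mem (hint sJ) ⟨_, rfl⟩
  have hX : ∀ (j : Fin k) (l : Fin (n - k)), aUniv R n k j l ∈ E.range := by
    intro j l
    have hinj : Function.Injective
        (Function.update (fun j : Fin k => σ (Sum.inl j)) j (σ (Sum.inr l))) := by
      intro i i' hii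
      by_cases hi : i = j <;> by_cases hi' : i' = j
      · rw [hi, hi']
      · rw [hi, Function.update_self, Function.update_of_ne hi'] at hii
        exact absurd (σ.injective hii) (by simp)
      · rw [hi', Function.update_self, Function.update_of_ne hi] at hii
        exact absurd (σ.injective hii) (by simp)
      · rw [Function.update_of_ne hi, Function.update_of_ne hi'] at hii
        exact Sum.inl_injective (σ.injective hii)
    obtain ⟨I', hI'⟩ := exists_index hkn _ hinj
    obtain ⟨s', hs'⟩ := minor_perm_int (R := R) (A := Pol R n k) _ _ hinj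
      (wI_injective hkn I') hI'.symm
    have h1 : Puniv hkn σ I' = ((s' : ℤ) : Pol R n k) * aUniv R n k j l := by
      change minor _ _ = _
      rw [hs', minor_update]
    have h2 : aUniv R n k j l = ((s' : ℤ) : Pol R n k) * Puniv hkn σ I' := by
      rw [h1, ← mul_assoc, intCast_units_mul_self, one_mul]
    rw [h2]
    exact E.range.mul_mem (hint s') (hcoord I')
  intro q
  change q ∈ E.range
  induction q using MvPolynomial.induction_on with
  | C r =>
    have hC : (MvPolynomial.C r : MvPolynomial (Fin (NN n k + 1)) R) ∈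
        CohB1.polyGrading (NN n k) R 0 := MvPolynomial.isHomogeneous_C _ r
    refine ⟨fromZeroRingHom (CohB1.polyGrading (NN n k) R) _ ⟨MvPolynomial.C r, hC⟩, ?_⟩
    rw [hE, ev_fromZero]
    change MvPolynomial.aeval (Puniv hkn σ) (MvPolynomial.C r) = _
    rw [MvPolynomial.aeval_C]
    rfl
  | add p q hp hq => exact E.range.add_mem hp hq
  | mul_X p d hp =>
    have h1 : (MvPolynomial.X d : Pol R n k) = aUniv R n k ((δ n k) d).1 ((δ n k) d).2 := by
      rw [aUniv, Prod.mk.eta, Equiv.symm_apply_apply]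
    rw [h1]
    exact E.range.mul_mem hp (hX _ _)

theorem plucker_mem_iff (τ : Fin k ⊕ Fin (n - k) ≃ Fin n) (y : (SA (Pol R n k)).left) :
    plucker hkn e he ((uPt e τ).left y) ∈
      Proj.basicOpen (CohB1.polyGrading (NN n k) R) (MvPolynomial.X J) ↔
      Puniv hkn τ J ∉ (show PrimeSpectrum (Pol R n k) from y).asIdeal := by
  have h1 : plucker hkn e he ((uPt e τ).left y) = (cσ hkn τ).left y := by
    rw [← uPt_plucker hkn e he τ]
    rfl
  rw [h1]
  have h2 := ptO_preimage (B := Pol R n k) (Puniv hkn τ) (Iσ hkn τ) (isUnit_plσ hkn τ _) J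
  have h3 : y ∈ (cσ hkn τ).left ⁻¹ᵁ
      Proj.basicOpen (CohB1.polyGrading (NN n k) R) (MvPolynomial.X J) ↔
      y ∈ (PrimeSpectrum.basicOpen (Puniv hkn τ J) : (SA (Pol R n k)).left.Opens) := by
    change y ∈ (ptO (B := Pol R n k) (Puniv hkn τ) (Iσ hkn τ) (isUnit_plσ hkn τ _)).left ⁻¹ᵁ _ ↔ _
    rw [h2]
    exact Iff.rfl
  exact h3

include he hJ in
theorem plucker_mem_basicOpen_iff (x : X.left) :
    plucker hkn e he x ∈ Proj.basicOpen (CohB1.polyGrading (NN n k) R) (MvPolynomial.X J) ↔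
      x ∈ Set.range (uPt e σ).left := by
  constructor
  · intro hx
    obtain ⟨τ, y, rfl⟩ := exists_mem_range_uPt e he x
    rw [plucker_mem_iff] at hx
    set r : Pol R n k := Puniv hkn τ J with hr
    let ψ : Pol R n k ⟶ locAlg r := locHom r
    have hy : (show PrimeSpectrum (Pol R n k) from y) ∈
        Set.range (PrimeSpectrum.comap (algebraMap (Pol R n k) (Localization.Away r))) := by
      rw [PrimeSpectrum.localization_away_comap_range (Localization.Away r) r]
      exact hx
    obtain ⟨y', hy'⟩ := hy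
    let g : SA (locAlg r) ⟶ X := pullPt ψ (uPt e τ)
    have hg : g.left (show (SA (locAlg r)).left from y') = (uPt e τ).left y := by
      change (pullPt ψ (uPt e τ)).left _ = _
      rw [pullPt_left]
      change (uPt e τ).left (PrimeSpectrum.comap
        (algebraMap (Pol R n k) (Localization.Away r)) y') = _
      rw [hy']
    have heB := e_pull_uPt e he τ ψ
    set a' : Fin k → Fin (n - k) → locAlg r := fun j l => ψ.hom (aUniv R n k j l) with ha'
    have hunit : IsUnit (minor (piMap (R := R) τ a') (wI hkn J)) := by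
      rw [ha', minor_map τ ψ.hom (aUniv R n k) (wI hkn J)]
      exact IsLocalization.Away.algebraMap_isUnit (S := Localization.Away r) r
    obtain ⟨s, hs⟩ := minor_perm_int (R := R) (A := locAlg r) _ _ (wI_injective hkn J)
      (inl_injective σ) hJ
    have hunit' : IsUnit (minor (piMap (R := R) τ a') (fun j => σ (Sum.inl j))) := by
      rw [hs]
      exact (isUnit_intCast_units (A := locAlg r) s).mul hunit
    have hp : PChart σ (locAlg r) (e (locAlg r) g).toSubmodule := by
      rw [heB]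
      exact pchart_of_isUnit_minor σ τ a' hunit'
    obtain ⟨U, -, -, -, hU4⟩ := chart_spec e he σ
    obtain ⟨ℓ, hℓ⟩ := hU4 (locAlg r) g hp
    refine ⟨ℓ.left (show (SA (locAlg r)).left from y'), ?_⟩
    rw [← hg, ← hℓ]
    rfl
  · rintro ⟨y, rfl⟩
    rw [plucker_mem_iff]
    intro hmem
    have hu : IsUnit (Puniv (R := R) hkn σ J) := isUnit_pl hkn σ J hJ _
    exact (show PrimeSpectrum (Pol R n k) from y).isPrime.ne_top
      (Ideal.eq_top_of_isUnit_mem _ hmem hu)

include he in
theorem isClosedImmersion_plucker : IsClosedImmersion (plucker hkn e he) := by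
  have hspan : (HomogeneousIdeal.irrelevant (CohB1.polyGrading (NN n k) R)).toIdeal ≤
      Ideal.span (Set.range
        (MvPolynomial.X : Fin (NN n k + 1) → MvPolynomial (Fin (NN n k + 1)) R)) := by
    have := Groth.Agent.Lib.Helper93.ProjOverIso.irrelevant_le_span_X (NN n k) R
    rwa [Set.image_univ] at this
  let 𝒱 : (Proj (CohB1.polyGrading (NN n k) R)).OpenCover :=
    (Proj.affineOpenCoverOfIrrelevantLESpan (CohB1.polyGrading (NN n k) R)
      (fun J : Fin (NN n k + 1) => (MvPolynomial.X J : MvPolynomial (Fin (NN n k + 1)) R))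
      (fun J => X_mem J) (fun _ => one_pos) hspan).openCover
  apply IsZariskiLocalAtTarget.of_openCover (P := @IsClosedImmersion) 𝒱
  intro (J : Fin (NN n k + 1))
  obtain ⟨σ, hJ⟩ := exists_chart_of_index hkn J
  haveI : IsOpenImmersion (uPt e σ).left := (chart_spec e he σ).choose_spec.2.1
  have H : (uPt e σ).left ≫ plucker hkn e he =
      Spec.map (CommRingCat.ofHom (ev (CohB1.polyGrading (NN n k) R)
        (fU hkn σ) (isUnit_f_X hkn σ J hJ))) ≫
      Proj.awayι (CohB1.polyGrading (NN n k) R) (MvPolynomial.X J) (X_mem J) one_pos := by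
    rw [uPt_plucker]
    exact cσ_left_eq hkn σ J hJ
  have H' : plucker hkn e he ⁻¹ᵁ (Proj.awayι (CohB1.polyGrading (NN n k) R)
      (MvPolynomial.X J) (X_mem J) one_pos).opensRange = (uPt e σ).left.opensRange := by
    ext x
    rw [Proj.opensRange_awayι]
    exact plucker_mem_basicOpen_iff hkn e he σ J hJ x
  haveI : IsOpenImmersion (Proj.awayι (CohB1.polyGrading (NN n k) R) (MvPolynomial.X J)
      (X_mem J) one_pos) := inferInstance
  have sq := IsOpenImmersion.isPullback
    (Spec.map (CommRingCat.ofHom (ev (CohB1.polyGrading (NN n k) R)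
        (fU hkn σ) (isUnit_f_X hkn σ J hJ))))
    (uPt e σ).left
    (Proj.awayι (CohB1.polyGrading (NN n k) R) (MvPolynomial.X J) (X_mem J) one_pos)
    (plucker hkn e he) H H'
  have hcl : IsClosedImmersion (Spec.map (CommRingCat.ofHom (ev (CohB1.polyGrading (NN n k) R)
      (fU hkn σ) (isUnit_f_X hkn σ J hJ)))) :=
    IsClosedImmersion.spec_of_surjective _ (ev_surjective hkn σ J hJ)
  have h3 : sq.flip.isoPullback.hom ≫ pullback.snd (plucker hkn e he)
      (Proj.awayι (CohB1.polyGrading (NN n k) R) (MvPolynomial.X J) (X_mem J) one_pos) =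
      Spec.map (CommRingCat.ofHom (ev (CohB1.polyGrading (NN n k) R)
        (fU hkn σ) (isUnit_f_X hkn σ J hJ))) := IsPullback.isoPullback_hom_snd _
  have h4 : IsClosedImmersion (sq.flip.isoPullback.hom ≫ pullback.snd (plucker hkn e he)
      (Proj.awayι (CohB1.polyGrading (NN n k) R) (MvPolynomial.X J) (X_mem J) one_pos)) :=
    h3.symm ▸ hcl
  exact (MorphismProperty.cancel_left_of_respectsIso @IsClosedImmersion
    sq.flip.isoPullback.hom _).mp h4

end Closed

section Final

variable (hkn : k ≤ n) {X : Over (Spec (CommRingCat.of R))}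
  (e : ∀ A : CommAlgCat.{u} R,
    (SA A ⟶ X) ≃ (Module.Grassmannian.functor (R := R) (M := Fin n → R) k).obj A)
  (he : ∀ (A B : CommAlgCat.{u} R) (φ : A ⟶ B) (g : SA A ⟶ X) (g' : SA B ⟶ X),
    g'.left = Spec.map (CommRingCat.ofHom φ.hom.toRingHom) ≫ g.left →
    e B g' = (Module.Grassmannian.functor (R := R) (M := Fin n → R) k).map φ (e A g))

include he hkn in
/-- **Plücker embedding**: a scheme representing the Grassmannian of rank-`k` quotients of `R^n`
admits a closed immersion over `Spec R` into projective space of dimension `C(n,k) - 1`. -/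
theorem main : ∃ c : X.left ⟶ CohB1.ProjSpaceOver (n.choose k - 1) (Spec (CommRingCat.of R)),
    IsClosedImmersion c ∧
      c ≫ CohB1.ProjSpaceOver.toBase (n.choose k - 1) (Spec (CommRingCat.of R)) = X.hom := by
  refine ⟨plucker hkn e he ≫ (Groth.Agent.Lib.Helper93.ProjOverIso.overIso (NN n k) R).inv, ?_, ?_⟩
  · haveI := isClosedImmersion_plucker hkn e he
    infer_instance
  · rw [Category.assoc, Groth.Agent.Lib.Helper93.ProjOverIso.overIso_inv_toBase]
    exact plucker_toSpec hkn e he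

end Final

end Groth.Agent.Lib.Helper54.PluckerGeom
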