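import Mathlib
import Groth.Prelude.Def_W4c1limliniiiiLG
import Groth.Agent.Lib.Helper54.ClosedFun
import Groth.Agent.Lib.Helper54.LinkAlg
import Groth.Agent.Lib.Helper54.OverProd
import Groth.Agent.Lib.Helper54.GrassRepFin
import Groth.Agent.Lib.Helper54.PluckerGeom
import Groth.Agent.Lib.Helper7.ProjSpaceProper

/-!
# Representability and properness of linked Grassmannians over `Spec R` (helper54)
-/

set_option autoImplicit false
set_option linter.unusedSectionVars false
set_option linter.style.haveILetI false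
universe u

open AlgebraicGeometry CategoryTheory CategoryTheory.Limits Module TensorProduct
open Groth.Agent.Lib.Helper54.GrassClosed Groth.Agent.Lib.Helper54.LinkAlg

namespace Groth.Agent.Lib.Helper54.LinkedGrass

variable (R : Type u) [CommRing R] (d r n : ℕ)
  (f g : Fin n → ((Fin d → R) →ₗ[R] (Fin d → R)))

/-- Tuples of points of the Grassmannian. -/
abbrev F (A : CommAlgCat.{u} R) : Type u :=
  Fin (n + 1) → Module.Grassmannian A (A ⊗[R] (Fin d → R)) (d - r)

variable {R d r n}

/-- Base change of tuples. -/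
noncomputable def Fmap {A B : CommAlgCat.{u} R} (φ : A ⟶ B) (V : F R d r n A) : F R d r n B :=
  fun i => Module.Grassmannian.map φ.hom (V i)

theorem Fcomp {A B C : CommAlgCat.{u} R} (φ : A ⟶ B) (ψ : B ⟶ C) (V : F R d r n A) :
    Fmap (φ ≫ ψ) V = Fmap ψ (Fmap φ V) :=
  funext fun i => Module.Grassmannian.map_comp (d - r) φ.hom ψ.hom (V i)

/-- The ideal of the linking conditions. -/
def JLG (A : CommAlgCat.{u} R) (V : F R d r n A) : Ideal A :=
  ⨆ i : Fin n, (linkIdeal (f i) (V i.castSucc).toSubmodule (V i.succ).toSubmodule ⊔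
    linkIdeal (g i) (V i.succ).toSubmodule (V i.castSucc).toSubmodule)

theorem mem_LGPoints_iff (A : CommAlgCat.{u} R) (V : F R d r n A) :
    V ∈ W4c1limliniiii.LGPoints R d r n f g A ↔
      ∀ i : Fin n, Lk (f i) A (V i.castSucc).toSubmodule (V i.succ).toSubmodule ∧
        Lk (g i) A (V i.succ).toSubmodule (V i.castSucc).toSubmodule := by
  change (∀ i : Fin n, _ ∧ _) ↔ _
  apply forall_congr'
  intro i
  exact and_congr Submodule.map_le_iff_le_comap Submodule.map_le_iff_le_comap

theorem hPJ (A C : CommAlgCat.{u} R) (V : F R d r n A) (φ : A ⟶ C) :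
    Fmap φ V ∈ W4c1limliniiii.LGPoints R d r n f g C ↔ JLG f g A V ≤ RingHom.ker φ.hom := by
  rw [mem_LGPoints_iff, JLG, iSup_le_iff]
  apply forall_congr'
  intro i
  rw [sup_le_iff]
  exact and_congr (lk_map_iff (f i) (V i.castSucc) (V i.succ) φ.hom)
    (lk_map_iff (g i) (V i.succ) (V i.castSucc) φ.hom)

variable (R d r n)

/-- The linked Grassmannian functor is representable by a proper scheme over `Spec R`. -/
theorem main :
    ∃ (X : Over (Spec (CommRingCat.of R)))
      (e : ∀ A : CommAlgCat.{u} R, (SA A ⟶ X) ≃ W4c1limliniiii.LGPoints R d r n f g A),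
      (∀ (A B : CommAlgCat.{u} R) (φ : A ⟶ B) (x : SA A ⟶ X) (x' : SA B ⟶ X),
        x'.left = Spec.map (CommRingCat.ofHom φ.hom.toRingHom) ≫ x.left →
          ∀ i, (e B x').1 i = Module.Grassmannian.map φ.hom ((e A x).1 i)) ∧
      IsProper X.hom := by
  obtain ⟨G, eG, heG⟩ := Groth.Agent.Lib.Helper54.GrassRepFin.main (R := R) (Fin d → R) (d - r)
  have hGproper : IsProper G.hom := by
    obtain ⟨c, hc, hcw⟩ := Groth.Agent.Lib.Helper54.PluckerGeom.main (k := d - r) (n := d)
      (Nat.sub_le d r) eG heG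
    rw [← hcw]
    infer_instance
  obtain ⟨P, p, hP, hU⟩ := Groth.Agent.Lib.Helper54.OverProd.exists_prod hGproper (n + 1)
  let E : ∀ A : CommAlgCat.{u} R, (SA A ⟶ P) → F R d r n A := fun A t i => eG A (t ≫ p i)
  have hE : ∀ (A B : CommAlgCat.{u} R) (φ : A ⟶ B) (t : SA A ⟶ P) (t' : SA B ⟶ P),
      t'.left = Spec.map (CommRingCat.ofHom φ.hom.toRingHom) ≫ t.left →
      E B t' = Fmap φ (E A t) := by
    intro A B φ t t' ht
    funext i
    change eG B (t' ≫ p i) = Module.Grassmannian.map φ.hom (eG A (t ≫ p i))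
    apply heG A B φ (t ≫ p i) (t' ≫ p i)
    rw [Over.comp_left, Over.comp_left, ht, Category.assoc]
  have Einj : ∀ (A : CommAlgCat.{u} R) (t t' : SA A ⟶ P), E A t = E A t' → t = t' := by
    intro A t t' h
    obtain ⟨h₀, -, hu⟩ := hU (SA A) (fun i => t' ≫ p i)
    have h1 : t = h₀ := hu t (fun i => (eG A).injective (congrFun h i))
    have h2 : t' = h₀ := hu t' (fun i => rfl)
    rw [h1, h2]
  have Esurj : ∀ (A : CommAlgCat.{u} R) (V : F R d r n A), ∃ t : SA A ⟶ P, E A t = V := by
    intro A V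
    obtain ⟨h₀, hh₀, -⟩ := hU (SA A) (fun i => (eG A).symm (V i))
    refine ⟨h₀, ?_⟩
    funext i
    change eG A (h₀ ≫ p i) = V i
    rw [hh₀ i, Equiv.apply_symm_apply]
  obtain ⟨Z, i, hi, hZ⟩ := Groth.Agent.Lib.Helper54.ClosedFun.exists_closed (X := P)
    (F R d r n) (fun φ V => Fmap φ V) (fun φ ψ V => Fcomp φ ψ V)
    (fun A V => V ∈ W4c1limliniiii.LGPoints R d r n f g A) (fun A V => JLG f g A V)
    (fun A C V φ => hPJ f g A C V φ) E hE
  let X : Over (Spec (CommRingCat.of R)) := Over.mk (i ≫ P.hom)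
  let ι : X ⟶ P := Over.homMk i rfl
  have hι : ι.left = i := rfl
  haveI : Mono i := inferInstance
  have hmono : ∀ (A : CommAlgCat.{u} R) (g₁ g₂ : SA A ⟶ X), g₁ ≫ ι = g₂ ≫ ι → g₁ = g₂ := by
    intro A g₁ g₂ h
    apply Over.OverMorphism.ext
    have := congrArg (fun t => t.left) h
    simp only [Over.comp_left, hι] at this
    exact (cancel_mono i).mp this
  have hmem : ∀ (A : CommAlgCat.{u} R) (x : SA A ⟶ X),
      E A (x ≫ ι) ∈ W4c1limliniiii.LGPoints R d r n f g A :=
    fun A x => (hZ A (x ≫ ι)).mp ⟨x.left, rfl⟩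
  have hlift : ∀ (A : CommAlgCat.{u} R) (V : W4c1limliniiii.LGPoints R d r n f g A),
      ∃ x : SA A ⟶ X, E A (x ≫ ι) = V.1 := by
    intro A V
    obtain ⟨t, ht⟩ := Esurj A V.1
    obtain ⟨h, hh⟩ := (hZ A t).mpr (by rw [ht]; exact V.2)
    refine ⟨Over.homMk h ?_, ?_⟩
    · change h ≫ i ≫ P.hom = _
      rw [← Category.assoc, hh]
      exact Over.w t
    · have : (Over.homMk h (by
          change h ≫ i ≫ P.hom = _
          rw [← Category.assoc, hh]
          exact Over.w t) : SA A ⟶ X) ≫ ι = t := by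
        apply Over.OverMorphism.ext
        exact hh
      rw [this, ht]
  let e : ∀ A : CommAlgCat.{u} R, (SA A ⟶ X) ≃ W4c1limliniiii.LGPoints R d r n f g A := fun A =>
    { toFun := fun x => ⟨E A (x ≫ ι), hmem A x⟩
      invFun := fun V => (hlift A V).choose
      left_inv := by
        intro x
        apply hmono
        apply Einj
        exact (hlift A ⟨E A (x ≫ ι), hmem A x⟩).choose_spec
      right_inv := by
        intro V
        apply Subtype.ext
        exact (hlift A V).choose_spec }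
  refine ⟨X, e, ?_, ?_⟩
  · intro A B φ x x' hx j
    change E B (x' ≫ ι) j = Module.Grassmannian.map φ.hom (E A (x ≫ ι) j)
    have h1 := hE A B φ (x ≫ ι) (x' ≫ ι) (by
      rw [Over.comp_left, Over.comp_left, hx, Category.assoc])
    rw [h1]
    rfl
  · change IsProper (i ≫ P.hom)
    haveI := hP
    infer_instance

end Groth.Agent.Lib.Helper54.LinkedGrass
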