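import Mathlib
import Groth.Agent.Lib.Helper51.MS2Defs
import Groth.Agent.Lib.Helper55.GR.Final
import Groth.Agent.Lib.Helper54.CPFFp

/-!
# MA for S14068: a pre-model of `A → B → C` over a finitely generated `ℤ`-subalgebra of `A`
(presentations only, no flatness)
-/

set_option autoImplicit false
set_option linter.style.haveILetI false
universe u
open TensorProduct

namespace Groth.Agent.Lib.Helper54.MS2MA

theorem exists_premodel {A B C : Type u} [CommRing A] [CommRing B] [CommRing C] [Algebra A B]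
    [Algebra B C] [Algebra A C] [IsScalarTower A B C] [Algebra.IsStandardSmooth A B]
    [Algebra.FinitePresentation B C] :
    ∃ (A₁ : Subalgebra ℤ A) (B₁ C₁ : Type u) (_ : CommRing B₁) (_ : CommRing C₁)
      (_ : Algebra A₁ B₁) (_ : Algebra A₁ C₁) (_ : Algebra B₁ C₁) (_ : IsScalarTower A₁ B₁ C₁)
      (eB : A ⊗[A₁] B₁ ≃ₐ[A] B) (eC : A ⊗[A₁] C₁ ≃ₐ[A] C),
      A₁.FG ∧ Algebra.IsStandardSmooth A₁ B₁ ∧ Algebra.FiniteType B₁ C₁ ∧
        ∀ x, eC (Algebra.TensorProduct.map (AlgHom.id A A) (IsScalarTower.toAlgHom A₁ B₁ C₁) x) =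
          algebraMap B C (eB x) := by
  classical
  obtain ⟨ι, σ, _, _, ⟨P⟩⟩ := Algebra.IsStandardSmooth.out (R := A) (S := B)
  let PC := Algebra.Presentation.ofFinitePresentation B C
  -- lifts of the coefficients of `PC` to polynomials over `A`
  have hτ : ∀ c : B, ∃ τ : MvPolynomial ι A, MvPolynomial.aeval P.val τ = c :=
    fun c => P.aeval_val_surjective c
  choose τ hτ using hτ
  let T : Set A := P.coeffs ∪ ⋃ c ∈ PC.coeffs, ((τ c).coeffs : Set A)
  have hfin : T.Finite :=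
    P.finite_coeffs.union (PC.finite_coeffs.biUnion fun c _ => Finset.finite_toSet _)
  let A₁ : Subalgebra ℤ A := Algebra.adjoin ℤ T
  have hA₁ : A₁.FG := ⟨hfin.toFinset, by simp [A₁]⟩
  haveI : P.HasCoeffs A₁ := ⟨by
    intro x hx
    exact ⟨⟨x, Algebra.subset_adjoin (Or.inl hx)⟩, rfl⟩⟩
  let B₁ := P.ModelOfHasCoeffs A₁
  haveI hsm : Algebra.IsStandardSmooth A₁ B₁ := (P.ofHasCoeffs A₁).isStandardSmooth
  let eB : A ⊗[A₁] B₁ ≃ₐ[A] B := P.tensorModelOfHasCoeffsEquiv A₁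
  have hcoef : ∀ c ∈ PC.coeffs, ∃ a₀ : B₁, eB ((1 : A) ⊗ₜ[A₁] a₀) = c := by
    intro c hc
    obtain ⟨τ₁, hτ₁⟩ : ∃ τ₁ : MvPolynomial ι A₁,
        MvPolynomial.map (algebraMap A₁ A) τ₁ = τ c := by
      rw [← Set.mem_range, MvPolynomial.mem_range_map_iff_coeffs_subset]
      intro x hx
      refine ⟨⟨x, Algebra.subset_adjoin (Or.inr ?_)⟩, rfl⟩
      exact Set.mem_biUnion hc hx
    refine ⟨Ideal.Quotient.mk _ τ₁, ?_⟩
    show P.tensorModelOfHasCoeffsEquiv A₁ (1 ⊗ₜ (Ideal.Quotient.mk _ τ₁)) = _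
    rw [Algebra.Presentation.tensorModelOfHasCoeffsEquiv_tmul, map_one, one_mul]
    have h1 := MvPolynomial.aeval_map_algebraMap A P.val τ₁
    rw [hτ₁, hτ] at h1
    exact h1.symm
  obtain ⟨C₁, i1, i2, i3, i4, eC, hfp, hcompat⟩ :=
    Groth.Agent.Lib.Helper54.CPF.exists_model_over (k := A₁) (R := A) (A₀ := B₁) (A := B) (B := C)
      eB PC hcoef
  letI := i1
  letI := i2
  letI := i3
  haveI := i4
  haveI := hfp
  have hft : Algebra.FiniteType B₁ C₁ := inferInstance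
  exact ⟨A₁, B₁, C₁, _, i1, _, i2, i3, i4, eB, eC, hA₁, hsm, hft, hcompat⟩

end Groth.Agent.Lib.Helper54.MS2MA
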