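import Mathlib
import Groth.Agent.Lib.Helper54.FlatEpi

set_option autoImplicit false
universe u

open CategoryTheory CategoryTheory.Limits AlgebraicGeometry TensorProduct

namespace Groth.Agent.Lib.Helper54.RankOne

/-- Every point of a quasi-sober T0 space has a maximal generization. -/
lemma exists_maximal_specializes {X : Type*} [TopologicalSpace X] [QuasiSober X] [T0Space X]
    (x : X) : ∃ m : X, (∀ z : X, z ⤳ m → z = m) ∧ m ⤳ x := by
  obtain ⟨m, hm⟩ := QuasiSober.sober (isIrreducible_irreducibleComponent (x := x))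
    isClosed_irreducibleComponent
  refine ⟨m, fun z hz ↦ ?_, ?_⟩
  · have h1 : closure {m} ⊆ closure {z} := hz.closure_subset
    rw [hm.def] at h1
    have h2 : closure {z} = irreducibleComponent x :=
      eq_irreducibleComponent isIrreducible_singleton.closure.isPreirreducible h1
    have h3 : m ⤳ z := by
      rw [specializes_iff_mem_closure, hm.def, ← h2]
      exact subset_closure rfl
    exact (hz.antisymm h3).eq
  · rw [specializes_iff_mem_closure, hm.def]
    exact mem_irreducibleComponent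

/-- The fibre condition "empty or isomorphic to the base point". -/
def RankLeOne {T S Z : Scheme.{u}} (g : T ⟶ S) (y : Z ⟶ S) : Prop :=
  IsEmpty ↑(pullback g y) ∨ IsIso (pullback.snd g y)

/-- (P) Restriction of the fibre condition to opens of source and target. -/
theorem RankLeOne.restrict {T S Z T' S' : Scheme.{u}} [Subsingleton Z] {g : T ⟶ S} {y : Z ⟶ S}
    (h : RankLeOne g y) (j : T' ⟶ T) [IsOpenImmersion j] (i : S' ⟶ S) [Mono i]
    (g' : T' ⟶ S') (y' : Z ⟶ S') (hg : g' ≫ i = j ≫ g) (hy : y' ≫ i = y) :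
    RankLeOne g' y' := by
  subst hy
  let θ : pullback g' y' ⟶ pullback g (y' ≫ i) :=
    pullback.map g' y' g (y' ≫ i) j (𝟙 Z) i hg (by simp)
  have hθsnd : θ ≫ pullback.snd g (y' ≫ i) = pullback.snd g' y' := by
    rw [pullback.lift_snd, Category.comp_id]
  have hθfst : θ ≫ pullback.fst g (y' ≫ i) = pullback.fst g' y' ≫ j := by
    rw [pullback.lift_fst]
  rcases h with h | h
  · exact Or.inl (Function.isEmpty θ.base)
  · -- θ is a base change of `j`
    have houter : IsPullback (θ ≫ pullback.snd g (y' ≫ i)) (pullback.fst g' y') (y' ≫ i) (j ≫ g) := by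
      rw [hθsnd, ← hg]
      exact (IsPullback.of_isLimit (pullbackIsPullbackOfCompMono g' y' i)).flip
    have hleft : IsPullback θ (pullback.fst g' y') (pullback.fst g (y' ≫ i)) j :=
      IsPullback.of_right houter hθfst (IsPullback.of_hasPullback g (y' ≫ i)).flip
    have hθ : IsOpenImmersion θ := MorphismProperty.of_isPullback (P := @IsOpenImmersion) hleft.flip
      inferInstance
    by_cases hemp : IsEmpty ↑(pullback g' y')
    · exact Or.inl hemp
    · rw [not_isEmpty_iff] at hemp
      obtain ⟨p⟩ := hemp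
      have hsub : Subsingleton ↑(pullback g (y' ≫ i)) :=
        (asIso (pullback.snd g (y' ≫ i))).hom.homeomorph.injective.subsingleton
      have hsurj : Surjective θ := ⟨fun q ↦ ⟨p, Subsingleton.elim _ _⟩⟩
      have : IsIso θ := (isIso_iff_isOpenImmersion_and_surjective θ).mpr ⟨hθ, hsurj⟩
      refine Or.inr ?_
      rw [← hθsnd]
      infer_instance

/-- Transfer of the fibre condition along a morphism of test points. -/
theorem RankLeOne.precomp {T S Z Z' : Scheme.{u}} {g : T ⟶ S} {y : Z ⟶ S}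
    (h : RankLeOne g y) (z : Z' ⟶ Z) : RankLeOne g (z ≫ y) := by
  rcases h with h | h
  · exact Or.inl (Function.isEmpty
      (pullback.map g (z ≫ y) g y (𝟙 T) z (𝟙 S) (by simp) (by simp)).base)
  · refine Or.inr ?_
    have : pullback.snd g (z ≫ y) =
        (pullbackLeftPullbackSndIso g y z).inv ≫ pullback.snd (pullback.snd g y) z := by
      rw [Iso.eq_inv_comp, pullbackLeftPullbackSndIso_hom_snd]
    rw [this]
    infer_instance

/-- The fibre condition for all field valued points over maximal points, from the residue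
field version. -/
theorem rankLeOne_of_residueField {T S : Scheme.{u}} (g : T ⟶ S)
    (h : ∀ s : S, (∀ t : S, t ⤳ s → t = s) → RankLeOne g (S.fromSpecResidueField s))
    (K : Type u) [Field K] (y : Spec (.of K) ⟶ S)
    (hy : ∀ t : S, t ⤳ y (IsLocalRing.closedPoint K) → t = y (IsLocalRing.closedPoint K)) :
    RankLeOne g y := by
  have := (h _ hy).precomp (Spec.map (Scheme.descResidueField (Scheme.stalkClosedPointTo y)))
  rwa [Scheme.descResidueField_stalkClosedPointTo_fromSpecResidueField] at this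

/-- (H') uniqueness of lifts of field valued points. -/
theorem RankLeOne.lift_unique {T S Z : Scheme.{u}} [Nonempty Z] {g : T ⟶ S} {y : Z ⟶ S}
    (h : RankLeOne g y) (a b : Z ⟶ T) (ha : a ≫ g = y) (hb : b ≫ g = y) : a = b := by
  rcases h with h | h
  · exact (h.false ((pullback.lift a (𝟙 Z) (by simpa using ha)).base (Classical.arbitrary Z))).elim
  · have h1 : pullback.lift a (𝟙 Z) (by simpa using ha) = pullback.lift b (𝟙 Z) (by simpa using hb) := by
      rw [← cancel_mono (pullback.snd g y), pullback.lift_snd, pullback.lift_snd]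
    have := congrArg (fun l ↦ l ≫ pullback.fst g y) h1
    simpa only [pullback.lift_fst] using this

/-- (A) the affine case. -/
theorem isOpenImmersion_SpecMap {A B : CommRingCat.{u}} (φ : A ⟶ B) (hflat : φ.hom.Flat)
    (hfp : φ.hom.FinitePresentation)
    (h : ∀ (K : Type u) [Field K] (ψ : A ⟶ .of K), RingHom.ker ψ.hom ∈ minimalPrimes A →
      RankLeOne (Spec.map φ) (Spec.map ψ)) : IsOpenImmersion (Spec.map φ) := by
  algebraize [φ.hom]
  have hφ : φ = CommRingCat.ofHom (algebraMap A B) := rfl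
  have hepi : Algebra.IsEpi A B := by
    refine FlatEpi.isEpi_of_flat_of_fibres fun 𝔭 h𝔭 ↦ ?_
    have : 𝔭.IsPrime := h𝔭.1.1
    let K := 𝔭.ResidueField
    refine ⟨K, inferInstance, inferInstance, Ideal.ker_algebraMap_residueField 𝔭, ?_⟩
    have hr := h K (CommRingCat.ofHom (algebraMap A K))
      (by rw [CommRingCat.hom_ofHom, Ideal.ker_algebraMap_residueField]; exact h𝔭)
    rw [hφ] at hr
    let e := pullbackSpecIso A B K
    have hsurj : Function.Surjective (Algebra.TensorProduct.includeRight : K →ₐ[A] B ⊗[A] K) := by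
      rcases hr with hr | hr
      · have h1 : IsEmpty ↑(Spec (.of (B ⊗[A] K))) := Function.isEmpty e.inv.base
        have h2 : Subsingleton (B ⊗[A] K) := by
          by_contra hn
          rw [not_subsingleton_iff_nontrivial] at hn
          exact h1.false (Classical.arbitrary (PrimeSpectrum (B ⊗[A] K)))
        exact fun x ↦ ⟨0, Subsingleton.elim _ _⟩
      · have h1 : IsIso ((pullbackSpecIso A B K).inv ≫ pullback.snd _ _) := inferInstance
        rw [pullbackSpecIso_inv_snd] at h1
        exact (isIso_SpecMap_iff.mp h1).2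
    intro z
    obtain ⟨k, hk⟩ := hsurj (Algebra.TensorProduct.comm A K B z)
    refine ⟨k, ?_⟩
    apply (Algebra.TensorProduct.comm A K B).injective
    rw [← hk, Algebra.TensorProduct.algebraMap_apply]
    simp
  have hEpi : Epi φ := by rw [hφ]; exact CommRingCat.epi_iff_epi.mpr hepi
  have hmono : Mono (Spec.map φ) := by
    have : Mono φ.op := inferInstance
    exact inferInstanceAs (Mono (Scheme.Spec.map φ.op))
  have h1 : Flat (Spec.map φ) := (HasRingHomProperty.Spec_iff (P := @Flat)).mpr hflat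
  have h2 : LocallyOfFinitePresentation (Spec.map φ) :=
    (HasRingHomProperty.Spec_iff (P := @LocallyOfFinitePresentation)).mpr hfp
  exact IsOpenImmersion.of_flat_of_mono _

/-- The all-fields form of the hypothesis. -/
def RankLeOneAtMaximal {T S : Scheme.{u}} (g : T ⟶ S) : Prop :=
  ∀ (K : Type u) [Field K] (y : Spec (.of K) ⟶ S),
    (∀ t : S, t ⤳ y (IsLocalRing.closedPoint K) → t = y (IsLocalRing.closedPoint K)) →
      RankLeOne g y

/-- (L) local structure: `g` is a local isomorphism. -/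
theorem exists_isOpenImmersion_of_rankLeOne {T S : Scheme.{u}} (g : T ⟶ S) [Flat g]
    [LocallyOfFinitePresentation g] (h : RankLeOneAtMaximal g) (t : T) :
    ∃ V : T.Opens, t ∈ V ∧ IsOpenImmersion (V.ι ≫ g) := by
  obtain ⟨_, ⟨U, hU, rfl⟩, hxU, -⟩ := S.isBasis_affineOpens.exists_subset_of_mem_open
    (Set.mem_univ (g t)) isOpen_univ
  obtain ⟨_, ⟨V, hV, rfl⟩, hxV, hUV : V ≤ g ⁻¹ᵁ U⟩ :=
    T.isBasis_affineOpens.exists_subset_of_mem_open hxU (g ⁻¹ᵁ U).2
  replace hU : IsAffineOpen U := hU
  replace hV : IsAffineOpen V := hV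
  refine ⟨V, hxV, ?_⟩
  let φ := g.appLE U V hUV
  have hflat : φ.hom.Flat := HasRingHomProperty.appLE (P := @Flat) g inferInstance ⟨U, hU⟩ ⟨V, hV⟩ hUV
  have hfp : φ.hom.FinitePresentation :=
    HasRingHomProperty.appLE (P := @LocallyOfFinitePresentation) g inferInstance ⟨U, hU⟩ ⟨V, hV⟩ hUV
  have hkey : Spec.map φ ≫ hU.fromSpec = hV.fromSpec ≫ g := IsAffineOpen.SpecMap_appLE_fromSpec g hU hV hUV
  have hoi : IsOpenImmersion (Spec.map φ) := by
    refine isOpenImmersion_SpecMap φ hflat hfp fun K _ ψ hψ ↦ ?_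
    refine (h K (Spec.map ψ ≫ hU.fromSpec) ?_).restrict hV.fromSpec hU.fromSpec (Spec.map φ)
      (Spec.map ψ) hkey rfl
    set p0 : Spec Γ(S, U) := (Spec.map ψ) (IsLocalRing.closedPoint K) with hp0
    have hp0I : p0.asIdeal = RingHom.ker ψ.hom := by
      rw [hp0]
      change Ideal.comap ψ.hom (IsLocalRing.maximalIdeal K) = _
      rw [IsLocalRing.maximalIdeal_eq_bot, RingHom.ker_eq_comap_bot]
    intro t' ht'
    rw [Scheme.Hom.comp_apply] at ht' ⊢
    have hmem : hU.fromSpec p0 ∈ (U : Set S) := by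
      rw [← hU.range_fromSpec]; exact ⟨p0, rfl⟩
    have ht'U : t' ∈ (U : Set S) := ht'.mem_open U.2 hmem
    rw [← hU.range_fromSpec] at ht'U
    obtain ⟨q, rfl⟩ := ht'U
    have hq : q ⤳ p0 := hU.fromSpec.isOpenEmbedding.isInducing.specializes_iff.mp ht'
    have hle : q.asIdeal ≤ p0.asIdeal := (PrimeSpectrum.le_iff_specializes q p0).mpr hq
    have hge : p0.asIdeal ≤ q.asIdeal := by
      rw [hp0I] at hle ⊢
      exact hψ.2 ⟨q.isPrime, bot_le⟩ hle
    rw [PrimeSpectrum.ext (le_antisymm hle hge)]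
  have : Scheme.Opens.ι V ≫ g = hV.isoSpec.hom ≫ Spec.map φ ≫ hU.fromSpec := by
    rw [hkey, ← hV.isoSpec_inv_ι, Category.assoc, Iso.hom_inv_id_assoc]
  rw [this]
  infer_instance

/-- Two sections of a separated morphism over an open `W` which agree at all field valued
points over maximal points agree on all points. -/
theorem apply_eq_of_rankLeOne {T S : Scheme.{u}} (g : T ⟶ S) [IsSeparated g]
    (h : RankLeOneAtMaximal g) (W : S.Opens) (a1 a2 : W.toScheme ⟶ T) (ha1 : a1 ≫ g = W.ι)
    (ha2 : a2 ≫ g = W.ι) (w : W.toScheme) : a1 w = a2 w := by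
  let X' : Over S := Over.mk W.ι
  let Y' : Over S := Over.mk g
  let f' : X' ⟶ Y' := Over.homMk a1 ha1
  let g' : X' ⟶ Y' := Over.homMk a2 ha2
  have : IsSeparated Y'.hom := ‹_›
  let ιE : (equalizer f' g').left ⟶ W.toScheme := (equalizer.ι f' g').left
  have hclosed : IsClosed (Set.range ιE) := ιE.isClosedEmbedding.isClosed_range
  have hcond : ιE ≫ a1 = ιE ≫ a2 := congr($(equalizer.condition f' g').left)
  obtain ⟨m, hm, hmw⟩ := exists_maximal_specializes w
  have hm_range : m ∈ Set.range ιE := by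
    let K := W.toScheme.residueField m
    let xm : Spec K ⟶ W.toScheme := W.toScheme.fromSpecResidueField m
    have hpt : ∀ p : Spec K, (xm ≫ W.ι) p = W.ι m := fun p ↦ by
      rw [Scheme.Hom.comp_apply, Scheme.fromSpecResidueField_apply]
    have hmax : ∀ t' : S, t' ⤳ (xm ≫ W.ι) (IsLocalRing.closedPoint K) →
        t' = (xm ≫ W.ι) (IsLocalRing.closedPoint K) := by
      intro t' ht'
      rw [hpt] at ht' ⊢
      have hmem : W.ι m ∈ (W : Set S) := by
        rw [← Scheme.Opens.range_ι]; exact ⟨m, rfl⟩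
      have ht'W : t' ∈ (W : Set S) := ht'.mem_open W.2 hmem
      rw [← Scheme.Opens.range_ι] at ht'W
      obtain ⟨m', rfl⟩ := ht'W
      have : m' ⤳ m := W.ι.isOpenEmbedding.isInducing.specializes_iff.mp ht'
      rw [hm m' this]
    have hxm : xm ≫ a1 = xm ≫ a2 :=
      (h K (xm ≫ W.ι) hmax).lift_unique _ _ (by rw [Category.assoc, ha1])
        (by rw [Category.assoc, ha2])
    let U' : Over S := Over.mk (xm ≫ W.ι)
    let x' : U' ⟶ X' := Over.homMk xm rfl
    have hx' : x' ≫ f' = x' ≫ g' := by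
      ext1
      simpa [x', f', g'] using hxm
    let l := equalizer.lift x' hx'
    have hl : l.left ≫ ιE = xm := by
      rw [← Over.comp_left, equalizer.lift_ι]; rfl
    refine ⟨l.left (IsLocalRing.closedPoint K), ?_⟩
    rw [← Scheme.Hom.comp_apply, hl, Scheme.fromSpecResidueField_apply]
  have hw_range : w ∈ Set.range ιE :=
    (hclosed.closure_subset_iff.mpr (Set.singleton_subset_iff.mpr hm_range))
      (specializes_iff_mem_closure.mp hmw)
  obtain ⟨e, rfl⟩ := hw_range
  rw [← Scheme.Hom.comp_apply, hcond, Scheme.Hom.comp_apply]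

/-- injectivity -/
theorem injective_of_rankLeOne {T S : Scheme.{u}} (g : T ⟶ S) [IsSeparated g]
    (hloc : ∀ t : T, ∃ V : T.Opens, t ∈ V ∧ IsOpenImmersion (V.ι ≫ g))
    (h : RankLeOneAtMaximal g) : Function.Injective g := by
  intro t1 t2 heq
  obtain ⟨V1, h1, hV1⟩ := hloc t1
  obtain ⟨V2, h2, hV2⟩ := hloc t2
  let j1 := V1.ι ≫ g
  let j2 := V2.ι ≫ g
  let W : S.Opens := j1.opensRange ⊓ j2.opensRange
  have hW1 : Set.range W.ι ⊆ Set.range j1 := by
    rw [Scheme.Opens.range_ι]; exact inf_le_left (a := j1.opensRange) (b := j2.opensRange)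
  have hW2 : Set.range W.ι ⊆ Set.range j2 := by
    rw [Scheme.Opens.range_ι]; exact inf_le_right (a := j1.opensRange) (b := j2.opensRange)
  let σ1 : W.toScheme ⟶ V1.toScheme := IsOpenImmersion.lift j1 W.ι hW1
  let σ2 : W.toScheme ⟶ V2.toScheme := IsOpenImmersion.lift j2 W.ι hW2
  have hσ1 : σ1 ≫ j1 = W.ι := IsOpenImmersion.lift_fac _ _ _
  have hσ2 : σ2 ≫ j2 = W.ι := IsOpenImmersion.lift_fac _ _ _
  have hw0 : g t1 ∈ W := by
    refine ⟨⟨⟨t1, h1⟩, ?_⟩, ⟨⟨t2, h2⟩, ?_⟩⟩
    · simp [j1]
    · simp [j2, heq]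
  let w0 : W.toScheme := ⟨g t1, hw0⟩
  have e1 : (σ1 ≫ V1.ι) w0 = t1 := by
    have : σ1 w0 = ⟨t1, h1⟩ := by
      apply j1.isOpenEmbedding.injective
      rw [← Scheme.Hom.comp_apply, hσ1]
      simp [j1, w0]
    rw [Scheme.Hom.comp_apply, this]; rfl
  have e2 : (σ2 ≫ V2.ι) w0 = t2 := by
    have : σ2 w0 = ⟨t2, h2⟩ := by
      apply j2.isOpenEmbedding.injective
      rw [← Scheme.Hom.comp_apply, hσ2]
      simp [j2, w0, heq]
    rw [Scheme.Hom.comp_apply, this]; rfl
  rw [← e1, ← e2]
  exact apply_eq_of_rankLeOne g h W _ _ (by rw [Category.assoc]; exact hσ1)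
    (by rw [Category.assoc]; exact hσ2) w0

/-- Main theorem: flat, lfp, separated with rank `≤ 1` over maximal points is an open
immersion. -/
theorem isOpenImmersion_of_rankLeOne {T S : Scheme.{u}} (g : T ⟶ S) [Flat g]
    [LocallyOfFinitePresentation g] [IsSeparated g] (h : RankLeOneAtMaximal g) :
    IsOpenImmersion g := by
  have hloc := exists_isOpenImmersion_of_rankLeOne g h
  have hinj := injective_of_rankLeOne g hloc h
  have hemb : Topology.IsOpenEmbedding g :=
    .of_continuous_injective_isOpenMap g.continuous hinj g.isOpenMap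
  have : ∀ x, IsIso (g.stalkMap x) := by
    intro x
    obtain ⟨V, hx, hV⟩ := hloc x
    have h1 : IsIso ((V.ι ≫ g).stalkMap ⟨x, hx⟩) := inferInstance
    rw [Scheme.Hom.stalkMap_comp] at h1
    have h2 : IsIso (g.stalkMap (V.ι ⟨x, hx⟩)) :=
      @IsIso.of_isIso_comp_right _ _ _ _ _ (g.stalkMap (V.ι ⟨x, hx⟩)) (V.ι.stalkMap ⟨x, hx⟩)
        inferInstance h1
    exact h2
  exact IsOpenImmersion.of_isIso_stalkMap g hemb

end Groth.Agent.Lib.Helper54.RankOne
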