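import Mathlib

set_option autoImplicit false
universe u
open AlgebraicGeometry CategoryTheory CategoryTheory.Limits

namespace Groth.Agent.Lib.Helper54.SectionIso

/-- ring-level core: `e ∘ φ = id`, `J = ker e` finitely generated, `q` a prime containing the
image of `p`, and every element of `J` lies in `pB` after multiplying by some `t ∉ q`.
Then some `g ∉ q` kills `J`. -/
theorem exists_notMem_mul_eq_zero {A B : Type*} [CommRing A] [CommRing B] (φ : A →+* B)
    (e : B →+* A) (he : ∀ a, e (φ a) = a) (hJ : (RingHom.ker e).FG) (p : Ideal A) (q : Ideal B)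
    [q.IsPrime] (hpq : p.map φ ≤ q)
    (H : ∀ b ∈ RingHom.ker e, ∃ t : B, t ∉ q ∧ t * b ∈ p.map φ) :
    ∃ g : B, g ∉ q ∧ ∀ b ∈ RingHom.ker e, g * b = 0 := by
  set J := RingHom.ker e with hJdef
  have he_p : ∀ x ∈ p.map φ, e x ∈ p := by
    have : p.map φ ≤ p.comap e := by
      rw [Ideal.map_le_iff_le_comap]
      intro a ha
      show e (φ a) ∈ p
      rw [he]; exact ha
    exact fun x hx => this hx
  -- elements of `pB ∩ J` lie in `(pB) J`
  have hproj : ∀ x ∈ p.map φ, x - φ (e x) ∈ p.map φ * J := by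
    intro x hx
    refine Submodule.span_induction (p := fun x _ => x - φ (e x) ∈ p.map φ * J) ?_ ?_ ?_ ?_ hx
    · rintro _ ⟨a, ha, rfl⟩
      rw [he, sub_self]; exact zero_mem _
    · simp
    · intro x y _ _ hx hy
      have : x + y - φ (e (x + y)) = (x - φ (e x)) + (y - φ (e y)) := by
        rw [map_add, map_add]; ring
      rw [this]; exact add_mem hx hy
    · intro c x hx' hx
      have hcx : c • x - φ (e (c • x)) = c * (x - φ (e x)) + φ (e x) * (c - φ (e c)) := by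
        simp only [smul_eq_mul, map_mul]; ring
      rw [hcx]
      refine add_mem (Ideal.mul_mem_left _ _ hx) ?_
      have h1 : φ (e x) ∈ p.map φ := Ideal.mem_map_of_mem _ (he_p x hx')
      refine Ideal.mul_mem_mul h1 ?_
      show e (c - φ (e c)) = 0
      rw [map_sub, he, sub_self]
  have H' : ∀ b ∈ J, ∃ t : B, t ∉ q ∧ t * b ∈ p.map φ * J := by
    intro b hb
    obtain ⟨t, ht, htb⟩ := H b hb
    refine ⟨t, ht, ?_⟩
    have := hproj _ htb
    have hz : e (t * b) = 0 := by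
      have hb' : e b = 0 := hb
      rw [map_mul, hb', mul_zero]
    rwa [hz, map_zero, sub_zero] at this
  -- localize at `q`
  let Bq := Localization.AtPrime q
  let Jq : Ideal Bq := J.map (algebraMap B Bq)
  have hJq : (Jq : Submodule Bq Bq).FG := Ideal.FG.map hJ _
  have hle : Jq ≤ (IsLocalRing.maximalIdeal Bq) • Jq := by
    show J.map (algebraMap B Bq) ≤ _
    rw [Ideal.map_le_iff_le_comap]
    intro b hb
    obtain ⟨t, ht, htb⟩ := H' b hb
    show algebraMap B Bq b ∈ (IsLocalRing.maximalIdeal Bq) • Jq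
    have hu : IsUnit (algebraMap B Bq t) :=
      IsLocalization.map_units Bq (⟨t, ht⟩ : q.primeCompl)
    have h1 : algebraMap B Bq (t * b) ∈ (IsLocalRing.maximalIdeal Bq) • Jq := by
      have h2 : algebraMap B Bq (t * b) ∈ (p.map φ * J).map (algebraMap B Bq) :=
        Ideal.mem_map_of_mem _ htb
      rw [Ideal.map_mul] at h2
      rw [smul_eq_mul]
      refine Ideal.mul_mono_left ?_ h2
      rw [Ideal.map_le_iff_le_comap]
      intro y hy
      have hyq : y ∈ q := hpq hy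
      show algebraMap B Bq y ∈ IsLocalRing.maximalIdeal Bq
      rw [← Localization.AtPrime.map_eq_maximalIdeal (I := q)]
      exact Ideal.mem_map_of_mem _ hyq
    rw [map_mul] at h1
    have h3 := Ideal.mul_mem_left _ (↑hu.unit⁻¹ : Bq) h1
    rwa [← mul_assoc, IsUnit.val_inv_mul, one_mul] at h3
  have hbot : Jq = ⊥ :=
    Submodule.eq_bot_of_le_smul_of_le_jacobson_bot _ _ hJq hle
      (IsLocalRing.jacobson_eq_maximalIdeal ⊥ bot_ne_top).ge
  -- each generator is killed by some element outside `q`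
  have hkill : ∀ b ∈ J, ∃ g : B, g ∉ q ∧ g * b = 0 := by
    intro b hb
    have h0 : algebraMap B Bq b = 0 := by
      have : algebraMap B Bq b ∈ Jq := Ideal.mem_map_of_mem _ hb
      rw [hbot] at this
      exact this
    obtain ⟨m, hm⟩ := (IsLocalization.map_eq_zero_iff q.primeCompl Bq b).mp h0
    exact ⟨m, m.2, hm⟩
  obtain ⟨G, hG⟩ := hJ
  classical
  choose! g hg using hkill
  refine ⟨∏ j ∈ G, g j, ?_, ?_⟩
  · intro hmem
    obtain ⟨j, hj, hjq⟩ := (Ideal.IsPrime.prod_mem_iff).mp hmem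
    have : j ∈ J := hG ▸ Ideal.subset_span hj
    exact (hg j this).1 hjq
  · intro b hb
    rw [← hG] at hb
    refine Submodule.span_induction (p := fun b _ => (∏ j ∈ G, g j) * b = 0) ?_ ?_ ?_ ?_ hb
    · intro j hj
      have hjJ : j ∈ J := hG ▸ Ideal.subset_span hj
      rw [← Finset.mul_prod_erase G g hj, mul_comm (g j), mul_assoc, (hg j hjJ).2, mul_zero]
    · simp
    · intro x y _ _ hx hy
      rw [mul_add, hx, hy, add_zero]
    · intro c x _ hx
      rw [smul_eq_mul, mul_left_comm, hx, mul_zero]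

/-- if the fibre of `π` over `y` is `Spec κ(y)`, every point of `X` lying over `Spec κ(y)` factors
through the section `ε`. -/
theorem eq_comp_section {X S : Scheme.{u}} (π : X ⟶ S) (ε : S ⟶ X) (hε : ε ≫ π = 𝟙 S) (y : S)
    (hy : IsIso (π.fiberToSpecResidueField y)) {T : Scheme.{u}} (a : T ⟶ X)
    (c : T ⟶ Spec (S.residueField y)) (h : a ≫ π = c ≫ S.fromSpecResidueField y) :
    a = c ≫ S.fromSpecResidueField y ≫ ε := by
  let l₁ : T ⟶ π.fiber y := pullback.lift a c h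
  let l₂ : T ⟶ π.fiber y := pullback.lift (c ≫ S.fromSpecResidueField y ≫ ε) c (by
    rw [Category.assoc, Category.assoc, hε, Category.comp_id])
  have h12 : l₁ = l₂ := by
    rw [← cancel_mono (π.fiberToSpecResidueField y)]
    show pullback.lift _ _ _ ≫ pullback.snd _ _ = pullback.lift _ _ _ ≫ pullback.snd _ _
    rw [pullback.lift_snd, pullback.lift_snd]
  have h3 := congrArg (fun l => l ≫ π.fiberι y) h12
  have e1 : l₁ ≫ π.fiberι y = a := pullback.lift_fst _ _ _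
  have e2 : l₂ ≫ π.fiberι y = c ≫ S.fromSpecResidueField y ≫ ε := pullback.lift_fst _ _ _
  simp only [e1, e2] at h3
  exact h3

theorem fromSpecStalk_appLE_top {X : Scheme.{u}} {x : X} {U : X.Opens} (hxU : x ∈ U)
    (e : (⊤ : (Spec (X.presheaf.stalk x)).Opens) ≤ (X.fromSpecStalk x) ⁻¹ᵁ U) :
    (X.fromSpecStalk x).appLE U ⊤ e =
      X.presheaf.germ U x hxU ≫ (Scheme.ΓSpecIso (X.presheaf.stalk x)).inv := by
  rw [Scheme.Hom.appLE, Scheme.fromSpecStalk_app hxU, Category.assoc, Category.assoc,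
    ← Functor.map_comp]
  have : (homOfLE le_top).op ≫ (homOfLE e).op = 𝟙 (Opposite.op (⊤ : (Spec (X.presheaf.stalk x)).Opens)) :=
    Subsingleton.elim _ _
  rw [this, CategoryTheory.Functor.map_id, Category.comp_id]

/-- if the fibre of `π` over `π x` is `Spec κ(π x)` and `π` has a section `ε` through `x`, then
sections near `x` whose pullback along `ε` vanishes near `π x` have germ in `𝔪_{π x} 𝒪_{X,x}`. -/
theorem germ_mem_map_of_fibre {X S : Scheme.{u}} (π : X ⟶ S) (ε : S ⟶ X) (hε : ε ≫ π = 𝟙 S)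
    (x : X) (hy : IsIso (π.fiberToSpecResidueField (π x)))
    (U : X.Opens) (hxU : x ∈ U) (hxU' : π x ∈ ε ⁻¹ᵁ U) (b : Γ(X, U))
    (hb : S.presheaf.germ (ε ⁻¹ᵁ U) (π x) hxU' (ε.app U b) = 0) :
    X.presheaf.germ U x hxU b ∈
      Ideal.map (π.stalkMap x).hom (IsLocalRing.maximalIdeal (S.presheaf.stalk (π x))) := by
  set 𝔫 := Ideal.map (π.stalkMap x).hom (IsLocalRing.maximalIdeal (S.presheaf.stalk (π x)))
    with h𝔫
  let R : CommRingCat.{u} := CommRingCat.of (X.presheaf.stalk x ⧸ 𝔫)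
  let θ : X.presheaf.stalk x ⟶ R := CommRingCat.ofHom (Ideal.Quotient.mk 𝔫)
  have hker : ∀ a : S.presheaf.stalk (π x), a ∈ IsLocalRing.maximalIdeal (S.presheaf.stalk (π x)) →
      ((Ideal.Quotient.mk 𝔫).comp (π.stalkMap x).hom) a = 0 := by
    intro a ha
    rw [RingHom.comp_apply, Ideal.Quotient.eq_zero_iff_mem]
    exact Ideal.mem_map_of_mem _ ha
  let ψ₀ : IsLocalRing.ResidueField (S.presheaf.stalk (π x)) →+* (X.presheaf.stalk x ⧸ 𝔫) :=
    Ideal.Quotient.lift (IsLocalRing.maximalIdeal (S.presheaf.stalk (π x)))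
      ((Ideal.Quotient.mk 𝔫).comp (π.stalkMap x).hom) hker
  let ψ : S.residueField (π x) ⟶ R := CommRingCat.ofHom ψ₀
  have hψ : S.residue (π x) ≫ ψ = π.stalkMap x ≫ θ := by
    ext a
    rfl
  let a : Spec R ⟶ X := Spec.map θ ≫ X.fromSpecStalk x
  let c : Spec R ⟶ Spec (S.residueField (π x)) := Spec.map ψ
  have h : a ≫ π = c ≫ S.fromSpecResidueField (π x) := by
    simp only [a, c, Scheme.fromSpecResidueField, Category.assoc]
    rw [← Scheme.SpecMap_stalkMap_fromSpecStalk π, ← Category.assoc, ← Category.assoc,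
      ← Spec.map_comp, ← Spec.map_comp, hψ]
  have key := eq_comp_section π ε hε (π x) hy a c h
  have hatop : (⊤ : (Spec R).Opens) ≤ a ⁻¹ᵁ U := by
    intro t _
    show a t ∈ U
    have : X.fromSpecStalk x (Spec.map θ t) ∈ U := by
      have hr : X.fromSpecStalk x (Spec.map θ t) ∈ Set.range (X.fromSpecStalk x) := ⟨_, rfl⟩
      rw [Scheme.range_fromSpecStalk] at hr
      exact hr.mem_open U.2 hxU
    exact this
  have e1 : a.appLE U ⊤ hatop b = (Scheme.ΓSpecIso R).inv (θ (X.presheaf.germ U x hxU b)) := by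
    have hx' : (⊤ : (Spec (X.presheaf.stalk x)).Opens) ≤ (X.fromSpecStalk x) ⁻¹ᵁ U := by
      intro t _
      have hr : X.fromSpecStalk x t ∈ Set.range (X.fromSpecStalk x) := ⟨_, rfl⟩
      rw [Scheme.range_fromSpecStalk] at hr
      exact hr.mem_open U.2 hxU
    have h1 : a.appLE U ⊤ hatop =
        (X.fromSpecStalk x).appLE U ⊤ hx' ≫ (Spec.map θ).appLE ⊤ ⊤ le_top := by
      rw [Scheme.Hom.appLE_comp_appLE]
    have h2 : (Spec.map θ).appLE ⊤ ⊤ le_top = (Spec.map θ).appTop := by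
      simp [Scheme.Hom.appLE, Scheme.Hom.appTop]
    rw [h1, h2, fromSpecStalk_appLE_top hxU, Category.assoc, ← Scheme.ΓSpecIso_inv_naturality]
    rfl
  have e2 : ∀ (a' : Spec R ⟶ X) (h' : (⊤ : (Spec R).Opens) ≤ a' ⁻¹ᵁ U),
      a' = c ≫ S.fromSpecResidueField (π x) ≫ ε → a'.appLE U ⊤ h' b = 0 := by
    rintro _ h' rfl
    have hy' : (⊤ : (Spec (S.presheaf.stalk (π x))).Opens) ≤
        (S.fromSpecStalk (π x)) ⁻¹ᵁ (ε ⁻¹ᵁ U) := by
      intro t _
      have hr : S.fromSpecStalk (π x) t ∈ Set.range (S.fromSpecStalk (π x)) := ⟨_, rfl⟩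
      rw [Scheme.range_fromSpecStalk] at hr
      exact hr.mem_open (ε ⁻¹ᵁ U).2 hxU'
    have h1 : (c ≫ S.fromSpecResidueField (π x) ≫ ε).appLE U ⊤ h' =
        ε.appLE U (ε ⁻¹ᵁ U) le_rfl ≫ (S.fromSpecStalk (π x)).appLE (ε ⁻¹ᵁ U) ⊤ hy' ≫
          (c ≫ Spec.map (S.residue (π x))).appLE ⊤ ⊤ le_top := by
      rw [Scheme.Hom.appLE_comp_appLE, Scheme.Hom.appLE_comp_appLE]
      simp only [Scheme.fromSpecResidueField, Category.assoc]
    rw [h1, Scheme.Hom.appLE_eq_app, fromSpecStalk_appLE_top hxU']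
    simp only [CommRingCat.comp_apply]
    rw [hb, map_zero, map_zero]
  have e3 := e2 a hatop key
  rw [e1] at e3
  have e4 : θ (X.presheaf.germ U x hxU b) = 0 := by
    have := congrArg (Scheme.ΓSpecIso R).hom e3
    simpa using this
  exact Ideal.Quotient.eq_zero_iff_mem.mp e4

theorem appLE_of_eq_id {S : Scheme.{u}} (f : S ⟶ S) (h : f = 𝟙 S) (V : S.Opens)
    (hle : V ≤ f ⁻¹ᵁ V) : f.appLE V V hle = 𝟙 _ := by
  subst h
  simp only [Scheme.Hom.appLE, Scheme.Hom.id_app]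
  erw [Category.id_comp]
  exact S.presheaf.map_id _

/-- **a morphism with a section, closed underlying map and trivial fibre at `s`, locally of finite
presentation near the section, is an isomorphism over a neighbourhood of `s`.** -/
theorem exists_isIso_morphismRestrict (X S : Scheme.{u}) (π : X ⟶ S) (ε : S ⟶ X)
    (hε : ε ≫ π = 𝟙 S) (hcl : IsClosedMap π.base) (s : S)
    (hfp : ∃ W : X.Opens, ε.base s ∈ W ∧ LocallyOfFinitePresentation (W.ι ≫ π))
    (hs : IsIso (π.fiberToSpecResidueField s)) : ∃ U : S.Opens, s ∈ U ∧ IsIso (π ∣_ U) := by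
  have hπε : ∀ v : S, π (ε v) = v := fun v => by
    have := congrArg (fun f : S ⟶ S => f v) hε
    simpa using this
  set x := ε s with hx
  have hπx : π x = s := hπε s
  have hs' : IsIso (π.fiberToSpecResidueField (π x)) := by rw [hπx]; exact hs
  obtain ⟨W, hxW, hlfp⟩ := hfp
  replace hxW : x ∈ W := hxW
  -- affine charts
  obtain ⟨_, ⟨V₀, hV₀, rfl⟩, hsV₀, -⟩ :=
    S.isBasis_affineOpens.exists_subset_of_mem_open (Set.mem_univ (π x)) isOpen_univ
  replace hV₀ : IsAffineOpen V₀ := hV₀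
  replace hsV₀ : π x ∈ V₀ := hsV₀
  obtain ⟨_, ⟨W₀, hW₀, rfl⟩, hxW₀, hW₀le⟩ :=
    X.isBasis_affineOpens.exists_subset_of_mem_open
      (show x ∈ ((W ⊓ π ⁻¹ᵁ V₀ : X.Opens) : Set X) from ⟨hxW, hsV₀⟩) (W ⊓ π ⁻¹ᵁ V₀).2
  replace hW₀ : IsAffineOpen W₀ := hW₀
  replace hxW₀ : x ∈ W₀ := hxW₀
  replace hW₀le : W₀ ≤ W ⊓ π ⁻¹ᵁ V₀ := hW₀le
  have hεx : ε (π x) = x := by rw [hπx]
  obtain ⟨a, haV, hsa⟩ := hV₀.exists_basicOpen_le
    (V := V₀ ⊓ ε ⁻¹ᵁ W₀) ⟨π x, ⟨hsV₀, show ε (π x) ∈ W₀ by rw [hεx]; exact hxW₀⟩⟩ hsV₀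
  replace hsa : π x ∈ S.basicOpen a := hsa
  set V := S.basicOpen a with hVdef
  have hV : IsAffineOpen V := hV₀.basicOpen a
  have h₀ : W₀ ≤ π ⁻¹ᵁ V₀ := hW₀le.trans inf_le_right
  set W₁ := X.basicOpen (π.appLE V₀ W₀ h₀ a) with hW₁def
  have hW₁ : IsAffineOpen W₁ := hW₀.basicOpen _
  have hW₁eq : W₁ = W₀ ⊓ π ⁻¹ᵁ V := Scheme.basicOpen_appLE π W₀ V₀ h₀ a
  have hxW₁ : x ∈ W₁ := by rw [hW₁eq]; exact ⟨hxW₀, hsa⟩
  have hφle : W₁ ≤ π ⁻¹ᵁ V := by rw [hW₁eq]; exact inf_le_right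
  have hele : V ≤ ε ⁻¹ᵁ W₁ := by
    intro v hv
    show ε v ∈ W₁
    rw [hW₁eq]
    refine ⟨(haV hv).2, ?_⟩
    show π (ε v) ∈ V
    rw [hπε]; exact hv
  have hW₁W : W₁ ≤ W := by rw [hW₁eq]; exact inf_le_left.trans (hW₀le.trans inf_le_left)
  let φ : Γ(S, V) ⟶ Γ(X, W₁) := π.appLE V W₁ hφle
  let e : Γ(X, W₁) ⟶ Γ(S, V) := ε.appLE W₁ V hele
  have hφe : φ ≫ e = 𝟙 _ := by
    simp only [φ, e]
    rw [Scheme.Hom.appLE_comp_appLE]
    exact appLE_of_eq_id _ hε V _
  have he : ∀ a, e.hom (φ.hom a) = a := fun a => by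
    have := congrArg (fun f => f.hom a) hφe
    simpa using this
  -- finite presentation
  have hφfp : φ.hom.FinitePresentation := by
    have hW₁a : IsAffine W₁ := hW₁
    have hl : LocallyOfFinitePresentation (W₁.ι ≫ π) := by
      rw [← X.homOfLE_ι hW₁W, Category.assoc]
      infer_instance
    have htop : (⊤ : W₁.toScheme.Opens) ≤ (W₁.ι ≫ π) ⁻¹ᵁ V := by
      intro t _
      exact hφle t.2
    have h1 := HasRingHomProperty.appLE (P := @LocallyOfFinitePresentation) (W₁.ι ≫ π) hl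
      ⟨V, hV⟩ ⟨⊤, isAffineOpen_top _⟩ htop
    have hle2 : (⊤ : W₁.toScheme.Opens) ≤ W₁.ι ⁻¹ᵁ W₁ := by
      intro t _
      exact t.2
    have h2 : (W₁.ι ≫ π).appLE V ⊤ htop = φ ≫ W₁.ι.appLE W₁ ⊤ hle2 := by
      rw [Scheme.Hom.appLE_comp_appLE]
    have h3 : W₁.ι.appLE W₁ ⊤ hle2 = W₁.topIso.inv := by
      rw [Scheme.Opens.ι_appLE]
      rfl
    have h4 : φ = (W₁.ι ≫ π).appLE V ⊤ htop ≫ W₁.topIso.hom := by
      rw [h2, h3, Category.assoc, Iso.inv_hom_id, Category.comp_id]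
    rw [h4, CommRingCat.hom_comp]
    refine RingHom.FinitePresentation.comp ?_ h1
    have hbij : Function.Bijective W₁.topIso.hom.hom :=
      (ConcreteCategory.isIso_iff_bijective _).mp inferInstance
    refine RingHom.FinitePresentation.of_surjective _ hbij.2 ?_
    rw [(RingHom.injective_iff_ker_eq_bot _).mp hbij.1]
    exact Submodule.fg_bot
  have hJ : (RingHom.ker e.hom).FG := by
    let _ : Algebra Γ(S, V) Γ(X, W₁) := φ.hom.toAlgebra
    have : Algebra.FinitePresentation Γ(S, V) Γ(X, W₁) := hφfp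
    let e' : Γ(X, W₁) →ₐ[Γ(S, V)] Γ(S, V) := { e.hom with commutes' := he }
    have hsurj : Function.Surjective e' := fun a => ⟨φ.hom a, he a⟩
    exact Algebra.FinitePresentation.ker_fG_of_surjective e' hsurj
  -- the primes
  have hyV : π x ∈ V := hsa
  let p : Ideal Γ(S, V) := (hV.primeIdealOf ⟨π x, hyV⟩).asIdeal
  let q : Ideal Γ(X, W₁) := (hW₁.primeIdealOf ⟨x, hxW₁⟩).asIdeal
  let _ : Algebra Γ(S, V) (S.presheaf.stalk (π x)) :=
    TopCat.Presheaf.algebra_section_stalk S.presheaf (⟨π x, hyV⟩ : V)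
  let _ : Algebra Γ(X, W₁) (X.presheaf.stalk x) :=
    TopCat.Presheaf.algebra_section_stalk X.presheaf (⟨x, hxW₁⟩ : W₁)
  have hlocS : IsLocalization.AtPrime (S.presheaf.stalk (π x)) p :=
    hV.isLocalization_stalk ⟨π x, hyV⟩
  have hlocX : IsLocalization.AtPrime (X.presheaf.stalk x) q :=
    hW₁.isLocalization_stalk ⟨x, hxW₁⟩
  have halgS : ∀ a, algebraMap Γ(S, V) (S.presheaf.stalk (π x)) a =
      S.presheaf.germ V (π x) hyV a := fun _ => rfl
  have halgX : ∀ b, algebraMap Γ(X, W₁) (X.presheaf.stalk x) b =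
      X.presheaf.germ W₁ x hxW₁ b := fun _ => rfl
  have hcomm : ∀ a, X.presheaf.germ W₁ x hxW₁ (φ.hom a) =
      (π.stalkMap x).hom (S.presheaf.germ V (π x) hyV a) := by
    intro a
    have h1 := Scheme.Hom.germ_stalkMap_apply π V x hyV a
    rw [h1]
    show X.presheaf.germ W₁ x hxW₁ ((π.app V ≫ X.presheaf.map (homOfLE hφle).op) a) = _
    rw [CommRingCat.comp_apply, TopCat.Presheaf.germ_res_apply]
  have hq : ∀ t, t ∈ q ↔ ¬ IsUnit (X.presheaf.germ W₁ x hxW₁ t) := by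
    intro t
    rw [← IsLocalization.AtPrime.comap_maximalIdeal (X.presheaf.stalk x) q, Ideal.mem_comap,
      IsLocalRing.mem_maximalIdeal, mem_nonunits_iff, halgX]
  have hp : ∀ a, a ∈ p ↔ ¬ IsUnit (S.presheaf.germ V (π x) hyV a) := by
    intro a
    rw [← IsLocalization.AtPrime.comap_maximalIdeal (S.presheaf.stalk (π x)) p, Ideal.mem_comap,
      IsLocalRing.mem_maximalIdeal, mem_nonunits_iff, halgS]
  have hpq : p.map φ.hom ≤ q := by
    rw [Ideal.map_le_iff_le_comap]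
    intro a ha
    rw [Ideal.mem_comap, hq, hcomm]
    rw [hp] at ha
    intro hu
    exact ha (isUnit_of_map_unit (π.stalkMap x).hom _ hu)
  have H : ∀ b ∈ RingHom.ker e.hom, ∃ t, t ∉ q ∧ t * b ∈ p.map φ.hom := by
    intro b hb
    have hxU' : π x ∈ ε ⁻¹ᵁ W₁ := hele hyV
    have hgerm0 : S.presheaf.germ (ε ⁻¹ᵁ W₁) (π x) hxU' (ε.app W₁ b) = 0 := by
      have hb' : e.hom b = 0 := hb
      have h1 : S.presheaf.germ V (π x) hyV (e.hom b) =
          S.presheaf.germ (ε ⁻¹ᵁ W₁) (π x) hxU' (ε.app W₁ b) := by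
        show S.presheaf.germ V (π x) hyV ((ε.app W₁ ≫ S.presheaf.map (homOfLE hele).op) b) = _
        rw [CommRingCat.comp_apply, TopCat.Presheaf.germ_res_apply]
      rw [← h1, hb', map_zero]
    have hmem := germ_mem_map_of_fibre π ε hε x hs' W₁ hxW₁ hxU' b hgerm0
    have hmax : IsLocalRing.maximalIdeal (S.presheaf.stalk (π x)) =
        p.map (algebraMap Γ(S, V) (S.presheaf.stalk (π x))) :=
      (IsLocalization.AtPrime.map_eq_maximalIdeal p (S.presheaf.stalk (π x))).symm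
    rw [hmax, Ideal.map_map] at hmem
    have hcomp : (π.stalkMap x).hom.comp (algebraMap Γ(S, V) (S.presheaf.stalk (π x))) =
        (algebraMap Γ(X, W₁) (X.presheaf.stalk x)).comp φ.hom := by
      ext a
      simp only [RingHom.comp_apply, halgS, halgX, hcomm]
    rw [hcomp, ← Ideal.map_map, ← halgX] at hmem
    obtain ⟨⟨⟨c, hc⟩, m⟩, hcm⟩ :=
      (IsLocalization.mem_map_algebraMap_iff q.primeCompl (X.presheaf.stalk x)).mp hmem
    simp only at hcm
    have h0 : algebraMap Γ(X, W₁) (X.presheaf.stalk x) (b * m - c) = 0 := by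
      rw [map_sub, map_mul, hcm, sub_self]
    obtain ⟨m', hm'⟩ := (IsLocalization.map_eq_zero_iff q.primeCompl _ _).mp h0
    refine ⟨m' * m, ?_, ?_⟩
    · intro hmem'
      rcases (Ideal.IsPrime.mem_or_mem inferInstance hmem') with h | h
      · exact m'.2 h
      · exact m.2 h
    · have : (m' : Γ(X, W₁)) * m * b = m' * c := by
        have h2 : (m' : Γ(X, W₁)) * (b * m - c) = 0 := hm'
        linear_combination h2
      rw [this]
      exact Ideal.mul_mem_left _ _ hc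
  obtain ⟨g, hgq, hgJ⟩ := exists_notMem_mul_eq_zero φ.hom e.hom he hJ p q hpq H
  -- on `W'' = D(g)` the idempotent `π ≫ ε` is the identity
  set W'' := X.basicOpen g with hW''def
  have hW'' : IsAffineOpen W'' := hW₁.basicOpen g
  have hxW'' : x ∈ W'' :=
    (Scheme.mem_basicOpen X g x hxW₁).mpr (not_not.mp ((hq g).not.mp hgq))
  have hW''le : W'' ≤ W₁ := X.basicOpen_le g
  have hr : W'' ≤ (π ≫ ε) ⁻¹ᵁ W₁ := fun z hz => hele (hφle (hW''le hz))
  have hid : W'' ≤ (𝟙 X) ⁻¹ᵁ W₁ := hW''le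
  have hπW'' : W'' ≤ π ⁻¹ᵁ V := hW''le.trans hφle
  have hring : (π ≫ ε).appLE W₁ W'' hr = Scheme.Hom.appLE (𝟙 X) W₁ W'' hid := by
    have h1 : (π ≫ ε).appLE W₁ W'' hr = e ≫ φ ≫ X.presheaf.map (homOfLE hW''le).op := by
      have h2 : π.appLE V W'' hπW'' = φ ≫ X.presheaf.map (homOfLE hW''le).op := by
        simp only [φ]
        rw [Scheme.Hom.appLE_map]
      rw [← h2]
      simp only [e]
      rw [Scheme.Hom.appLE_comp_appLE]
    have h3 : Scheme.Hom.appLE (𝟙 X) W₁ W'' hid = X.presheaf.map (homOfLE hW''le).op := by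
      simp only [Scheme.Hom.appLE, Scheme.Hom.id_app]
      erw [Category.id_comp]
      rfl
    rw [h1, h3]
    ext b
    simp only [CommRingCat.comp_apply]
    have hd : b - φ.hom (e.hom b) ∈ RingHom.ker e.hom := by
      rw [RingHom.mem_ker, map_sub, he, sub_self]
    have hgd := hgJ _ hd
    have hu := RingedSpace.isUnit_res_basicOpen X.toRingedSpace g
    have h4 : X.presheaf.map (homOfLE hW''le).op (g * (b - φ.hom (e.hom b))) = 0 := by
      rw [hgd, map_zero]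
    rw [map_mul] at h4
    have h5 : X.presheaf.map (homOfLE hW''le).op (b - φ.hom (e.hom b)) = 0 :=
      (hu.mul_right_eq_zero).mp h4
    rw [map_sub, sub_eq_zero] at h5
    exact h5.symm
  have ha : W''.ι ≫ π ≫ ε = W''.ι := by
    have h1 := IsAffineOpen.SpecMap_appLE_fromSpec (π ≫ ε) hW₁ hW'' hr
    have h2 := IsAffineOpen.SpecMap_appLE_fromSpec (𝟙 X) hW₁ hW'' hid
    rw [hring, h2, Category.comp_id] at h1
    rw [← hW''.isoSpec_inv_ι, Category.assoc] at h1
    exact ((cancel_epi _).mp h1).symm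
  -- the fibre over `π x` is `{x}`
  have hfib : ∀ z : X, π z = π x → z = x := by
    intro z hz
    have hz' : z ∈ Set.range (π.fiberι (π x)) := by
      rw [Scheme.Hom.range_fiberι]; exact hz
    have hx' : x ∈ Set.range (π.fiberι (π x)) := by
      rw [Scheme.Hom.range_fiberι]; rfl
    obtain ⟨z₀, rfl⟩ := hz'
    obtain ⟨x₀, hx₀⟩ := hx'
    have hinj : Function.Injective (π.fiberToSpecResidueField (π x)) :=
      ((TopCat.homeoOfIso (asIso (π.fiberToSpecResidueField (π x)).base)).injective)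
    have : z₀ = x₀ := hinj (Subsingleton.elim (α := PrimeSpectrum _) _ _)
    rw [this, hx₀]
  let U : S.Opens := ⟨(π '' (W'' : Set X)ᶜ)ᶜ, (hcl _ W''.2.isClosed_compl).isOpen_compl⟩
  have hsU : π x ∈ U := by
    rintro ⟨z, hz, hzs⟩
    exact hz (hfib z hzs ▸ hxW'')
  have hUW : π ⁻¹ᵁ U ≤ W'' := by
    intro z hz
    by_contra hzW
    exact hz ⟨z, hzW, rfl⟩
  refine ⟨U, hπx ▸ hsU, ?_⟩
  have hεU : ∀ v : U, ε v.1 ∈ π ⁻¹ᵁ U := fun v => by
    show π (ε v.1) ∈ U
    rw [hπε]; exact v.2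
  let ε' : U.toScheme ⟶ (π ⁻¹ᵁ U).toScheme := IsOpenImmersion.lift (π ⁻¹ᵁ U).ι (U.ι ≫ ε) (by
    rintro _ ⟨v, rfl⟩
    rw [Scheme.Opens.range_ι]
    exact hεU v)
  have hε' : ε' ≫ (π ⁻¹ᵁ U).ι = U.ι ≫ ε := IsOpenImmersion.lift_fac _ _ _
  refine ⟨ε', ?_, ?_⟩
  · rw [← cancel_mono (π ⁻¹ᵁ U).ι, Category.assoc, hε', ← Category.assoc, morphismRestrict_ι,
      Category.assoc, Category.id_comp]
    rw [← X.homOfLE_ι hUW, Category.assoc, ha]
  · rw [← cancel_mono U.ι, Category.assoc, morphismRestrict_ι, ← Category.assoc, hε',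
      Category.assoc, hε, Category.comp_id, Category.id_comp]

end Groth.Agent.Lib.Helper54.SectionIso
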