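import Mathlib

set_option autoImplicit false
universe v u w

open CategoryTheory CategoryTheory.Limits Opposite

namespace Groth.Agent.Lib.Helper54.SheafExactLift

variable {C : Type u} [Category.{v} C] {J : GrothendieckTopology C}

/-- In an exact sequence of abelian sheaves, a section of the middle term killed by the second map
lifts, locally for the topology, to the first term. -/
theorem exists_local_lift [HasSheafify J AddCommGrpCat.{w}]
    [J.HasSheafCompose (forget AddCommGrpCat.{w})] [Balanced (Sheaf J AddCommGrpCat.{w})]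
    [Abelian (Sheaf J AddCommGrpCat.{w})] [J.WEqualsLocallyBijective AddCommGrpCat.{w}]
    {S : ShortComplex (Sheaf J AddCommGrpCat.{w})} (hS : S.Exact) {Y : C}
    (x₂ : S.X₂.obj.obj (op Y)) (hx : S.g.hom.app (op Y) x₂ = 0) :
    ∃ R : Sieve Y, R ∈ J Y ∧ ∀ ⦃Z : C⦄ (f : Z ⟶ Y), R f →
      ∃ x₁ : S.X₁.obj.obj (op Z), S.f.hom.app (op Z) x₁ = S.X₂.obj.map f.op x₂ := by
  have hepi : Epi S.toCycles := hS.epi_toCycles
  have hls : Sheaf.IsLocallySurjective S.toCycles :=
    (Sheaf.isLocallySurjective_iff_epi' AddCommGrpCat.{w} _).2 hepi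
  -- sections functor
  let E : Sheaf J AddCommGrpCat.{w} ⥤ AddCommGrpCat.{w} :=
    sheafToPresheaf J _ ⋙ (evaluation _ _).obj (op Y)
  have : E.PreservesZeroMorphisms := ⟨fun _ _ => rfl⟩
  have hlim := isLimitForkMapOfIsLimit' E S.iCycles_g S.cyclesIsKernel
  -- the kernel subgroup as a test object
  let W : AddCommGrpCat.{w} := AddCommGrpCat.of (E.map S.g).hom.ker
  let ιW : W ⟶ E.obj S.X₂ := AddCommGrpCat.ofHom (AddSubgroup.subtype _)
  have hιW : ιW ≫ E.map S.g = 0 := by
    ext ⟨a, ha⟩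
    exact ha
  obtain ⟨l, hl⟩ := KernelFork.IsLimit.lift' hlim ιW hιW
  let c : S.cycles.obj.obj (op Y) := l ⟨x₂, hx⟩
  have hc : S.iCycles.hom.app (op Y) c = x₂ := by
    have := congrArg (fun m => m ⟨x₂, hx⟩) (congrArg (fun m => m.hom) hl)
    exact this
  refine ⟨Presheaf.imageSieve S.toCycles.hom c, hls.imageSieve_mem c, fun Z f hf => ?_⟩
  obtain ⟨x₁, hx₁⟩ := hf
  refine ⟨x₁, ?_⟩
  have h1 : S.f.hom.app (op Z) x₁ = S.iCycles.hom.app (op Z) (S.toCycles.hom.app (op Z) x₁) := by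
    have := congrArg (fun m : S.X₁ ⟶ S.X₂ => m.hom.app (op Z) x₁) S.toCycles_i
    exact this.symm
  rw [h1, hx₁, ← hc]
  exact (NatTrans.naturality_apply S.iCycles.hom f.op c)

end Groth.Agent.Lib.Helper54.SheafExactLift
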