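import Mathlib.RingTheory.Smooth.StandardSmoothOfFree
import Mathlib.RingTheory.Smooth.StandardSmoothCotangent
import Mathlib.RingTheory.Etale.Basic
import Mathlib.RingTheory.Nilpotent.Lemmas
import Mathlib.RingTheory.Polynomial.Basic
import Mathlib.RingTheory.Localization.Away.Basic

/-!
helper54: lifting a standard smooth algebra along an arbitrary surjection `R → R₀` of base rings
(lift the relations of a submersive presentation and invert the Jacobian).
(First half adapted from helper57's `EtaleLiftRing.exists_lift_of_presentation`.)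
-/

set_option autoImplicit false

universe u

namespace Groth.Agent.Lib.Helper54.SmoothLift

open MvPolynomial

theorem exists_global_lift {R R₀ B₀ : Type u} [CommRing R] [CommRing R₀] [CommRing B₀]
    [Algebra R₀ B₀] (π : R →+* R₀) (hπ : Function.Surjective π)
    {ι σ : Type} [Finite σ] [Finite ι] (P : Algebra.SubmersivePresentation R₀ B₀ ι σ) :
    ∃ (B : Type u) (_ : CommRing B) (_ : Algebra R B) (πB : B →+* B₀),
      Algebra.IsStandardSmooth R B ∧ Function.Surjective πB ∧
        RingHom.ker πB = (RingHom.ker π).map (algebraMap R B) ∧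
        πB.comp (algebraMap R B) = (algebraMap R₀ B₀).comp π := by
  classical
  cases nonempty_fintype σ
  have hmapπ : Function.Surjective (MvPolynomial.map (σ := ι) π) :=
    MvPolynomial.map_surjective π hπ
  choose v hv using fun j => hmapπ (P.relation j)
  let I : Ideal (MvPolynomial ι R) := Ideal.span (Set.range v)
  let ψ : MvPolynomial ι R →+* B₀ := (algebraMap P.Ring B₀).comp (MvPolynomial.map π)
  have hψv : ∀ j, ψ (v j) = 0 := by
    intro j
    change algebraMap P.Ring B₀ (MvPolynomial.map π (v j)) = 0
    rw [hv j]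
    exact P.relation_mem_ker j
  have hψI : ∀ x ∈ I, ψ x = 0 := by
    intro x hx
    have hle : I ≤ RingHom.ker ψ := by
      refine Ideal.span_le.mpr ?_
      rintro _ ⟨j, rfl⟩
      exact hψv j
    exact hle hx
  let πC : (MvPolynomial ι R ⧸ I) →+* B₀ := Ideal.Quotient.lift I ψ hψI
  have hπC_mk : ∀ f, πC (Ideal.Quotient.mk I f) = ψ f := fun f => Ideal.Quotient.lift_mk I ψ hψI
  have hψsurj : Function.Surjective ψ := P.algebraMap_surjective.comp hmapπ
  have hπCsurj : Function.Surjective πC := by
    intro c
    obtain ⟨f, rfl⟩ := hψsurj c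
    exact ⟨Ideal.Quotient.mk I f, hπC_mk f⟩
  have hπCalg : ∀ b : R, πC (algebraMap R (MvPolynomial ι R ⧸ I) b) = algebraMap R₀ B₀ (π b) := by
    intro b
    have h1 : algebraMap R (MvPolynomial ι R ⧸ I) b = Ideal.Quotient.mk I (MvPolynomial.C b) := rfl
    rw [h1, hπC_mk]
    change algebraMap P.Ring B₀ (MvPolynomial.map π (MvPolynomial.C b)) = _
    rw [MvPolynomial.map_C, P.algebraMap_apply, MvPolynomial.aeval_C]
  -- the kernel of `πC`
  have hker : RingHom.ker πC = (RingHom.ker π).map (algebraMap R (MvPolynomial ι R ⧸ I)) := by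
    apply le_antisymm
    · intro x hx
      rw [RingHom.mem_ker] at hx
      obtain ⟨f, rfl⟩ := Ideal.Quotient.mk_surjective x
      rw [hπC_mk] at hx
      have h1 : MvPolynomial.map π f ∈ P.ker := hx
      rw [← P.span_range_relation_eq_ker] at h1
      have h2 : Ideal.span (Set.range P.relation) =
          Ideal.map (MvPolynomial.map (σ := ι) π) I := by
        rw [Ideal.map_span, ← Set.range_comp]
        congr 2
        ext j : 1
        exact (hv j).symm
      rw [h2, Ideal.mem_map_iff_of_surjective _ hmapπ] at h1
      obtain ⟨g, hgI, hg⟩ := h1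
      have h3 : f - g ∈ RingHom.ker (MvPolynomial.map (σ := ι) π) := by
        rw [RingHom.mem_ker, map_sub, hg, sub_self]
      rw [MvPolynomial.ker_map] at h3
      have h4 : Ideal.Quotient.mk I f = Ideal.Quotient.mk I (f - g) := by
        rw [map_sub, Ideal.Quotient.eq_zero_iff_mem.mpr hgI, sub_zero]
      rw [h4]
      have h5 : (RingHom.ker π).map (algebraMap R (MvPolynomial ι R ⧸ I)) =
          ((RingHom.ker π).map (MvPolynomial.C (σ := ι))).map (Ideal.Quotient.mk I) := by
        rw [Ideal.map_map]
        rfl
      rw [h5]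
      exact Ideal.mem_map_of_mem _ h3
    · rw [Ideal.map_le_iff_le_comap]
      intro b hb
      rw [RingHom.mem_ker] at hb
      rw [Ideal.mem_comap, RingHom.mem_ker, hπCalg, hb, map_zero]
  let Q : Algebra.PreSubmersivePresentation R (MvPolynomial ι R ⧸ I) ι σ :=
    Algebra.PreSubmersivePresentation.naive (v := v) P.map P.map_inj
  have hjac : πC Q.jacobian = P.jacobian := by
    rw [Q.jacobian_eq_jacobiMatrix_det, P.jacobian_eq_jacobiMatrix_det]
    have hmk : ∀ x : MvPolynomial ι R, algebraMap Q.Ring (MvPolynomial ι R ⧸ I) x =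
        Ideal.Quotient.mk I x := fun x => rfl
    rw [hmk, hπC_mk, RingHom.map_det, RingHom.map_det]
    congr 1
    ext a b
    simp only [RingHom.mapMatrix_apply, Matrix.map_apply]
    rw [P.jacobiMatrix_apply]
    have : Q.jacobiMatrix a b = MvPolynomial.pderiv (P.map a) (v b) :=
      Algebra.PreSubmersivePresentation.jacobiMatrix_naive _ _ _ _ a b
    rw [this]
    change algebraMap P.Ring B₀ (MvPolynomial.map π (MvPolynomial.pderiv (P.map a) (v b))) = _
    rw [← MvPolynomial.pderiv_map, hv b]
  -- localize at the jacobian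
  let D := MvPolynomial ι R ⧸ I
  let Δ : D := Q.jacobian
  have hΔunit : IsUnit (πC Δ) := hjac ▸ P.jacobian_isUnit
  let B := Localization.Away Δ
  let πB : B →+* B₀ := IsLocalization.Away.lift Δ hΔunit
  have hπB_alg : ∀ d : D, πB (algebraMap D B d) = πC d := fun d =>
    IsLocalization.Away.lift_eq Δ hΔunit d
  have hπBsurj : Function.Surjective πB := by
    intro c
    obtain ⟨d, rfl⟩ := hπCsurj c
    exact ⟨algebraMap D B d, hπB_alg d⟩
  have hcomp : πB.comp (algebraMap R B) = (algebraMap R₀ B₀).comp π := by
    ext r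
    have : algebraMap R B r = algebraMap D B (algebraMap R D r) :=
      IsScalarTower.algebraMap_apply R D B r
    rw [RingHom.comp_apply, this, hπB_alg, hπCalg]
    rfl
  have hkerB : RingHom.ker πB = (RingHom.ker π).map (algebraMap R B) := by
    apply le_antisymm
    · intro x hx
      rw [RingHom.mem_ker] at hx
      obtain ⟨k, n, hxn⟩ := IsLocalization.Away.surj Δ x
      have hn : n ∈ RingHom.ker πC := by
        rw [RingHom.mem_ker, ← hπB_alg, ← hxn, map_mul, hx, zero_mul]
      rw [hker] at hn
      have hn' : algebraMap D B n ∈ (RingHom.ker π).map (algebraMap R B) := by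
        have h1 : (RingHom.ker π).map (algebraMap R B) =
            ((RingHom.ker π).map (algebraMap R D)).map (algebraMap D B) := by
          rw [Ideal.map_map]
          congr 1
        rw [h1]
        exact Ideal.mem_map_of_mem _ hn
      have hu : IsUnit (algebraMap D B Δ ^ k) :=
        (IsLocalization.map_units B (⟨Δ, 1, by simp⟩ : Submonoid.powers Δ)).pow k
      obtain ⟨u, hu'⟩ := hu
      have hx' : x = algebraMap D B n * ↑u⁻¹ := by
        rw [← hxn, ← hu', mul_assoc, Units.mul_inv, mul_one]
      rw [hx']
      exact Ideal.mul_mem_right _ _ hn'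
    · rw [Ideal.map_le_iff_le_comap]
      intro b hb
      rw [RingHom.mem_ker] at hb
      rw [Ideal.mem_comap, RingHom.mem_ker]
      have := congrArg (fun f => f b) hcomp
      simp only [RingHom.comp_apply] at this
      rw [this, hb, map_zero]
  -- standard smoothness
  let QB : Algebra.PreSubmersivePresentation D B Unit Unit :=
    Algebra.PreSubmersivePresentation.localizationAway B Δ
  let QQ : Algebra.PreSubmersivePresentation R B (Unit ⊕ ι) (Unit ⊕ σ) := QB.comp Q
  have hQQ : IsUnit QQ.jacobian := by
    rw [Algebra.PreSubmersivePresentation.comp_jacobian_eq_jacobian_smul_jacobian,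
      Algebra.smul_def, IsUnit.mul_iff]
    constructor
    · exact IsLocalization.map_units B (⟨Δ, 1, by simp⟩ : Submonoid.powers Δ)
    · rw [Algebra.PreSubmersivePresentation.localizationAway_jacobian]
      exact IsLocalization.map_units B (⟨Δ, 1, by simp⟩ : Submonoid.powers Δ)
  have hstd : Algebra.IsStandardSmooth R B :=
    ⟨_, _, inferInstance, inferInstance, ⟨⟨QQ, hQQ⟩⟩⟩
  exact ⟨B, inferInstance, inferInstance, πB, hstd, hπBsurj, hkerB, hcomp⟩

end Groth.Agent.Lib.Helper54.SmoothLift
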