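import Groth.Agent.Lib.Helper54.SmoothLift
import Groth.Agent.Lib.Helper54.FSchSpf2
import Mathlib.RingTheory.RingHom.LocallyStandardSmooth
import Mathlib.AlgebraicGeometry.Morphisms.Smooth

/-! helper54: scheme-level consequences of `SmoothLift.exists_global_lift`. -/

set_option autoImplicit false
universe u
open AlgebraicGeometry CategoryTheory CategoryTheory.Limits

namespace Groth.Agent.Lib.Helper54.SmoothLift

/-- A commutative square of rings with surjective horizontal maps `π`, `πB` such that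
`ker πB` is generated by `ker π` is a pushout. -/
theorem isPushout_of_surjective {R R₀ B B₀ : CommRingCat.{u}} (φ : R ⟶ B) (π : R ⟶ R₀)
    (πB : B ⟶ B₀) (φ₀ : R₀ ⟶ B₀) (w : φ ≫ πB = π ≫ φ₀)
    (hπ : Function.Surjective π.hom) (hπB : Function.Surjective πB.hom)
    (hker : RingHom.ker πB.hom = (RingHom.ker π.hom).map φ.hom) : IsPushout φ π πB φ₀ := by
  have hle : ∀ s : PushoutCocone φ π, RingHom.ker πB.hom ≤ RingHom.ker s.inl.hom := by
    intro s
    rw [hker, Ideal.map_le_iff_le_comap]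
    intro r hr
    rw [RingHom.mem_ker] at hr
    rw [Ideal.mem_comap, RingHom.mem_ker]
    have h1 : s.inl.hom (φ.hom r) = s.inr.hom (π.hom r) := congrArg (fun f => f.hom r) s.condition
    rw [h1, hr, map_zero]
  have hdesc : ∀ (s : PushoutCocone φ π) (b : B),
      (RingHom.liftOfSurjective πB.hom hπB ⟨s.inl.hom, hle s⟩) (πB.hom b) = s.inl.hom b :=
    fun s b => RingHom.liftOfRightInverse_comp_apply _ _ (Function.rightInverse_surjInv hπB) _ b
  refine ⟨⟨w⟩, ⟨PushoutCocone.IsColimit.mk _ (fun s => CommRingCat.ofHom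
    (RingHom.liftOfSurjective πB.hom hπB ⟨s.inl.hom, hle s⟩)) ?_ ?_ ?_⟩⟩
  · intro s
    ext b
    exact hdesc s b
  · intro s
    ext r₀
    obtain ⟨r, rfl⟩ := hπ r₀
    have h1 : φ₀.hom (π.hom r) = πB.hom (φ.hom r) := (congrArg (fun f => f.hom r) w).symm
    have h2 : s.inl.hom (φ.hom r) = s.inr.hom (π.hom r) := congrArg (fun f => f.hom r) s.condition
    show (RingHom.liftOfSurjective πB.hom hπB ⟨s.inl.hom, hle s⟩) (φ₀.hom (π.hom r)) = _
    rw [h1, hdesc, h2]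
  · intro s m h1 h2
    ext b₀
    obtain ⟨b, rfl⟩ := hπB b₀
    have h3 : m.hom (πB.hom b) = s.inl.hom b := congrArg (fun f => f.hom b) h1
    show m.hom (πB.hom b) = (RingHom.liftOfSurjective πB.hom hπB ⟨s.inl.hom, hle s⟩) (πB.hom b)
    rw [h3, hdesc]

/-- Local structure of a smooth morphism over a prescribed affine open of the target. -/
theorem exists_affine_isStandardSmooth {Y₀ S₀ : Scheme.{u}} (b : Y₀ ⟶ S₀) [Smooth b]
    (W₀ : S₀.Opens) (hW₀ : IsAffineOpen W₀) (y : Y₀) (hyW : b y ∈ W₀) (O : Y₀.Opens)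
    (hyO : y ∈ O) :
    ∃ (V₀ : Y₀.Opens) (_ : IsAffineOpen V₀) (_ : y ∈ V₀) (_ : V₀ ≤ O) (e : V₀ ≤ b ⁻¹ᵁ W₀),
      (b.appLE W₀ V₀ e).hom.IsStandardSmooth := by
  have hmem : y ∈ b ⁻¹ᵁ W₀ ⊓ O := ⟨hyW, hyO⟩
  obtain ⟨V', hV', hyV', hV'le⟩ := exists_isAffineOpen_mem_and_subset (x := y)
    (U := b ⁻¹ᵁ W₀ ⊓ O) hmem
  have e' : V' ≤ b ⁻¹ᵁ W₀ := hV'le.trans inf_le_left
  have hsm : RingHom.Smooth (b.appLE W₀ V' e').hom :=
    HasRingHomProperty.appLE (P := @Smooth) b inferInstance ⟨W₀, hW₀⟩ ⟨V', hV'⟩ e'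
  rw [RingHom.smooth_iff_locally_isStandardSmooth] at hsm
  obtain ⟨s, hs, hst⟩ := hsm
  -- choose `t ∈ s` not in the prime of `y`
  let 𝔮 := hV'.primeIdealOf ⟨y, hyV'⟩
  have hex : ∃ t ∈ s, t ∉ 𝔮.asIdeal := by
    by_contra hcon
    push Not at hcon
    have hle : Ideal.span s ≤ 𝔮.asIdeal := Ideal.span_le.mpr hcon
    rw [hs] at hle
    exact 𝔮.isPrime.ne_top (top_le_iff.mp hle)
  obtain ⟨t, hts, ht𝔮⟩ := hex
  have hV₀ : IsAffineOpen (Y₀.basicOpen t) := hV'.basicOpen t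
  have hyV₀ : y ∈ Y₀.basicOpen t := by
    have h1 : hV'.fromSpec 𝔮 = y := hV'.fromSpec_primeIdealOf ⟨y, hyV'⟩
    have h2 : 𝔮 ∈ hV'.fromSpec ⁻¹ᵁ Y₀.basicOpen t := by
      rw [hV'.fromSpec_preimage_basicOpen]
      exact ht𝔮
    rw [← h1]
    exact h2
  have hle₀ : Y₀.basicOpen t ≤ V' := Y₀.basicOpen_le t
  refine ⟨Y₀.basicOpen t, hV₀, hyV₀, hle₀.trans (hV'le.trans inf_le_right), hle₀.trans e', ?_⟩
  have hloc : IsLocalization.Away t Γ(Y₀, Y₀.basicOpen t) := hV'.isLocalization_basicOpen t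
  let ε : Localization.Away t ≃ₐ[Γ(Y₀, V')] Γ(Y₀, Y₀.basicOpen t) :=
    IsLocalization.algEquiv (Submonoid.powers t) _ _
  have h1 := RingHom.isStandardSmooth_respectsIso.1 _ ε.toRingEquiv (hst t hts)
  convert h1 using 1
  ext r
  have h2 : (b.appLE W₀ (Y₀.basicOpen t) (hle₀.trans e')).hom r =
      (Y₀.presheaf.map (homOfLE hle₀).op).hom ((b.appLE W₀ V' e').hom r) := by
    rw [← Scheme.Hom.appLE_map b e' (homOfLE hle₀).op]
    rfl
  rw [h2]
  simp only [RingHom.comp_apply]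
  exact (ε.commutes _).symm

/-- **Local smooth lifting over a closed subscheme**: a smooth `S₀`-scheme is, locally, the
base change of a smooth affine scheme over an affine open of `S`. -/
theorem exists_local_lift {S S₀ Y₀ : Scheme.{u}} (i : S₀ ⟶ S) [IsClosedImmersion i]
    (W : S.Opens) (hW : IsAffineOpen W) (b : Y₀ ⟶ S₀) [Smooth b] (y : Y₀) (hy : i (b y) ∈ W)
    (O : Y₀.Opens) (hyO : y ∈ O) :
    ∃ (V₀ : Y₀.Opens) (_ : IsAffineOpen V₀) (_ : y ∈ V₀) (_ : V₀ ≤ O) (B : Type u)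
      (_ : CommRing B) (_ : Algebra Γ(S, W) B) (_ : Algebra.Smooth Γ(S, W) B)
      (j : V₀.toScheme ⟶ Spec (CommRingCat.of B)),
      IsPullback j (V₀.ι ≫ b)
        (Spec.map (CommRingCat.ofHom (algebraMap Γ(S, W) B)) ≫ hW.fromSpec) i := by
  have hW₀ : IsAffineOpen (i ⁻¹ᵁ W) := hW.preimage i
  obtain ⟨V₀, hV₀, hyV₀, hV₀O, e, hstd⟩ :=
    exists_affine_isStandardSmooth b (i ⁻¹ᵁ W) hW₀ y hy O hyO
  have hπ : Function.Surjective (i.app W).hom := i.app_surjective W hW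
  algebraize [(b.appLE (i ⁻¹ᵁ W) V₀ e).hom]
  obtain ⟨ι, σ, _, _, ⟨P⟩⟩ :=
    (inferInstance : Algebra.IsStandardSmooth Γ(S₀, i ⁻¹ᵁ W) Γ(Y₀, V₀)).out
  obtain ⟨B, _, _, πB, hBstd, hπBsurj, hkerB, hcomp⟩ := exists_global_lift (i.app W).hom hπ P
  refine ⟨V₀, hV₀, hyV₀, hV₀O, B, inferInstance, inferInstance, inferInstance,
    hV₀.isoSpec.hom ≫ Spec.map (CommRingCat.ofHom πB), ?_⟩
  have w : CommRingCat.ofHom (algebraMap Γ(S, W) B) ≫ CommRingCat.ofHom πB =
      i.app W ≫ b.appLE (i ⁻¹ᵁ W) V₀ e := by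
    ext r
    exact congrArg (fun f => f r) hcomp
  have sqI := isPullback_SpecMap_of_isPushout _ _ _ _
    (isPushout_of_surjective (CommRingCat.ofHom (algebraMap Γ(S, W) B)) (i.app W)
      (CommRingCat.ofHom πB) (b.appLE (i ⁻¹ᵁ W) V₀ e) w hπ hπBsurj hkerB)
  have H : hW₀.fromSpec ≫ i = Spec.map (i.app W) ≫ hW.fromSpec := by
    have := hW.SpecMap_appLE_fromSpec i hW₀ (le_refl _)
    rw [← this]
    congr 2
    exact (Scheme.Hom.app_eq_appLE _).symm
  have sqII : IsPullback (Spec.map (i.app W)) hW₀.fromSpec hW.fromSpec i :=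
    IsOpenImmersion.isPullback _ _ _ _ H (by
      rw [hW.opensRange_fromSpec, hW₀.opensRange_fromSpec])
  have sq := sqI.paste_vert sqII
  have h3 : Spec.map (b.appLE (i ⁻¹ᵁ W) V₀ e) ≫ hW₀.fromSpec = hV₀.fromSpec ≫ b :=
    hW₀.SpecMap_appLE_fromSpec b hV₀ e
  rw [h3] at sq
  refine sq.of_iso hV₀.isoSpec.symm (Iso.refl _) (Iso.refl _) (Iso.refl _) ?_ ?_ ?_ ?_
  · rw [Iso.refl_hom, Category.comp_id, Iso.symm_hom, Iso.inv_hom_id_assoc]
  · rw [Iso.refl_hom, Category.comp_id, Iso.symm_hom, ← hV₀.isoSpec_hom_fromSpec, Category.assoc,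
      Iso.inv_hom_id_assoc]
  · rw [Iso.refl_hom, Iso.refl_hom, Category.comp_id, Category.id_comp]
  · rw [Iso.refl_hom, Iso.refl_hom, Category.comp_id, Category.id_comp]

/-- Infinitesimal lifting for `Spec B ⟶ Spec R` with `B` formally smooth over `R`, against a
surjection of rings with nilpotent kernel. -/
theorem exists_lift_Spec {R B : Type u} [CommRing R] [CommRing B] [Algebra R B]
    [Algebra.FormallySmooth R B] {A A' : CommRingCat.{u}} (τ : A' ⟶ A)
    (hτ : Function.Surjective τ.hom) (hnil : IsNilpotent (RingHom.ker τ.hom))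
    (α : Spec A ⟶ Spec (CommRingCat.of B)) (β : Spec A' ⟶ Spec (CommRingCat.of R))
    (w : Spec.map τ ≫ β = α ≫ Spec.map (CommRingCat.ofHom (algebraMap R B))) :
    ∃ α' : Spec A' ⟶ Spec (CommRingCat.of B), Spec.map τ ≫ α' = α ∧
      α' ≫ Spec.map (CommRingCat.ofHom (algebraMap R B)) = β := by
  obtain ⟨a, rfl⟩ := Spec.map_surjective α
  obtain ⟨r', rfl⟩ := Spec.map_surjective β
  rw [← Spec.map_comp, ← Spec.map_comp, Spec.map_inj] at w
  letI : Algebra R A' := r'.hom.toAlgebra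
  letI : Algebra R A := (r' ≫ τ).hom.toAlgebra
  let τa : A' →ₐ[R] A := { τ.hom with commutes' := fun _ => rfl }
  have hcomm : ∀ r : R, a.hom (algebraMap R B r) = (r' ≫ τ).hom r := fun r =>
    (congrArg (fun f => f.hom r) w).symm
  let aa : B →ₐ[R] A := { a.hom with commutes' := hcomm }
  let a' : B →ₐ[R] A' := Algebra.FormallySmooth.liftOfSurjective aa τa hτ hnil
  have ha' : ∀ x, τ.hom (a' x) = a.hom x := fun x =>
    Algebra.FormallySmooth.liftOfSurjective_apply aa τa hτ hnil x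
  refine ⟨Spec.map (CommRingCat.ofHom a'.toRingHom), ?_, ?_⟩
  · rw [← Spec.map_comp, Spec.map_inj]
    ext x
    exact ha' x
  · rw [← Spec.map_comp, Spec.map_inj]
    ext r
    exact a'.commutes r

/-- Infinitesimal lifting for `Spec B ⟶ Spec R` with `B` formally smooth over `R`, against a
closed immersion of affine schemes with nilpotent ideal. -/
theorem exists_lift_of_isAffine {R B : Type u} [CommRing R] [CommRing B] [Algebra R B]
    [Algebra.FormallySmooth R B] {T T' : Scheme.{u}} [IsAffine T] [IsAffine T'] (t : T ⟶ T')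
    (hτ : Function.Surjective t.appTop.hom) (hnil : IsNilpotent (RingHom.ker t.appTop.hom))
    (α : T ⟶ Spec (CommRingCat.of B)) (β : T' ⟶ Spec (CommRingCat.of R))
    (w : t ≫ β = α ≫ Spec.map (CommRingCat.ofHom (algebraMap R B))) :
    ∃ α' : T' ⟶ Spec (CommRingCat.of B), t ≫ α' = α ∧
      α' ≫ Spec.map (CommRingCat.ofHom (algebraMap R B)) = β := by
  have hnat : T.isoSpec.hom ≫ Spec.map t.appTop = t ≫ T'.isoSpec.hom :=
    Scheme.isoSpec_hom_naturality t
  have hnat' : Spec.map t.appTop ≫ T'.isoSpec.inv = T.isoSpec.inv ≫ t :=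
    Scheme.isoSpec_inv_naturality t
  obtain ⟨α₁, h1, h2⟩ := exists_lift_Spec (R := R) (B := B) t.appTop hτ hnil
    (T.isoSpec.inv ≫ α) (T'.isoSpec.inv ≫ β) (by
      rw [← Category.assoc, hnat', Category.assoc, w, Category.assoc])
  refine ⟨T'.isoSpec.hom ≫ α₁, ?_, ?_⟩
  · rw [← Category.assoc, ← hnat, Category.assoc, h1, Iso.hom_inv_id_assoc]
  · rw [Category.assoc, h2, Iso.hom_inv_id_assoc]

end Groth.Agent.Lib.Helper54.SmoothLift
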