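import Mathlib
import Groth.Agent.Lib.Helper81.GeomQuotOpen
import Groth.Prelude.Def_W4bk4git07Quot

set_option autoImplicit false
universe u
open CategoryTheory MonoidalCategory CartesianMonoidalCategory MonObj AlgebraicGeometry Limits

namespace Groth.Agent.Lib.Helper54.StabGrp

open Groth.Agent.Lib.Helper81.GeomQuotOpen

variable {S : Scheme.{u}} {G : Over S} (X : Over S) [GrpObj G] (a : AlgGrp.Action G X)

/-- `T` over `X.left` viewed over `S` -/
abbrev overS (T : Over X.left) : Over S := Over.mk (T.hom ≫ X.hom)

/-- the tautological `T`-point of `X` -/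
abbrev pt (T : Over X.left) : overS X T ⟶ X := Over.homMk T.hom rfl

abbrev mapS {T' T : Over X.left} (φ : T' ⟶ T) : overS X T' ⟶ overS X T :=
  Over.homMk φ.left (by simp)

lemma mapS_pt {T' T : Over X.left} (φ : T' ⟶ T) : mapS X φ ≫ pt X T = pt X T' := by
  ext; simp

variable {X}

/-- the stabilizer subgroup of the tautological point -/
def stabSubgroup (T : Over X.left) : Subgroup (overS X T ⟶ G) where
  carrier := {g | lift g (pt X T) ≫ a.act = pt X T}
  mul_mem' := by
    intro g g' hg hg'
    show lift (g * g') (pt X T) ≫ a.act = pt X T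
    rw [← act_act, hg', hg]
  one_mem' := one_act' a _
  inv_mem' := by
    intro g hg
    show lift g⁻¹ (pt X T) ≫ a.act = pt X T
    have hg' : lift g (pt X T) ≫ a.act = pt X T := hg
    conv_lhs => rw [← hg']
    rw [act_act, inv_mul_cancel, one_act']

lemma mem_stabSubgroup (T : Over X.left) (g : overS X T ⟶ G) :
    g ∈ stabSubgroup a T ↔ lift g (pt X T) ≫ a.act = pt X T := Iff.rfl

/-- the stabilizer functor -/
noncomputable def stabFunctor : (Over X.left)ᵒᵖ ⥤ GrpCat.{u} where
  obj T := GrpCat.of (stabSubgroup a T.unop)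
  map {T T'} φ := GrpCat.ofHom
    { toFun := fun g => ⟨mapS X φ.unop ≫ g.1, by
        rw [mem_stabSubgroup, ← mapS_pt X φ.unop, ← comp_lift, Category.assoc]
        have := g.2
        rw [mem_stabSubgroup] at this
        rw [this]⟩
      map_one' := by
        apply Subtype.ext
        exact MonObj.comp_one _
      map_mul' := by
        intro g g'
        apply Subtype.ext
        exact MonObj.comp_mul _ _ _ }
  map_id T := by
    refine GrpCat.hom_ext (MonoidHom.ext fun g => Subtype.ext ?_)
    show mapS X (𝟙 T.unop) ≫ g.1 = g.1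
    have : mapS X (𝟙 T.unop) = 𝟙 _ := by ext; simp
    rw [this, Category.id_comp]
  map_comp {T T' T''} φ ψ := by
    refine GrpCat.hom_ext (MonoidHom.ext fun g => Subtype.ext ?_)
    show mapS X (φ ≫ ψ).unop ≫ g.1 = mapS X ψ.unop ≫ mapS X φ.unop ≫ g.1
    have : mapS X (φ ≫ ψ).unop = mapS X ψ.unop ≫ mapS X φ.unop := by ext; simp
    rw [this, Category.assoc]

/-- the structure map of the stabilizer -/
noncomputable abbrev stabπ : pullback (GIT.psi a (𝟙 X)).left (lift (𝟙 X) (𝟙 X)).left ⟶ X.left :=
  pullback.snd (GIT.psi a (𝟙 X)).left (lift (𝟙 X) (𝟙 X)).left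

theorem psi_id : GIT.psi a (𝟙 X) = lift a.act (snd G X) := by
  unfold GIT.psi
  rw [MonoidalCategory.whiskerLeft_id, Category.id_comp]

theorem psi_left_fst : (GIT.psi a (𝟙 X)).left ≫ (fst X X).left = a.act.left := by
  rw [← Over.comp_left, psi_id, lift_fst]

theorem psi_left_snd : (GIT.psi a (𝟙 X)).left ≫ (snd X X).left = (snd G X).left := by
  rw [← Over.comp_left, psi_id, lift_snd]

theorem diag_left_fst : (lift (𝟙 X) (𝟙 X)).left ≫ (fst X X).left = 𝟙 _ := by
  rw [← Over.comp_left, lift_fst]; rfl

theorem diag_left_snd : (lift (𝟙 X) (𝟙 X)).left ≫ (snd X X).left = 𝟙 _ := by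
  rw [← Over.comp_left, lift_snd]; rfl

section
variable {T : Over X.left} (t : T ⟶ Over.mk (stabπ a))

theorem t_snd : (t.left ≫ pullback.fst _ _) ≫ (snd G X).left = T.hom := by
  have h := Over.w t
  change t.left ≫ stabπ a = T.hom at h
  rw [Category.assoc, ← psi_left_snd, ← Category.assoc (pullback.fst _ _), pullback.condition,
    Category.assoc, diag_left_snd, Category.comp_id, h]

theorem t_act : (t.left ≫ pullback.fst _ _) ≫ a.act.left = T.hom := by
  have h := Over.w t
  change t.left ≫ stabπ a = T.hom at h
  rw [Category.assoc, ← psi_left_fst, ← Category.assoc (pullback.fst _ _), pullback.condition,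
    Category.assoc, diag_left_fst, Category.comp_id, h]

/-- the `G ⊗ X`-point attached to a point of the stabilizer -/
noncomputable def toPt : overS X T ⟶ G ⊗ X :=
  Over.homMk (t.left ≫ pullback.fst _ _) (by
    have h1 : (G ⊗ X).hom = (snd G X).left ≫ X.hom := (Over.w (snd G X)).symm
    rw [h1, ← Category.assoc, t_snd]
    rfl)

theorem toPt_snd : toPt a t ≫ snd G X = pt X T := by
  ext
  exact t_snd a t

theorem toPt_act : toPt a t ≫ a.act = pt X T := by
  ext
  exact t_act a t

theorem toPt_eq : toPt a t = lift (toPt a t ≫ fst G X) (pt X T) := by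
  apply CartesianMonoidalCategory.hom_ext
  · rw [lift_fst]
  · rw [lift_snd, toPt_snd]

end

/-- the stabilizer represents the stabilizer functor -/
noncomputable def stabRep : (stabFunctor a ⋙ forget GrpCat).RepresentableBy (Over.mk (stabπ a)) where
  homEquiv {T} :=
    { toFun := fun t => (⟨toPt a t ≫ fst G X, by
        rw [mem_stabSubgroup, ← toPt_eq, toPt_act]⟩ : stabSubgroup a T)
      invFun := fun g => Over.homMk (pullback.lift (lift g.1 (pt X T)).left T.hom (by
        have hg := g.2
        rw [mem_stabSubgroup] at hg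
        have h1 : lift g.1 (pt X T) ≫ GIT.psi a (𝟙 X) = pt X T ≫ lift (𝟙 X) (𝟙 X) := by
          rw [psi_id, comp_lift, hg, lift_snd, comp_lift, Category.comp_id]
        have h2 := congrArg (fun m => m.left) h1
        simp only [Over.comp_left] at h2
        exact h2)) (pullback.lift_snd _ _ _)
      left_inv := by
        intro t
        ext
        apply pullback.hom_ext
        · simp only [Over.homMk_left, pullback.lift_fst]
          rw [← toPt_eq]
          rfl
        · simp only [Over.homMk_left, pullback.lift_snd]
          exact (Over.w t).symm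
      right_inv := by
        intro g
        apply Subtype.ext
        show toPt a _ ≫ fst G X = g.1
        have key : ∀ (t : T ⟶ Over.mk (stabπ a)),
            t.left ≫ pullback.fst _ _ = (lift g.1 (pt X T)).left → toPt a t = lift g.1 (pt X T) := by
          intro t ht
          apply Over.OverMorphism.ext
          exact ht
        rw [key _ (by simp only [Over.homMk_left, pullback.lift_fst]), lift_fst] }
  homEquiv_comp {T T'} f t := by
    apply Subtype.ext
    show toPt a (f ≫ t) ≫ fst G X = mapS X f ≫ toPt a t ≫ fst G X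
    have : toPt a (f ≫ t) = mapS X f ≫ toPt a t := by
      apply Over.OverMorphism.ext
      simp [toPt]
    rw [this, Category.assoc]

/-- **the stabilizer is a group object over `X`.** -/
@[instance_reducible]
noncomputable def stabGrpObj : GrpObj (Over.mk (stabπ a)) :=
  GrpObj.ofRepresentableBy _ (stabFunctor a) (stabRep a)

end Groth.Agent.Lib.Helper54.StabGrp
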