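import Mathlib
import Groth.Agent.Lib.Helper6.ThickIsAffine
import Groth.Agent.Lib.Helper54.FSchNoeth

set_option autoImplicit false
set_option linter.style.haveILetI false
universe u
open AlgebraicGeometry CategoryTheory CategoryTheory.Limits

namespace Groth.Agent.Lib.Helper54.ThickCI

/-- ring-level: in a pushout square of commutative rings with `π` surjective with nilpotent
kernel and `ψ` surjective, the map `φ` is surjective. -/
theorem surjective_of_isPushout {B A B₀ A₀ : CommRingCat.{u}} (φ : B ⟶ A) (π : B ⟶ B₀)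
    (π' : A ⟶ A₀) (ψ : B₀ ⟶ A₀) (h : IsPushout φ π π' ψ) (hπ : Function.Surjective π.hom)
    (hnil : IsNilpotent (RingHom.ker π.hom)) (hψ : Function.Surjective ψ.hom) :
    Function.Surjective φ.hom := by
  set J : Ideal B := RingHom.ker π.hom with hJ
  set JA : Ideal A := J.map φ.hom with hJA
  -- the cocone A/JA
  let q : A →+* A ⧸ JA := Ideal.Quotient.mk JA
  have hker : ∀ b : B, π.hom b = 0 → (q.comp φ.hom) b = 0 := by
    intro b hb
    show Ideal.Quotient.mk JA (φ.hom b) = 0
    rw [Ideal.Quotient.eq_zero_iff_mem]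
    exact Ideal.mem_map_of_mem _ hb
  let ψ' : B₀ →+* A ⧸ JA := RingHom.liftOfSurjective π.hom hπ ⟨q.comp φ.hom, fun b hb => hker b hb⟩
  have hψ' : ψ'.comp π.hom = q.comp φ.hom := RingHom.liftOfRightInverse_comp _ _ _ _
  have hcomm : φ ≫ CommRingCat.ofHom q = π ≫ CommRingCat.ofHom ψ' := by
    ext b
    exact (RingHom.congr_fun hψ' b).symm
  -- descent map
  let d : A₀ ⟶ CommRingCat.of (A ⧸ JA) := h.desc (CommRingCat.ofHom q) (CommRingCat.ofHom ψ') hcomm
  have hd : π' ≫ d = CommRingCat.ofHom q := h.inl_desc _ _ _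
  have hkerπ' : ∀ a : A, π'.hom a = 0 → a ∈ JA := by
    intro a ha
    have := congrArg (fun f => f.hom a) hd
    simp only [CommRingCat.hom_comp, RingHom.comp_apply, CommRingCat.hom_ofHom] at this
    rw [ha, map_zero] at this
    exact Ideal.Quotient.eq_zero_iff_mem.mp this.symm
  -- A = range φ + JA
  have hsum : ∀ a : A, ∃ b : B, a - φ.hom b ∈ JA := by
    intro a
    obtain ⟨b₀, hb₀⟩ := hψ (π'.hom a)
    obtain ⟨b, rfl⟩ := hπ b₀
    refine ⟨b, hkerπ' _ ?_⟩
    have hw := congrArg (fun f => f.hom b) h.w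
    simp only [CommRingCat.hom_comp, RingHom.comp_apply] at hw
    rw [map_sub, hw, hb₀, sub_self]
  -- nilpotent Nakayama
  letI : Algebra B A := φ.hom.toAlgebra
  let N : Submodule B A := LinearMap.range (Algebra.linearMap B A)
  have h1 : N ⊔ J • (⊤ : Submodule B A) = ⊤ := by
    rw [eq_top_iff]
    intro a _
    obtain ⟨b, hb⟩ := hsum a
    have e : a = φ.hom b + (a - φ.hom b) := by ring
    rw [e]
    refine Submodule.add_mem_sup ⟨b, rfl⟩ ?_
    rw [Ideal.smul_top_eq_map]
    exact hb
  have hk : ∀ k : ℕ, N ⊔ (J ^ k) • (⊤ : Submodule B A) = ⊤ := by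
    intro k
    induction k with
    | zero => rw [pow_zero, Ideal.one_eq_top, Submodule.top_smul, sup_top_eq]
    | succ k ih =>
      rw [eq_top_iff]
      calc (⊤ : Submodule B A) = N ⊔ (J ^ k) • (⊤ : Submodule B A) := ih.symm
        _ = N ⊔ (J ^ k) • (N ⊔ J • (⊤ : Submodule B A)) := by rw [h1]
        _ = N ⊔ ((J ^ k) • N ⊔ (J ^ k) • (J • (⊤ : Submodule B A))) := by rw [Submodule.smul_sup]
        _ ≤ N ⊔ (J ^ (k + 1)) • (⊤ : Submodule B A) := by
          refine sup_le le_sup_left (sup_le (le_sup_of_le_left Submodule.smul_le_right) ?_)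
          rw [← Submodule.mul_smul, ← pow_succ]
          exact le_sup_right
  obtain ⟨m, hm⟩ := hnil
  have hN : N = ⊤ := by
    have := hk m
    rwa [hm, Ideal.zero_eq_bot, Submodule.bot_smul, sup_bot_eq] at this
  intro a
  have ha : a ∈ N := by rw [hN]; trivial
  obtain ⟨b, hb⟩ := ha
  exact ⟨b, hb⟩


open Groth.Agent.Lib.Helper54.FSchSpf in
/-- **closed immersions lift along nilpotent thickenings**: in a cartesian square with `j` a
surjective closed immersion with nilpotent ideal, if `f₀` is a closed immersion then so is `f`. -/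
theorem isClosedImmersion_of_isPullback_thickening {X Y X₀ Y₀ : Scheme.{u}}
    {i : X₀ ⟶ X} {f₀ : X₀ ⟶ Y₀} {f : X ⟶ Y} {j : Y₀ ⟶ Y} (sq : IsPullback i f₀ f j)
    [IsClosedImmersion j] (hj : Function.Surjective j) (m : ℕ) (hnil : j.ker ^ m = ⊥)
    [IsClosedImmersion f₀] : IsClosedImmersion f := by
  apply (IsZariskiLocalAtTarget.iff_of_openCover (P := @IsClosedImmersion) Y.affineCover).mpr
  intro a
  let o := Y.affineCover.f a
  show IsClosedImmersion (pullback.snd f o)
  let g := pullback.snd f o
  let j' := pullback.snd j o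
  let i' := pullback.fst g j'
  let w₀ := pullback.snd g j'
  haveI hj'ci : IsClosedImmersion j' :=
    MorphismProperty.of_isPullback (P := @IsClosedImmersion) (IsPullback.of_hasPullback j o) ‹_›
  haveI hjs : Surjective j := ⟨hj⟩
  haveI hj's : Surjective j' :=
    MorphismProperty.of_isPullback (P := @Surjective) (IsPullback.of_hasPullback j o) hjs
  haveI hV₀ : IsAffine (pullback j o) := isAffine_of_isAffineHom j'
  -- the square W₀ → X₀ over V₀ → Y₀
  have big : IsPullback (i' ≫ pullback.fst f o) w₀ f (j' ≫ o) :=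
    (IsPullback.of_hasPullback g j').paste_horiz (IsPullback.of_hasPullback f o)
  have hc : j' ≫ o = pullback.fst j o ≫ j := pullback.condition.symm
  rw [hc] at big
  let k : pullback g j' ⟶ X₀ := sq.lift (i' ≫ pullback.fst f o) (w₀ ≫ pullback.fst j o)
    (by rw [big.w, Category.assoc])
  have hk1 : k ≫ i = i' ≫ pullback.fst f o := sq.lift_fst _ _ _
  have hk2 : k ≫ f₀ = w₀ ≫ pullback.fst j o := sq.lift_snd _ _ _
  have left : IsPullback k w₀ f₀ (pullback.fst j o) :=
    IsPullback.of_right (by rw [hk1]; exact big) hk2 sq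
  haveI hw₀ : IsClosedImmersion w₀ :=
    MorphismProperty.of_isPullback (P := @IsClosedImmersion) left ‹_›
  haveI hW₀ : IsAffine (pullback g j') := isAffine_of_isAffineHom w₀
  haveI hi'ci : IsClosedImmersion i' :=
    MorphismProperty.of_isPullback (P := @IsClosedImmersion) (IsPullback.of_hasPullback g j').flip hj'ci
  haveI hi's : Surjective i' :=
    MorphismProperty.of_isPullback (P := @Surjective) (IsPullback.of_hasPullback g j').flip hj's
  haveI hW : IsAffine (pullback f o) :=
    Groth.Agent.Lib.Helper6.ThickIsAffine.isAffine_of_thickening i' hi's.surj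
  have hpo : IsPushout g.appTop j'.appTop i'.appTop w₀.appTop :=
    isPushout_appTop_of_isPullback (IsPullback.of_hasPullback g j')
  have hs1 : Function.Surjective j'.appTop.hom :=
    (IsClosedImmersion.isAffine_surjective_of_isAffine j').2
  have hs2 : Function.Surjective w₀.appTop.hom :=
    (IsClosedImmersion.isAffine_surjective_of_isAffine w₀).2
  have hker : j'.ker = j.ker.comap o :=
    ker_fst_of_isPullback (IsPullback.of_hasPullback j o).flip
  have hnil' : IsNilpotent (RingHom.ker j'.appTop.hom) := by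
    refine ⟨m, ?_⟩
    have h1 := Scheme.Hom.ker_apply j' ⟨⊤, isAffineOpen_top _⟩
    have h2 : (j'.ker ^ m).ideal ⟨⊤, isAffineOpen_top _⟩ = ⊥ := by
      rw [hker, ← comap_pow, hnil, comap_bot]
      rfl
    rw [Scheme.IdealSheafData.ideal_pow] at h2
    rw [Ideal.zero_eq_bot, ← h2]
    congr 1
    exact h1.symm
  exact IsClosedImmersion.of_surjective_of_isAffine g
    (surjective_of_isPushout _ _ _ _ hpo hs1 hnil' hs2)

end Groth.Agent.Lib.Helper54.ThickCI
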