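import Mathlib
import Groth.Prelude.Def_MoreMor
import Groth.Agent.Lib.Helper57.FOThick

/-!
# Base change of finite order thickenings (helper54)
-/

set_option autoImplicit false
universe u
open CategoryTheory CategoryTheory.Limits AlgebraicGeometry

namespace Groth.Agent.Lib.Helper54.ThickFinOrder

open Groth.Agent.Lib.Helper57.FOThick

variable {X Y : Scheme.{u}}

theorem comap_pow_succ (f : X ⟶ Y) (I : Y.IdealSheafData) (n : ℕ) :
    (I ^ (n + 1)).comap f = (I.comap f) ^ (n + 1) := by
  induction n with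
  | zero => rw [zero_add, pow_one, pow_one]
  | succ n ih => rw [pow_succ, comap_mul, ih, ← pow_succ]

theorem finiteOrder_of_isPullback {A B C D : Scheme.{u}} {a : A ⟶ B} {b : A ⟶ C} {c : B ⟶ D}
    {d : C ⟶ D} (h : IsPullback a b c d) (hd : MoreMor.IsFiniteOrderThickening d) :
    MoreMor.IsFiniteOrderThickening a := by
  obtain ⟨⟨h1, h2⟩, m, hm⟩ := hd
  refine ⟨⟨MorphismProperty.of_isPullback (P := @IsClosedImmersion) h.flip h1,
    MorphismProperty.of_isPullback (P := @Surjective) h.flip h2⟩, m + 1, ?_⟩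
  have hm' : d.ker ^ (m + 1) = ⊥ := by
    rw [pow_succ, hm]
    exact zero_mul _
  rw [ker_of_isPullback h.flip, ← comap_pow_succ, hm', Scheme.IdealSheafData.comap_bot]
  rfl

theorem finiteOrder_of_powZero {A B : Scheme.{u}} (j : A ⟶ B) (hj : MoreMor.IsThickening j)
    (n : ℕ) (h : j.ker ^ (n + 1) = ⊥) : MoreMor.IsFiniteOrderThickening j :=
  ⟨hj, n + 1, h⟩

end Groth.Agent.Lib.Helper54.ThickFinOrder
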