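import Mathlib
import Groth.Agent.Lib.Helper6.ThickIsAffine
import Groth.Agent.Lib.Helper62.NilpFlat

set_option autoImplicit false
universe u
open AlgebraicGeometry CategoryTheory CategoryTheory.Limits

namespace Groth.Agent.Lib.Helper54.ThickIso

/-- ring-level: in a pushout square of commutative rings with `π` surjective, the kernel of the
opposite leg `π'` is the extension of the kernel of `π`. -/
theorem ker_of_isPushout {B A B₀ A₀ : CommRingCat.{u}} (φ : B ⟶ A) (π : B ⟶ B₀)
    (π' : A ⟶ A₀) (ψ : B₀ ⟶ A₀) (h : IsPushout φ π π' ψ) (hπ : Function.Surjective π.hom) :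
    RingHom.ker π'.hom = (RingHom.ker π.hom).map φ.hom := by
  set J : Ideal B := RingHom.ker π.hom with hJ
  set JA : Ideal A := J.map φ.hom with hJA
  let q : A →+* A ⧸ JA := Ideal.Quotient.mk JA
  have hker : ∀ b : B, π.hom b = 0 → (q.comp φ.hom) b = 0 := by
    intro b hb
    show Ideal.Quotient.mk JA (φ.hom b) = 0
    rw [Ideal.Quotient.eq_zero_iff_mem]
    exact Ideal.mem_map_of_mem _ hb
  let ψ' : B₀ →+* A ⧸ JA := RingHom.liftOfSurjective π.hom hπ ⟨q.comp φ.hom, fun b hb => hker b hb⟩
  have hψ' : ψ'.comp π.hom = q.comp φ.hom := RingHom.liftOfRightInverse_comp _ _ _ _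
  have hcomm : φ ≫ CommRingCat.ofHom q = π ≫ CommRingCat.ofHom ψ' := by
    ext b
    exact (RingHom.congr_fun hψ' b).symm
  let d : A₀ ⟶ CommRingCat.of (A ⧸ JA) := h.desc (CommRingCat.ofHom q) (CommRingCat.ofHom ψ') hcomm
  have hd : π' ≫ d = CommRingCat.ofHom q := h.inl_desc _ _ _
  apply le_antisymm
  · intro a ha
    have ha' : π'.hom a = 0 := ha
    have := congrArg (fun f => f.hom a) hd
    simp only [CommRingCat.hom_comp, RingHom.comp_apply, CommRingCat.hom_ofHom] at this
    rw [ha', map_zero] at this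
    exact Ideal.Quotient.eq_zero_iff_mem.mp this.symm
  · rw [hJA, Ideal.map_le_iff_le_comap]
    intro b hb
    have hb' : π.hom b = 0 := hb
    show π'.hom (φ.hom b) = 0
    have hw := congrArg (fun f => f.hom b) h.w
    simp only [CommRingCat.hom_comp, RingHom.comp_apply] at hw
    rw [hw, hb', map_zero]

/-- ring-level: an `R`-algebra map `φ : B → C` with `C` flat over `R`, which becomes bijective after
base change along a surjection `R → R₀` with nilpotent kernel, is bijective. -/
theorem bijective_of_isPushout {R B C R₀ B₀ C₀ : CommRingCat.{u}}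
    (σ : R ⟶ B) (φ : B ⟶ C) (ρ : R ⟶ R₀) (β : B ⟶ B₀) (γ : C ⟶ C₀) (σ₀ : R₀ ⟶ B₀)
    (φ₀ : B₀ ⟶ C₀) (h1 : IsPushout σ ρ β σ₀) (h2 : IsPushout φ β γ φ₀)
    (hρ : Function.Surjective ρ.hom) (hβ : Function.Surjective β.hom)
    (hnil : IsNilpotent (RingHom.ker ρ.hom))
    (hflat : (σ ≫ φ).hom.Flat) (hφ₀ : Function.Bijective φ₀.hom) : Function.Bijective φ.hom := by
  have hkβ := ker_of_isPushout σ ρ β σ₀ h1 hρ
  have hkγ := ker_of_isPushout φ β γ φ₀ h2 hβ
  rw [hkβ, Ideal.map_map] at hkγ
  let _ : Algebra R B := σ.hom.toAlgebra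
  let _ : Algebra R C := (σ ≫ φ).hom.toAlgebra
  have hfl : Module.Flat R C := hflat
  let φl : B →ₗ[R] C :=
    { toFun := φ.hom
      map_add' := map_add _
      map_smul' := by
        intro r b
        simp only [Algebra.smul_def, RingHom.algebraMap_toAlgebra, map_mul, RingHom.id_apply]
        rfl }
  have hmemB : ∀ b : B, b ∈ (RingHom.ker ρ.hom) • (⊤ : Submodule R B) ↔ β.hom b = 0 := by
    intro b
    rw [Ideal.smul_top_eq_map, Submodule.restrictScalars_mem, RingHom.algebraMap_toAlgebra,
      ← hkβ, RingHom.mem_ker]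
  have hmemC : ∀ c : C, c ∈ (RingHom.ker ρ.hom) • (⊤ : Submodule R C) ↔ γ.hom c = 0 := by
    intro c
    rw [Ideal.smul_top_eq_map, Submodule.restrictScalars_mem, RingHom.algebraMap_toAlgebra]
    show c ∈ Ideal.map (σ ≫ φ).hom _ ↔ _
    rw [CommRingCat.hom_comp, ← hkγ, RingHom.mem_ker]
  have hw : ∀ b : B, γ.hom (φ.hom b) = φ₀.hom (β.hom b) := by
    intro b
    have hw := congrArg (fun f => f.hom b) h2.w
    simpa only [CommRingCat.hom_comp, RingHom.comp_apply] using hw
  have := Groth.Agent.Lib.Helper62.bijective_of_flat_of_isNilpotent (RingHom.ker ρ.hom) hnil φl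
    (by
      intro c
      obtain ⟨b₀, hb₀⟩ := hφ₀.2 (γ.hom c)
      obtain ⟨b, rfl⟩ := hβ b₀
      refine ⟨b, ?_⟩
      rw [hmemC]
      show γ.hom (c - φ.hom b) = 0
      rw [map_sub, hw, hb₀, sub_self])
    (by
      intro b hb
      rw [hmemC] at hb
      rw [hmemB]
      apply hφ₀.1
      rw [map_zero, ← hw]
      exact hb)
  exact this

/-- **isomorphisms lift along nilpotent thickenings of the base** (affine target): `f : X ⟶ Y` over
an affine `S`, with `X` flat over `S`, `Y` affine, and `i : S₀ ⟶ S` a nilpotent thickening of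
affine schemes. If the base change `f₀` of `f` to `S₀` is an isomorphism then so is `f`. -/
theorem isIso_of_isPullback_of_isAffine {X Y S X₀ Y₀ S₀ : Scheme.{u}} [IsAffine S] [IsAffine S₀]
    [IsAffine Y] (f : X ⟶ Y) (s : Y ⟶ S) (i : S₀ ⟶ S) [IsClosedImmersion i] [Surjective i]
    (hnil : IsNilpotent (RingHom.ker i.appTop.hom))
    (j : Y₀ ⟶ Y) (s₀ : Y₀ ⟶ S₀) (hY : IsPullback j s₀ s i)
    (i' : X₀ ⟶ X) (f₀ : X₀ ⟶ Y₀) (hX : IsPullback i' f₀ f j)
    [Flat (f ≫ s)] [IsIso f₀] : IsIso f := by
  have hjci : IsClosedImmersion j :=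
    MorphismProperty.of_isPullback (P := @IsClosedImmersion) hY.flip ‹_›
  have hjs : Surjective j :=
    MorphismProperty.of_isPullback (P := @Surjective) hY.flip ‹_›
  have hY₀ : IsAffine Y₀ := isAffine_of_isAffineHom j
  have hX₀ : IsAffine X₀ := IsAffine.of_isIso f₀
  have hi'ci : IsClosedImmersion i' :=
    MorphismProperty.of_isPullback (P := @IsClosedImmersion) hX.flip hjci
  have hi's : Surjective i' :=
    MorphismProperty.of_isPullback (P := @Surjective) hX.flip hjs
  have hXa : IsAffine X :=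
    Groth.Agent.Lib.Helper6.ThickIsAffine.isAffine_of_thickening i' hi's.surj
  have hpo1 : IsPushout s.appTop i.appTop j.appTop s₀.appTop :=
    isPushout_appTop_of_isPullback hY
  have hpo2 : IsPushout f.appTop j.appTop i'.appTop f₀.appTop :=
    isPushout_appTop_of_isPullback hX
  have hρ : Function.Surjective i.appTop.hom :=
    (IsClosedImmersion.isAffine_surjective_of_isAffine i).2
  have hβ : Function.Surjective j.appTop.hom :=
    (IsClosedImmersion.isAffine_surjective_of_isAffine j).2
  have hfl : (s.appTop ≫ f.appTop).hom.Flat := by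
    have := Scheme.Hom.flat_appTop (f ≫ s)
    rwa [Scheme.Hom.comp_appTop] at this
  have hφ₀ : Function.Bijective f₀.appTop.hom :=
    (ConcreteCategory.isIso_iff_bijective _).mp (inferInstanceAs (IsIso (f₀.app ⊤)))
  have hbij := bijective_of_isPushout s.appTop f.appTop i.appTop j.appTop i'.appTop s₀.appTop
    f₀.appTop hpo1 hpo2 hρ hβ hnil hfl hφ₀
  have : IsIso f.appTop := (ConcreteCategory.isIso_iff_bijective _).mpr hbij
  exact (HasAffineProperty.iff_of_isAffine (P := MorphismProperty.isomorphisms Scheme)).mpr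
    ⟨hXa, this⟩

/-- **isomorphisms lift along nilpotent thickenings of the base**: `f : X ⟶ Y` over an affine `S`,
with `X` flat over `S`, and `i : S₀ ⟶ S` a nilpotent thickening of affine schemes. If the base
change `f₀` of `f` to `S₀` is an isomorphism then so is `f`. -/
theorem isIso_of_isPullback {X Y S X₀ Y₀ S₀ : Scheme.{u}} [IsAffine S] [IsAffine S₀]
    (f : X ⟶ Y) (s : Y ⟶ S) (i : S₀ ⟶ S) [IsClosedImmersion i] [Surjective i]
    (hnil : IsNilpotent (RingHom.ker i.appTop.hom))
    (j : Y₀ ⟶ Y) (s₀ : Y₀ ⟶ S₀) (hY : IsPullback j s₀ s i)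
    (i' : X₀ ⟶ X) (f₀ : X₀ ⟶ Y₀) (hX : IsPullback i' f₀ f j)
    [Flat (f ≫ s)] [IsIso f₀] : IsIso f := by
  show MorphismProperty.isomorphisms Scheme f
  apply (IsZariskiLocalAtTarget.iff_of_openCover (P := MorphismProperty.isomorphisms Scheme)
    Y.affineCover).mpr
  intro a
  let o := Y.affineCover.f a
  show IsIso (pullback.snd f o)
  let g := pullback.snd f o
  let j' := pullback.snd j o
  let i'' := pullback.fst g j'
  let w₀ := pullback.snd g j'
  -- the square V₀ → S₀ over V → S
  have hV : IsPullback j' (pullback.fst j o ≫ s₀) (o ≫ s) i :=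
    (IsPullback.of_hasPullback j o).flip.paste_vert hY
  -- the square W₀ → X₀ over V₀ → Y₀
  have big : IsPullback (i'' ≫ pullback.fst f o) w₀ f (j' ≫ o) :=
    (IsPullback.of_hasPullback g j').paste_horiz (IsPullback.of_hasPullback f o)
  have hc : j' ≫ o = pullback.fst j o ≫ j := pullback.condition.symm
  rw [hc] at big
  let k : pullback g j' ⟶ X₀ := hX.lift (i'' ≫ pullback.fst f o) (w₀ ≫ pullback.fst j o)
    (by rw [big.w, Category.assoc])
  have hk1 : k ≫ i' = i'' ≫ pullback.fst f o := hX.lift_fst _ _ _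
  have hk2 : k ≫ f₀ = w₀ ≫ pullback.fst j o := hX.lift_snd _ _ _
  have left : IsPullback k w₀ f₀ (pullback.fst j o) :=
    IsPullback.of_right (by rw [hk1]; exact big) hk2 hX
  have hw₀ : IsIso w₀ :=
    MorphismProperty.of_isPullback (P := MorphismProperty.isomorphisms Scheme) left
      (inferInstanceAs (IsIso f₀))
  have hfl : Flat (g ≫ o ≫ s) := by
    have : g ≫ o ≫ s = pullback.fst f o ≫ f ≫ s := by
      rw [← Category.assoc, ← pullback.condition, Category.assoc]
    rw [this]
    infer_instance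
  exact isIso_of_isPullback_of_isAffine g (o ≫ s) i hnil j' (pullback.fst j o ≫ s₀) hV i'' w₀
    (IsPullback.of_hasPullback g j')

theorem surjective_SpecMap_mk_of_isNilpotent {R : Type u} [CommRing R] (I : Ideal R)
    (hI : IsNilpotent I) :
    Surjective (Spec.map (CommRingCat.ofHom (Ideal.Quotient.mk I))) := by
  constructor
  intro x
  let x' : PrimeSpectrum R := x
  have hx : x' ∈ Set.range (PrimeSpectrum.comap (Ideal.Quotient.mk I)) := by
    rw [_root_.range_comap_of_surjective _ _ Ideal.Quotient.mk_surjective,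
      Ideal.mk_ker, PrimeSpectrum.mem_zeroLocus]
    intro j hj
    obtain ⟨n, hn⟩ := hI
    have : j ^ n ∈ x'.asIdeal := by
      have h1 : j ^ n ∈ I ^ n := Ideal.pow_mem_pow hj n
      rw [hn] at h1
      have h2 : j ^ n = 0 := h1
      rw [h2]; exact zero_mem _
    exact x'.isPrime.mem_of_pow_mem n this
  obtain ⟨y, hy⟩ := hx
  exact ⟨y, hy⟩

theorem isNilpotent_ker_appTop_SpecMap_mk {R : Type u} [CommRing R] (I : Ideal R)
    (hI : IsNilpotent I) :
    IsNilpotent (RingHom.ker
      (Spec.map (CommRingCat.ofHom (Ideal.Quotient.mk I))).appTop.hom) := by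
  obtain ⟨n, hn⟩ := hI
  refine ⟨n, ?_⟩
  rw [Ideal.zero_eq_bot, eq_bot_iff]
  have hle : RingHom.ker (Spec.map (CommRingCat.ofHom (Ideal.Quotient.mk I))).appTop.hom ≤
      I.map (Scheme.ΓSpecIso (CommRingCat.of R)).inv.hom := by
    intro x hx
    have hx' : (Spec.map (CommRingCat.ofHom (Ideal.Quotient.mk I))).appTop.hom x = 0 := hx
    have hnat := Scheme.ΓSpecIso_naturality (CommRingCat.ofHom (Ideal.Quotient.mk I))
    have h1 := congrArg (fun f => f.hom x) hnat
    simp only [CommRingCat.hom_comp, RingHom.comp_apply, CommRingCat.hom_ofHom] at h1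
    rw [hx', map_zero] at h1
    have h2 : (Scheme.ΓSpecIso (CommRingCat.of R)).hom.hom x ∈ I :=
      Ideal.Quotient.eq_zero_iff_mem.mp h1.symm
    have h3 : x = (Scheme.ΓSpecIso (CommRingCat.of R)).inv.hom
        ((Scheme.ΓSpecIso (CommRingCat.of R)).hom.hom x) := by
      have := congrArg (fun f => f.hom x) (Scheme.ΓSpecIso (CommRingCat.of R)).hom_inv_id
      exact this.symm
    rw [h3]
    exact Ideal.mem_map_of_mem _ h2
  calc _ ≤ (I.map (Scheme.ΓSpecIso (CommRingCat.of R)).inv.hom) ^ n := Ideal.pow_right_mono hle n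
    _ = ⊥ := by rw [← Ideal.map_pow, hn, Ideal.zero_eq_bot, Ideal.map_bot]

/-- `Over` form of `isIso_of_isPullback` for `Spec (R/I) ⟶ Spec R` with `I` nilpotent. -/
theorem isIso_of_isIso_overPullback {R : Type u} [CommRing R] (I : Ideal R) (hI : IsNilpotent I)
    {X Y : Over (Spec (CommRingCat.of R))} (f : X ⟶ Y) [Flat X.hom]
    [IsIso ((Over.pullback (Spec.map (CommRingCat.ofHom (Ideal.Quotient.mk I)))).map f)] :
    IsIso f := by
  set i := Spec.map (CommRingCat.ofHom (Ideal.Quotient.mk I)) with hi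
  have hs : Surjective i := surjective_SpecMap_mk_of_isNilpotent I hI
  have hci : IsClosedImmersion i :=
    IsClosedImmersion.spec_of_surjective _ Ideal.Quotient.mk_surjective
  have hnil := isNilpotent_ker_appTop_SpecMap_mk I hI
  have hf₀ : IsIso ((Over.pullback i).map f).left :=
    inferInstanceAs (IsIso ((Over.forget _).map ((Over.pullback i).map f)))
  have hY : IsPullback (pullback.fst Y.hom i) (pullback.snd Y.hom i) Y.hom i :=
    IsPullback.of_hasPullback _ _
  have hw2 : ((Over.pullback i).map f).left ≫ pullback.snd Y.hom i = pullback.snd X.hom i := by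
    dsimp [Over.pullback]
    exact pullback.lift_snd _ _ _
  have hw1 : ((Over.pullback i).map f).left ≫ pullback.fst Y.hom i =
      pullback.fst X.hom i ≫ f.left := by
    dsimp [Over.pullback]
    exact pullback.lift_fst _ _ _
  have hX : IsPullback (pullback.fst X.hom i) ((Over.pullback i).map f).left f.left
      (pullback.fst Y.hom i) := by
    refine IsPullback.of_bot ?_ hw1.symm hY
    rw [hw2, Over.w f]
    exact IsPullback.of_hasPullback _ _
  have hfl : Flat (f.left ≫ Y.hom) := by rw [Over.w f]; infer_instance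
  have : IsIso f.left :=
    isIso_of_isPullback f.left Y.hom i hnil _ _ hY _ _ hX
  have : IsIso ((Over.forget _).map f) := this
  exact isIso_of_reflects_iso f (Over.forget _)

end Groth.Agent.Lib.Helper54.ThickIso
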