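import Mathlib
import Groth.Agent.Lib.Helper54.GeomQuotDescent2

set_option autoImplicit false
universe u
open CategoryTheory MonoidalCategory CartesianMonoidalCategory MonObj AlgebraicGeometry Limits Topology

namespace Groth.Agent.Lib.Helper54.UnivCatQuot

open Groth.Agent.Lib.Helper81.SecA1 Groth.Agent.Lib.Helper54.GeomQuotDescent

variable {S : Scheme.{u}}

/-- pullback squares in `Over S` can be checked in `Scheme` -/
theorem isPullback_over {A B C D : Over S} {f : A ⟶ B} {g : A ⟶ C} {h : B ⟶ D} {i : C ⟶ D}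
    (comm : f ≫ h = g ≫ i) (H : IsPullback f.left g.left h.left i.left) : IsPullback f g h i :=
  IsPullback.of_map (Over.forget S) comm H

/-- the object of `Over S` representing global functions -/
noncomputable abbrev A1S (S : Scheme.{u}) : Over S := (Over.star S).obj A1.{u}

/-- global functions on `T.left` as morphisms to `A1S` -/
noncomputable def fn {T : Over S} : Γ(T.left, ⊤) ≃ (T ⟶ A1S S) :=
  (Equiv.ofBijective sec ⟨sec_injective, fun φ => sec_surjective φ⟩).trans
    ((Over.forgetAdjStar S).homEquiv T A1.{u})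

theorem comp_fn {T' T : Over S} (m : T' ⟶ T) (f : Γ(T.left, ⊤)) :
    m ≫ fn f = fn (m.left.appTop f) := by
  unfold fn
  simp only [Equiv.trans_apply, Equiv.ofBijective_apply]
  rw [← comp_sec]
  exact ((Over.forgetAdjStar S).homEquiv_naturality_left m (sec f)).symm

variable {G : Over S} [GrpObj G]

/-- **Lemma L**: for a categorical quotient, global functions on `Y` are the invariant global functions
on `X`. -/
theorem appTop_of_isCatQuot {X Y : Over S} (a : AlgGrp.Action G X) (φ : X ⟶ Y)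
    (h : GIT.IsCatQuot a φ) :
    Function.Injective φ.left.appTop ∧
      Set.range φ.left.appTop = {f | a.act.left.appTop f = (snd G X).left.appTop f} := by
  have hinv : a.act ≫ φ = snd G X ≫ φ := h.1
  refine ⟨?_, ?_⟩
  · intro g₁ g₂ h12
    have hψ : GIT.IsInvariant a (φ ≫ fn g₁) := by
      show a.act ≫ φ ≫ fn g₁ = snd G X ≫ φ ≫ fn g₁
      rw [← Category.assoc, hinv, Category.assoc]
    obtain ⟨χ, -, hχ⟩ := h.2 (A1S S) (φ ≫ fn g₁) hψ
    have e1 := hχ (fn g₁) rfl
    have e2 := hχ (fn g₂) (by show φ ≫ fn g₂ = φ ≫ fn g₁; rw [comp_fn, comp_fn, h12])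
    exact fn.injective (e1.trans e2.symm)
  · apply Set.Subset.antisymm
    · rintro _ ⟨g, rfl⟩
      show a.act.left.appTop (φ.left.appTop g) = (snd G X).left.appTop (φ.left.appTop g)
      have e := congrArg (fun m => m.left.appTop g) hinv
      simp only [Over.comp_left, Scheme.Hom.comp_appTop, CommRingCat.comp_apply] at e
      exact e
    · intro f hf
      have hf' : a.act.left.appTop f = (snd G X).left.appTop f := hf
      have hψ : GIT.IsInvariant a (fn f) := by
        show a.act ≫ fn f = snd G X ≫ fn f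
        rw [comp_fn, comp_fn, hf']
      obtain ⟨χ, hχ, -⟩ := h.2 (A1S S) (fn f) hψ
      refine ⟨fn.symm χ, ?_⟩
      apply fn.injective
      rw [← comp_fn, Equiv.apply_symm_apply]
      exact hχ

section BaseChange
variable {X Y : Over S} (a : AlgGrp.Action G X) (φ : X ⟶ Y)

/-- base change of a universal categorical quotient along a scheme-level pullback square -/
theorem catQuot_baseChange (h : GIT.IsUnivCatQuot a φ) {X₁S Y₁S : Scheme.{u}} (prS : X₁S ⟶ X.left)
    (φS : X₁S ⟶ Y₁S) (gS : Y₁S ⟶ Y.left) (H : IsPullback prS φS φ.left gS) :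
    ∃ (w : φS ≫ gS ≫ Y.hom = prS ≫ X.hom) (a₁ : AlgGrp.Action G (Over.mk (prS ≫ X.hom))),
      a₁.act ≫ (Over.homMk prS rfl : Over.mk (prS ≫ X.hom) ⟶ X) = (G ◁ Over.homMk prS rfl) ≫ a.act ∧
      GIT.IsCatQuot a₁ (Over.homMk φS w : Over.mk (prS ≫ X.hom) ⟶ Over.mk (gS ≫ Y.hom)) := by
  have w : φS ≫ gS ≫ Y.hom = prS ≫ X.hom := by
    rw [← Category.assoc, ← H.w, Category.assoc, Over.w]
  have comm : (Over.homMk prS rfl : Over.mk (prS ≫ X.hom) ⟶ X) ≫ φ =
      (Over.homMk φS w : Over.mk (prS ≫ X.hom) ⟶ Over.mk (gS ≫ Y.hom)) ≫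
        (Over.homMk gS rfl : Over.mk (gS ≫ Y.hom) ⟶ Y) := by
    apply Over.OverMorphism.ext
    simp only [Over.comp_left, Over.homMk_left]
    exact H.w
  have hpb : IsPullback (Over.homMk prS rfl : Over.mk (prS ≫ X.hom) ⟶ X)
      (Over.homMk φS w : Over.mk (prS ≫ X.hom) ⟶ Over.mk (gS ≫ Y.hom)) φ
      (Over.homMk gS rfl : Over.mk (gS ≫ Y.hom) ⟶ Y) := isPullback_over comm H
  obtain ⟨a₁, ha₁, hinv₁⟩ := exists_pullback_action a φ h.1.1 _ _ _ hpb
  exact ⟨w, a₁, ha₁, h.2 _ _ _ trivial hpb a₁ ha₁ hinv₁⟩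

/-- **(1)** a universal categorical quotient is surjective -/
theorem surjective_of_isUnivCatQuot (h : GIT.IsUnivCatQuot a φ) : Function.Surjective φ.left.base := by
  intro y
  obtain ⟨w, a₁, -, hq⟩ := catQuot_baseChange a φ h _ _ _
    (IsPullback.of_hasPullback φ.left (Y.left.fromSpecResidueField y))
  have hinj := (appTop_of_isCatQuot a₁ _ hq).1
  change Function.Injective (pullback.snd φ.left (Y.left.fromSpecResidueField y)).appTop at hinj
  by_cases hne : Nonempty ↥(pullback φ.left (Y.left.fromSpecResidueField y))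
  · obtain ⟨z⟩ := hne
    refine ⟨(pullback.fst φ.left (Y.left.fromSpecResidueField y)).base z, ?_⟩
    have h1 := base_congr (pullback.condition (f := φ.left) (g := Y.left.fromSpecResidueField y)) z
    change φ.left.base ((pullback.fst φ.left (Y.left.fromSpecResidueField y)).base z) =
      (Y.left.fromSpecResidueField y).base ((pullback.snd φ.left (Y.left.fromSpecResidueField y)).base z)
      at h1
    rw [h1]
    exact Scheme.fromSpecResidueField_apply _ _
  · exfalso
    rw [not_nonempty_iff] at hne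
    have htop : (⊤ : (pullback φ.left (Y.left.fromSpecResidueField y)).Opens) = ⊥ := by
      ext z; exact (hne.false z).elim
    have hsub : Subsingleton Γ(pullback φ.left (Y.left.fromSpecResidueField y), ⊤) := by
      rw [htop]; infer_instance
    have h01 : (0 : Γ(Spec (Y.left.residueField y), ⊤)) = 1 := hinj (Subsingleton.elim _ _)
    have hnt : Nontrivial Γ(Spec (Y.left.residueField y), ⊤) :=
      (Scheme.ΓSpecIso (Y.left.residueField y)).commRingCatIsoToRingEquiv.nontrivial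
    exact zero_ne_one h01

end BaseChange

section Sections
variable {X Y : Over S} (a : AlgGrp.Action G X) (φ : X ⟶ Y)

theorem sec_appLE_ι {T : Scheme.{u}} (V : T.Opens) (f : Γ(T, V)) :
    sec (V.ι.appLE V ⊤ (mem_of_ι V) f) = val' V.ι f := by
  rw [val'_eq V.ι (mem_of_ι V)]
  rfl

/-- **(2)** for a universal categorical quotient, `O_Y` is the sheaf of invariant functions -/
theorem sections_of_isUnivCatQuot (h : GIT.IsUnivCatQuot a φ) (U : Y.left.Opens) :
    Function.Injective (φ.left.app U) ∧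
      Set.range (φ.left.app U) = {f | GIT.IsInvSection a φ U f} := by
  obtain ⟨w, a₁, ha₁, hq⟩ := catQuot_baseChange a φ h _ _ _ (isPullback_morphismRestrict φ.left U).flip
  obtain ⟨hinj, hrange⟩ := appTop_of_isCatQuot a₁ _ hq
  change Function.Injective (φ.left ∣_ U).appTop at hinj
  have hA : ∀ g : Γ(Y.left, U), (φ.left ∣_ U).appTop (U.ι.appLE U ⊤ (mem_of_ι U) g) =
      (φ.left ⁻¹ᵁ U).ι.appLE (φ.left ⁻¹ᵁ U) ⊤ (mem_of_ι _) (φ.left.app U g) := by
    intro g
    apply sec_injective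
    rw [← comp_sec, sec_appLE_ι, sec_appLE_ι, val'_ι_app]
  refine ⟨?_, ?_⟩
  · intro g₁ g₂ h12
    apply ι_appLE_injective U
    apply hinj
    rw [hA, hA, h12]
  · apply Set.Subset.antisymm
    · rintro _ ⟨g, rfl⟩
      exact invSec_app h.1.1.left U g
    · intro f hf
      have hf' : InvSec a.act.left (snd G X).left φ.left U f := hf
      have ha₁' : a₁.act.left ≫ (φ.left ⁻¹ᵁ U).ι =
          (G ◁ (Over.homMk (φ.left ⁻¹ᵁ U).ι rfl : Over.mk ((φ.left ⁻¹ᵁ U).ι ≫ X.hom) ⟶ X)).left ≫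
            a.act.left := by
        have := congrArg (fun m => m.left) ha₁
        simpa only [Over.comp_left, Over.homMk_left] using this
      have hsnd : (snd G (Over.mk ((φ.left ⁻¹ᵁ U).ι ≫ X.hom))).left ≫ (φ.left ⁻¹ᵁ U).ι =
          (G ◁ (Over.homMk (φ.left ⁻¹ᵁ U).ι rfl : Over.mk ((φ.left ⁻¹ᵁ U).ι ≫ X.hom) ⟶ X)).left ≫
            (snd G X).left := by
        have := congrArg (fun m => m.left)
          (whiskerLeft_snd G (Over.homMk (φ.left ⁻¹ᵁ U).ι rfl :
            Over.mk ((φ.left ⁻¹ᵁ U).ι ≫ X.hom) ⟶ X))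
        simpa only [Over.comp_left, Over.homMk_left] using this.symm
      have hmem : (φ.left ⁻¹ᵁ U).ι.appLE (φ.left ⁻¹ᵁ U) ⊤ (mem_of_ι _) f ∈
          Set.range (φ.left ∣_ U).appTop := by
        change _ ∈ Set.range (Over.homMk (φ.left ∣_ U) w :
          Over.mk ((φ.left ⁻¹ᵁ U).ι ≫ X.hom) ⟶ Over.mk (U.ι ≫ Y.hom)).left.appTop
        rw [hrange]
        show a₁.act.left.appTop _ = (snd G _).left.appTop _
        apply sec_injective
        rw [← comp_sec, ← comp_sec, sec_appLE_ι, comp_val' _ _ (mem_of_ι _), comp_val' _ _ (mem_of_ι _),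
          ha₁', hsnd]
        apply hf'.val'
        · rw [← ha₁']
          intro z _
          exact ((a₁.act.left).base z).2
        · rw [← hsnd]
          intro z _
          exact ((snd G (Over.mk ((φ.left ⁻¹ᵁ U).ι ≫ X.hom))).left.base z).2
      obtain ⟨g₀, hg₀⟩ := hmem
      obtain ⟨g, rfl⟩ := ι_appLE_surjective U g₀
      refine ⟨g, ?_⟩
      apply ι_appLE_injective (φ.left ⁻¹ᵁ U)
      rw [← hA]
      exact hg₀

end Sections

section Univ

theorem isPullback_whiskerLeft_snd {C : Type*} [Category C] [CartesianMonoidalCategory C] (U : C)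
    {X Y : C} (f : X ⟶ Y) : IsPullback (U ◁ f) (snd U X) (snd U Y) f := by
  refine ⟨⟨by simp⟩, ⟨PullbackCone.IsLimit.mk _ (fun s => lift (s.fst ≫ fst U Y) s.snd) ?_ ?_ ?_⟩⟩
  · intro s
    apply CartesianMonoidalCategory.hom_ext
    · simp
    · simp [s.condition]
  · intro s; simp
  · intro s m h1 h2
    apply CartesianMonoidalCategory.hom_ext
    · simp [← h1]
    · simp [← h2]

theorem orbit_baseChange {GX X Y GX₁ X₁ Y₁ : Scheme.{u}} (σ p₂ : GX ⟶ X) (φ : X ⟶ Y)
    (hinv : σ ≫ φ = p₂ ≫ φ) (σ₁ p₂₁ : GX₁ ⟶ X₁) (φ₁ : X₁ ⟶ Y₁) (hinv₁ : σ₁ ≫ φ₁ = p₂₁ ≫ φ₁)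
    (g : Y₁ ⟶ Y) (pr₁ : X₁ ⟶ X) (prG : GX₁ ⟶ GX) (hpb : IsPullback pr₁ φ₁ φ g)
    (hσ : σ₁ ≫ pr₁ = prG ≫ σ) (hG : IsPullback prG p₂₁ p₂ pr₁)
    (h : Function.Surjective (pullback.lift σ p₂ hinv).base) :
    Function.Surjective (pullback.lift σ₁ p₂₁ hinv₁).base := by
  have hm : (pullback.fst φ₁ φ₁ ≫ pr₁) ≫ φ = (pullback.snd φ₁ φ₁ ≫ pr₁) ≫ φ := by
    rw [Category.assoc, Category.assoc, hpb.w, ← Category.assoc, ← Category.assoc,
      pullback.condition]
  -- P
  have hPc := pullback.condition (f := pullback.lift σ p₂ hinv) (g := pullback.lift _ _ hm)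
  have hl : pullback.fst (pullback.lift σ p₂ hinv) (pullback.lift _ _ hm) ≫ p₂ =
      (pullback.snd (pullback.lift σ p₂ hinv) (pullback.lift _ _ hm) ≫ pullback.snd φ₁ φ₁) ≫ pr₁ := by
    have := congrArg (fun t => t ≫ pullback.snd φ φ) hPc
    simpa only [Category.assoc, pullback.lift_snd] using this
  have hl' : pullback.fst (pullback.lift σ p₂ hinv) (pullback.lift _ _ hm) ≫ σ =
      (pullback.snd (pullback.lift σ p₂ hinv) (pullback.lift _ _ hm) ≫ pullback.fst φ₁ φ₁) ≫ pr₁ := by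
    have := congrArg (fun t => t ≫ pullback.fst φ φ) hPc
    simpa only [Category.assoc, pullback.lift_fst] using this
  have hkey : hG.lift _ _ hl ≫ pullback.lift σ₁ p₂₁ hinv₁ =
      pullback.snd (pullback.lift σ p₂ hinv) (pullback.lift _ _ hm) := by
    apply pullback.hom_ext
    · rw [Category.assoc, pullback.lift_fst]
      apply hpb.hom_ext
      · rw [Category.assoc, hσ, ← Category.assoc, hG.lift_fst, hl', Category.assoc]
      · rw [Category.assoc, hinv₁, ← Category.assoc, hG.lift_snd, Category.assoc, Category.assoc,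
          pullback.condition]
    · rw [Category.assoc, pullback.lift_snd, hG.lift_snd]
  intro z₁
  obtain ⟨w, hw⟩ := h ((pullback.lift _ _ hm).base z₁)
  obtain ⟨p, hp1, hp2⟩ := Scheme.Pullback.exists_preimage_pullback
    (f := pullback.lift σ p₂ hinv) (g := pullback.lift _ _ hm) w z₁ hw
  refine ⟨(hG.lift _ _ hl).base p, ?_⟩
  have := base_congr hkey p
  change (pullback.lift σ₁ p₂₁ hinv₁).base ((hG.lift _ _ hl).base p) = _ at this
  rw [this]
  exact hp2

variable {G : Over S} [GrpObj G] {X Y : Over S} (a : AlgGrp.Action G X) (φ : X ⟶ Y)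

theorem isUnivCatQuot_baseChange (h : GIT.IsUnivCatQuot a φ) {X₁ Y₁ : Over S} (pr₁ : X₁ ⟶ X)
    (φ₁ : X₁ ⟶ Y₁) (g : Y₁ ⟶ Y) (hpb₁ : IsPullback pr₁ φ₁ φ g) (a₁ : AlgGrp.Action G X₁)
    (heq₁ : a₁.act ≫ pr₁ = (G ◁ pr₁) ≫ a.act) (hinv₁ : GIT.IsInvariant a₁ φ₁) :
    GIT.IsUnivCatQuot a₁ φ₁ := by
  refine ⟨h.2 pr₁ φ₁ g trivial hpb₁ a₁ heq₁ hinv₁, ?_⟩
  intro X₂ Y₂ pr₂ φ₂ g₂ _ hpb₂ a₂ heq₂ hinv₂
  refine h.2 (pr₂ ≫ pr₁) φ₂ (g₂ ≫ g) trivial (hpb₂.paste_horiz hpb₁) a₂ ?_ hinv₂
  rw [← Category.assoc, heq₂, Category.assoc, heq₁, ← Category.assoc,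
    ← MonoidalCategory.whiskerLeft_comp]

/-- **(3)** -/
theorem isUnivGeomQuot_iff (h : GIT.IsUnivCatQuot a φ) :
    GIT.IsUnivGeomQuot a φ ↔
      GIT.IsUnivSubmersive φ.left ∧ Function.Surjective (GIT.PsiY a φ h.1.1).base := by
  constructor
  · intro h'
    exact ⟨h'.1.subm, h'.1.orbit⟩
  · rintro ⟨hsub, horb⟩
    refine ⟨⟨h.1.1, surjective_of_isUnivCatQuot a φ h, horb, hsub,
      sections_of_isUnivCatQuot a φ h⟩, ?_⟩
    intro X₁ Y₁ pr₁ φ₁ g _ hpb₁ a₁ heq₁ hinv₁
    have h₁ := isUnivCatQuot_baseChange a φ h pr₁ φ₁ g hpb₁ a₁ heq₁ hinv₁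
    have hpb₁S : IsPullback pr₁.left φ₁.left φ.left g.left := hpb₁.map (Over.forget S)
    have hσ : a₁.act.left ≫ pr₁.left = (G ◁ pr₁).left ≫ a.act.left := by
      rw [← Over.comp_left, ← Over.comp_left, heq₁]
    have hG : IsPullback (G ◁ pr₁).left (snd G X₁).left (snd G X).left pr₁.left :=
      (isPullback_whiskerLeft_snd G pr₁).map (Over.forget S)
    refine ⟨hinv₁, surjective_of_isUnivCatQuot a₁ φ₁ h₁, ?_, ?_, sections_of_isUnivCatQuot a₁ φ₁ h₁⟩
    · exact orbit_baseChange a.act.left (snd G X).left φ.left h.1.1.left a₁.act.left (snd G X₁).left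
        φ₁.left hinv₁.left g.left pr₁.left (G ◁ pr₁).left hpb₁S hσ hG horb
    · exact MorphismProperty.of_isPullback
        (P := MorphismProperty.universally (topologically @IsQuotientMap)) hpb₁S hsub

end Univ

end Groth.Agent.Lib.Helper54.UnivCatQuot
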